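import Groth.Agent.Lib.FlatOff.InfinitesimalMain
import Groth.Agent.Lib.FlatOffHens1.Faithful
import Groth.Agent.Lib.DualRing.CanonStalk
import Groth.Agent.Lib.CritMod6.Alg
import Groth.Agent.Lib.FreeOff.Basic

/-!
# Relative `(S₂)` at the closed point of a local homomorphism
-/

set_option autoImplicit false
set_option linter.all false
set_option backward.isDefEq.respectTransparency false
set_option maxHeartbeats 1000000

universe u

open IsLocalRing TensorProduct Function

namespace GrothLib.ArtCrit20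

/-- `(S_k)` along a semilinear bijection. -/
theorem hasSk_semilinear {R S : Type u} [CommRing R] [CommRing S] [IsNoetherianRing R] {M N : Type u}
    [AddCommGroup M] [Module R M] [Module.Finite R M] [AddCommGroup N] [Module S N] (σ : R ≃+* S) (e : M ≃+ N)
    (he : ∀ (r : R) (x : M), e (r • x) = σ r • e x) {k : ℕ} (h : LocCoh.HasSk k R M) : LocCoh.HasSk k S N := by
  letI : Algebra R S := σ.toRingHom.toAlgebra
  letI : Module R N := Module.compHom N σ.toRingHom
  haveI : IsScalarTower R S N := IsScalarTower.of_algebraMap_smul fun _ _ => rfl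
  let g : M →ₗ[R] N := { toFun := e, map_add' := map_add e, map_smul' := he }
  haveI : IsLocalization (⊥ : Submonoid R) S := by
    refine ⟨fun y => ?_, fun z => ⟨⟨σ.symm z, 1⟩, ?_⟩, fun {a b} hab => ⟨1, ?_⟩⟩
    · obtain ⟨y, rfl⟩ := y
      simp only [map_one, isUnit_one]
    · simp [RingHom.algebraMap_toAlgebra]
    · simpa [RingHom.algebraMap_toAlgebra] using hab
  haveI : IsLocalizedModule (⊥ : Submonoid R) g := by
    refine ⟨fun y => ?_, fun z => ⟨⟨e.symm z, 1⟩, ?_⟩, fun {a b} hab => ⟨1, ?_⟩⟩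
    · obtain ⟨y, rfl⟩ := y
      simp
    · simp [g]
    · simpa [g] using hab
  intro P _
  exact (GrothLib.DualRing.skCond_iff_of_isLocalizedModule (⊥ : Submonoid R) g k P).2 (h _)

/-- Flat, with `(S_k)` reduction modulo the maximal ideal of the base. -/
def Good (k : ℕ) {A B : Type u} [CommRing A] [IsLocalRing A] [CommRing B] (ι : A →+* B) (M : Type u)
    [AddCommGroup M] [Module B M] : Prop :=
  (letI := Module.compHom M ι; Module.Flat A M) ∧
    LocCoh.HasSk k (B ⧸ (maximalIdeal A).map ι) (M ⧸ ((maximalIdeal A).map ι • ⊤ : Submodule B M))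

/-- Semilinear quotients. -/
theorem exists_quot_equiv {B B' : Type u} [CommRing B] [CommRing B'] {M M' : Type u} [AddCommGroup M] [Module B M]
    [AddCommGroup M'] [Module B' M'] (θ : B ≃+* B') (e : M ≃+ M') (he : ∀ b x, e (b • x) = θ b • e x)
    (I : Ideal B) (I' : Ideal B') (hI : I.map θ.toRingHom = I') :
    ∃ (θ' : (B ⧸ I) ≃+* (B' ⧸ I')) (e' : (M ⧸ (I • ⊤ : Submodule B M)) ≃+ (M' ⧸ (I' • ⊤ : Submodule B' M'))),
      ∀ b x, e' (b • x) = θ' b • e' x := by
  subst hI
  let P : Submodule B M := I • ⊤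
  let P' : Submodule B' M' := I.map θ.toRingHom • ⊤
  have h1 : P.toAddSubgroup.map e.toAddMonoidHom = P'.toAddSubgroup := by
    refine le_antisymm ?_ ?_
    · rintro _ ⟨x, hx, rfl⟩
      refine Submodule.smul_induction_on hx (fun r hr y _ => ?_) fun a b ha hb => ?_
      · show e (r • y) ∈ P'
        rw [he]
        exact Submodule.smul_mem_smul (Ideal.mem_map_of_mem _ hr) trivial
      · show e (a + b) ∈ P'
        rw [map_add]; exact P'.add_mem ha hb
    · intro x hx
      refine ⟨e.symm x, ?_, e.apply_symm_apply x⟩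
      show e.symm x ∈ P
      refine Submodule.smul_induction_on hx (fun r hr y _ => ?_) fun a b ha hb => by
        rw [map_add]; exact P.add_mem ha hb
      obtain ⟨s, hs, rfl⟩ := (Ideal.mem_map_iff_of_surjective _ θ.surjective).1 hr
      rw [show e.symm (θ s • y) = s • e.symm y from e.injective (by simp [he])]
      exact Submodule.smul_mem_smul hs trivial
  refine ⟨Ideal.quotientEquiv I _ θ rfl, QuotientAddGroup.congr P.toAddSubgroup P'.toAddSubgroup e h1, fun b x => ?_⟩
  obtain ⟨b, rfl⟩ := Ideal.Quotient.mk_surjective b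
  obtain ⟨x, rfl⟩ := Submodule.Quotient.mk_surjective _ x
  show (Submodule.Quotient.mk (e (b • x)) : M' ⧸ P') = Ideal.Quotient.mk _ (θ b) • Submodule.Quotient.mk (e x)
  rw [he]
  rfl

/-- `Good` transports along isomorphisms. -/
theorem Good.congr {k : ℕ} {A A' B B' : Type u} [CommRing A] [IsLocalRing A] [CommRing A'] [IsLocalRing A']
    [CommRing B] [IsNoetherianRing B] [CommRing B'] {ι : A →+* B} {ι' : A' →+* B'} (θA : A ≃+* A') (θB : B ≃+* B')
    (hc : ∀ a, θB (ι a) = ι' (θA a)) {M M' : Type u} [AddCommGroup M] [Module B M] [Module.Finite B M]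
    [AddCommGroup M'] [Module B' M'] (e : M ≃+ M') (he : ∀ b x, e (b • x) = θB b • e x) (h : Good k ι M) :
    Good k ι' M' := by
  refine ⟨?_, ?_⟩
  · letI := Module.compHom M ι
    letI := Module.compHom M' ι'
    exact GrothLib.CritMod6.flat_of_semilinear θA e (fun a m => by
      show e (ι a • m) = ι' (θA a) • e m
      rw [he, hc]) h.1
  · have hI : ((maximalIdeal A).map ι).map θB.toRingHom = (maximalIdeal A').map ι' := by
      rw [Ideal.map_map, show θB.toRingHom.comp ι = ι'.comp θA.toRingHom from RingHom.ext hc, ← Ideal.map_map,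
        show (maximalIdeal A).map θA.toRingHom = maximalIdeal A' from
          IsLocalRing.map_maximalIdeal_of_surjective _ θA.surjective]
    obtain ⟨θ', e', he'⟩ := exists_quot_equiv θB e he _ _ hI
    haveI : Module.Finite (B ⧸ (maximalIdeal A).map ι) (M ⧸ ((maximalIdeal A).map ι • ⊤ : Submodule B M)) :=
      Module.Finite.of_restrictScalars_finite B _ _
    exact hasSk_semilinear θ' e' he' h.2

/-- At the closed point, localising changes nothing. -/
theorem exists_closed_equiv {C : Type u} [CommRing C] [IsLocalRing C] (F : Type u) [AddCommGroup F] [Module C F] :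
    ∃ (θ : C ≃+* Localization.AtPrime (maximalIdeal C)) (e : F ≃+ LocalizedModule (maximalIdeal C).primeCompl F),
      (∀ c, θ c = algebraMap C _ c) ∧ (∀ x, e x = LocalizedModule.mkLinearMap _ F x) ∧
        ∀ c x, e (c • x) = θ c • e x := by
  let S := (maximalIdeal C).primeCompl
  have hu : ∀ s : S, IsUnit (s : C) := fun s => by
    by_contra h
    exact s.2 h
  let θ₀ : C →+* Localization.AtPrime (maximalIdeal C) := algebraMap _ _
  have hθ : Bijective θ₀ := by
    refine ⟨fun a b h => ?_, fun z => ?_⟩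
    · obtain ⟨c, hc⟩ := (IsLocalization.eq_iff_exists S _).1 h
      exact (hu c).mul_left_cancel hc
    · obtain ⟨a, s, rfl⟩ := IsLocalization.exists_mk'_eq S z
      obtain ⟨u, hu'⟩ := hu s
      refine ⟨(u⁻¹ : Cˣ) * a, ?_⟩
      rw [IsLocalization.eq_mk'_iff_mul_eq, ← map_mul, ← hu', mul_comm, ← mul_assoc, Units.mul_inv, one_mul]
  let m := LocalizedModule.mkLinearMap S F
  have hm : Bijective m := by
    refine ⟨fun a b h => ?_, fun z => ?_⟩
    · obtain ⟨c, hc⟩ := (IsLocalizedModule.eq_iff_exists S m).1 h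
      exact ((hu c).smul_left_cancel).1 hc
    · obtain ⟨⟨a, s⟩, hs⟩ := IsLocalizedModule.surj S m z
      obtain ⟨u, hu'⟩ := hu s
      refine ⟨((u⁻¹ : Cˣ) : C) • a, ?_⟩
      rw [map_smul, ← hs, Submonoid.smul_def, ← hu', smul_smul, Units.inv_mul, one_smul]
  refine ⟨RingEquiv.ofBijective θ₀ hθ, AddEquiv.ofBijective m.toAddMonoidHom hm, fun _ => rfl, fun _ => rfl,
    fun c x => ?_⟩
  show m (c • x) = θ₀ c • m x
  rw [map_smul, ← algebraMap_smul (Localization.AtPrime (maximalIdeal C)) c (m x)]

/-- At the closed point of a local homomorphism the frozen conditions say `Good`. -/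
theorem fibLoc_iff_good {R C : Type u} [CommRing R] [IsLocalRing R] [CommRing C] [IsLocalRing C]
    [IsNoetherianRing C] [Algebra R C] [IsLocalHom (algebraMap R C)] (F : Type u) [AddCommGroup F] [Module C F]
    [Module R F] [IsScalarTower R C F] [Module.Finite C F] (k : ℕ) :
    (FlatCA.FlatAt R (maximalIdeal C) F ∧ LocCoh.HasSk k (EGA4.FibLocRing R C (maximalIdeal C))
      (EGA4.FibLocMod R C (maximalIdeal C) F)) ↔ Good k (algebraMap R C) F := by
  obtain ⟨θ, e, hθ, he0, he⟩ := exists_closed_equiv (C := C) F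
  let X := Localization.AtPrime (maximalIdeal C)
  haveI : IsNoetherianRing X := IsLocalization.isNoetherianRing (maximalIdeal C).primeCompl _ inferInstance
  have hI : ((maximalIdeal R).map (algebraMap R C)).map θ.toRingHom =
      ((maximalIdeal C).comap (algebraMap R C)).map (algebraMap R X) := by
    rw [Ideal.map_map, show (maximalIdeal C).comap (algebraMap R C) = maximalIdeal R from
      IsLocalRing.maximalIdeal_comap _, show θ.toRingHom.comp (algebraMap R C) = algebraMap R X from
      RingHom.ext fun r => (hθ _).trans (IsScalarTower.algebraMap_apply R C X r).symm]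
  obtain ⟨θ', e', he'⟩ := exists_quot_equiv θ e he _ _ hI
  have hfl : Module.Flat R F ↔ Module.Flat R (LocalizedModule (maximalIdeal C).primeCompl F) :=
    GrothLib.CritMod6.flat_iff_of_semilinear (RingEquiv.refl R) e fun a m => by
      rw [he0, he0]; exact LinearMap.map_smul_of_tower _ a m
  have hfl' : (letI := Module.compHom F (algebraMap R C); Module.Flat R F) ↔ Module.Flat R F := by
    letI inst : Module R F := ‹Module R F›
    have : Module.compHom F (algebraMap R C) = inst := Module.ext' _ _ fun r x => (algebraMap_smul C r x).trans rfl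
    rw [this]
  haveI : Module.Finite (C ⧸ (maximalIdeal R).map (algebraMap R C))
      (F ⧸ ((maximalIdeal R).map (algebraMap R C) • ⊤ : Submodule C F)) :=
    Module.Finite.of_restrictScalars_finite C _ _
  haveI : Module.Finite X (LocalizedModule (maximalIdeal C).primeCompl F) :=
    Module.Finite.of_isLocalizedModule (maximalIdeal C).primeCompl (LocalizedModule.mkLinearMap (maximalIdeal C).primeCompl F)
  haveI : Module.Finite (EGA4.FibLocRing R C (maximalIdeal C)) (EGA4.FibLocMod R C (maximalIdeal C) F) :=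
    Module.Finite.of_restrictScalars_finite X _ _
  constructor
  · exact fun h => ⟨hfl'.2 (hfl.2 h.1), hasSk_semilinear θ'.symm e'.symm (fun b x => e'.injective (by simp [he'])) h.2⟩
  · exact fun h => ⟨hfl.1 (hfl'.1 h.1), hasSk_semilinear θ' e' he' h.2⟩

/-- Duals along a semilinear bijection. -/
theorem exists_dual_equiv {B B' : Type u} [CommRing B] [CommRing B'] {P Q : Type u} [AddCommGroup P] [Module B P]
    [AddCommGroup Q] [Module B' Q] (σ : B ≃+* B') (e : P ≃+ Q) (he : ∀ b x, e (b • x) = σ b • e x) :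
    ∃ d : Module.Dual B P ≃+ Module.Dual B' Q, ∀ b φ, d (b • φ) = σ b • d φ := by
  have he' : ∀ b x, e.symm (b • x) = σ.symm b • e.symm x := fun b x => e.injective (by simp [he])
  let fwd (φ : Module.Dual B P) : Module.Dual B' Q :=
    { toFun := fun q => σ (φ (e.symm q))
      map_add' := fun a b => by simp
      map_smul' := fun c a => by simp [he'] }
  let bwd (ψ : Module.Dual B' Q) : Module.Dual B P :=
    { toFun := fun p => σ.symm (ψ (e p))
      map_add' := fun a b => by simp
      map_smul' := fun c a => by simp [he] }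
  refine ⟨{ toFun := fwd, invFun := bwd, left_inv := fun φ => ?_, right_inv := fun ψ => ?_, map_add' := fun a b => ?_ },
    fun b φ => ?_⟩
  · exact LinearMap.ext fun p => by simp [fwd, bwd]
  · exact LinearMap.ext fun p => by simp [fwd, bwd]
  · exact LinearMap.ext fun p => by simp [fwd]
  · exact LinearMap.ext fun p => by simp [fwd]

/-- Double duals along a semilinear bijection. -/
theorem exists_ddual_equiv {B B' : Type u} [CommRing B] [CommRing B'] {P Q : Type u} [AddCommGroup P] [Module B P]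
    [AddCommGroup Q] [Module B' Q] (σ : B ≃+* B') (e : P ≃+ Q) (he : ∀ b x, e (b • x) = σ b • e x) :
    ∃ d : Module.Dual B (Module.Dual B P) ≃+ Module.Dual B' (Module.Dual B' Q), ∀ b φ, d (b • φ) = σ b • d φ := by
  obtain ⟨d, hd⟩ := exists_dual_equiv σ e he
  exact exists_dual_equiv σ d hd

/-- A dual is reflexive when free off `J` and the ring has depth two along `J`. -/
theorem isReflexive_dual {B : Type u} [CommRing B] [IsNoetherianRing B] (J : Ideal B)
    (h2 : 2 ≤ LocCoh.idealDepth J B) (D : Type u) [AddCommGroup D] [Module B D] [Module.Finite B D]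
    (hU : ∀ q : PrimeSpectrum B, ¬ J ≤ q.asIdeal →
      Module.Free (Localization.AtPrime q.asIdeal) (LocalizedModule q.asIdeal.primeCompl D)) :
    Module.IsReflexive B (Module.Dual B D) := by
  have hb := GrothLib.FlatOff.dualMap_bijective_of_pseudoInverse J h2 (Module.Dual.eval B D) (J : Set B)
    Ideal.subset_span (fun a ha => GrothLib.FlatOff.exists_pseudoInverse_eval J D hU a ha)
  have hinv : LeftInverse (Module.Dual.eval B D).dualMap (Module.Dual.eval B (Module.Dual B D)) := fun φ => rfl
  refine ⟨⟨hinv.injective, fun ξ => ⟨(Module.Dual.eval B D).dualMap ξ, hb.1 ?_⟩⟩⟩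
  exact hinv _

/-- A module of depth two along `J`, free off `J`, is reflexive. -/
theorem bijective_eval_of_depth {B : Type u} [CommRing B] [IsNoetherianRing B] [IsLocalRing B] (J : Ideal B)
    (hJ : J ≠ ⊤) (hB : 2 ≤ LocCoh.idealDepth J B) (M : Type u) [AddCommGroup M] [Module B M] [Module.Finite B M]
    (hM : 2 ≤ LocCoh.idealDepth J M)
    (hU : ∀ q : PrimeSpectrum B, ¬ J ≤ q.asIdeal →
      Module.Free (Localization.AtPrime q.asIdeal) (LocalizedModule q.asIdeal.primeCompl M)) :
    Bijective (Module.Dual.eval B M) := by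
  let e := Module.Dual.eval B M
  haveI := GrothLib.FlatOff.finite_dual (B := B) M
  haveI := GrothLib.FlatOff.finite_dual (B := B) (Module.Dual B M)
  have hinj : Injective e := by
    rw [injective_iff_map_eq_zero]
    refine fun x hx => GrothLib.FlatOff.tf_of_idealDepth ((one_le_two).trans hM) x fun a ha => ?_
    obtain ⟨k, σ, h1, -⟩ := GrothLib.FlatOff.exists_pseudoInverse_eval J M hU a ha
    exact ⟨k, by rw [← h1, show Module.Dual.eval B M x = 0 from hx, map_zero]⟩
  refine ⟨hinj, fun ξ => ?_⟩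
  rcases subsingleton_or_nontrivial M with hs | hn
  · exact ⟨0, by rw [map_zero, Subsingleton.elim ξ 0]⟩
  have hne : J • (⊤ : Submodule B M) ≠ ⊤ := fun h => by
    refine (bot_ne_top : (⊥ : Submodule B M) ≠ ⊤) (Submodule.eq_bot_of_le_smul_of_le_jacobson_bot J ⊤
      (Module.Finite.fg_top (R := B) (M := M)) (by rw [h]) ?_).symm
    rw [IsLocalRing.jacobson_eq_maximalIdeal ⊥ bot_ne_top]
    exact IsLocalRing.le_maximalIdeal hJ
  obtain ⟨rs, hlen, hmem, hreg⟩ := (GrothLib.Depth.le_idealDepth_iff_exists J hne 2).1 (by exact_mod_cast hM)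
  obtain ⟨x, y, rfl⟩ := List.length_eq_two.1 hlen
  obtain ⟨hx, hy⟩ := (RingTheory.Sequence.isWeaklyRegular_cons_iff M x [y]).1 hreg
  have hy' : IsSMulRegular (QuotSMulTop x M) y := ((RingTheory.Sequence.isWeaklyRegular_cons_iff _ y []).1 hy).1
  obtain ⟨k, σ, -, hσ⟩ := GrothLib.FlatOff.exists_pseudoInverse_eval J M hU x (hmem x (by simp))
  obtain ⟨l, τ, -, hτ⟩ := GrothLib.FlatOff.exists_pseudoInverse_eval J M hU y (hmem y (by simp))
  have hrel : y ^ l • σ ξ = x ^ k • τ ξ := hinj (by rw [map_smul, map_smul, hσ, hτ, smul_comm])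
  have hdiv : ∀ (j : ℕ) (a b : M), y ^ l • a = x ^ j • b → ∃ c, a = x ^ j • c := by
    intro j
    induction j with
    | zero => exact fun a b _ => ⟨a, by simp⟩
    | succ j ih =>
      intro a b h
      have h0 : (Submodule.Quotient.mk a : QuotSMulTop x M) = 0 := by
        refine (hy'.pow l).right_eq_zero_of_smul ((Submodule.Quotient.mk_smul _ _ _).symm.trans
          ((Submodule.Quotient.mk_eq_zero _).2 ?_))
        rw [h, pow_succ', mul_smul]
        exact Submodule.smul_mem_pointwise_smul _ _ _ trivial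
      rw [Submodule.Quotient.mk_eq_zero, Submodule.mem_smul_pointwise_iff_exists] at h0
      obtain ⟨a', -, rfl⟩ := h0
      obtain ⟨c, rfl⟩ := ih a' b (hx (by
        show x • (y ^ l • a') = x • (x ^ j • b)
        rw [smul_comm x (y ^ l), h, pow_succ', mul_smul]))
      exact ⟨c, by rw [pow_succ', mul_smul]⟩
  obtain ⟨c, hc⟩ := hdiv k _ _ hrel
  refine ⟨c, sub_eq_zero.1 ?_⟩
  refine GrothLib.FlatOff.tf_of_idealDepth ((one_le_two).trans
    (GrothLib.FlatOff.two_le_depth_dual J hB (Module.Dual B M))) _ fun a ha => ?_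
  obtain ⟨n, ρ, -, hρ⟩ := GrothLib.FlatOff.exists_pseudoInverse_eval J M hU a ha
  refine ⟨n, ?_⟩
  have hd : ρ ξ = a ^ n • c := (hx.pow k) (hinj (by
    show e (x ^ k • ρ ξ) = e (x ^ k • a ^ n • c)
    rw [smul_comm (x ^ k) (a ^ n), ← hc, map_smul, map_smul, hρ, hσ, smul_comm]))
  rw [smul_sub, ← map_smul, ← hd, hρ, sub_self]

/-- Depth along `J` of a flat module from that of its reduction. -/
theorem two_le_depth_self_of_fibre {R C : Type u} [CommRing R] [IsLocalRing R] [IsNoetherianRing R] [CommRing C]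
    [IsLocalRing C] [IsNoetherianRing C] [Algebra R C] [IsLocalHom (algebraMap R C)] [Module.Flat R C] (J : Ideal C)
    (hJ : J ≠ ⊤) (h : 2 ≤ LocCoh.idealDepth (J.map (Ideal.Quotient.mk ((maximalIdeal R).map (algebraMap R C))))
      (C ⧸ (maximalIdeal R).map (algebraMap R C))) : 2 ≤ LocCoh.idealDepth J C := by
  let I : Ideal C := (maximalIdeal R).map (algebraMap R C)
  have hIm : I ≤ maximalIdeal C := Ideal.map_le_iff_le_comap.2 (IsLocalRing.maximalIdeal_comap (algebraMap R C)).ge
  haveI : Nontrivial (C ⧸ I) := Ideal.Quotient.nontrivial_iff.2 fun h => (maximalIdeal.isMaximal C).ne_top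
    (top_le_iff.1 (h ▸ hIm))
  have h' : 2 ≤ LocCoh.idealDepth J (C ⧸ I) := by
    rw [← GrothLib.Depth.idealDepth_map_eq (B := C ⧸ I)]
    exact h
  have hne : J • (⊤ : Submodule C (C ⧸ I)) ≠ ⊤ := fun h => by
    refine (bot_ne_top : (⊥ : Submodule C (C ⧸ I)) ≠ ⊤) (Submodule.eq_bot_of_le_smul_of_le_jacobson_bot J ⊤
      (Module.Finite.fg_top (R := C) (M := C ⧸ I)) (by rw [h]) ?_).symm
    rw [IsLocalRing.jacobson_eq_maximalIdeal ⊥ bot_ne_top]
    exact IsLocalRing.le_maximalIdeal hJ
  have hne' : J • (⊤ : Submodule C C) ≠ ⊤ := by rw [smul_eq_mul, Ideal.mul_top]; exact hJ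
  obtain ⟨rs, hlen, hmem, hreg⟩ := (GrothLib.Depth.le_idealDepth_iff_exists J hne 2).1 (by exact_mod_cast h')
  refine (GrothLib.Depth.le_idealDepth_iff_exists J hne' 2).2 ⟨rs, hlen, hmem,
    GrothLib.DimCut.isWeaklyRegular_of_fibre (A := R) rs C ?_⟩
  exact ((Submodule.quotEquivOfEq (I • ⊤ : Submodule C C) I (by rw [smul_eq_mul, Ideal.mul_top])).isWeaklyRegular_congr rs).2 hreg

/-- Reductions along a surjection with kernel inside the ideal. -/
theorem hasSk_quot_baseChange {C C' : Type u} [CommRing C] [CommRing C'] [IsNoetherianRing C] [Algebra C C']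
    (F : Type u) [AddCommGroup F] [Module C F] [Module.Finite C F] (m : Ideal C) (hs : Surjective (algebraMap C C'))
    (hk : RingHom.ker (algebraMap C C') ≤ m) {k : ℕ}
    (h : LocCoh.HasSk k (C ⧸ m) (F ⧸ (m • ⊤ : Submodule C F))) :
    LocCoh.HasSk k (C' ⧸ m.map (algebraMap C C'))
      ((C' ⊗[C] F) ⧸ (m.map (algebraMap C C') • ⊤ : Submodule C' (C' ⊗[C] F))) := by
  let mk₁ := TensorProduct.mk C C' F 1
  have hsur : Surjective mk₁ := fun z => by
    induction z using TensorProduct.induction_on with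
    | zero => exact ⟨0, map_zero _⟩
    | add a b ha hb =>
      obtain ⟨a, rfl⟩ := ha
      obtain ⟨b, rfl⟩ := hb
      exact ⟨a + b, map_add _ _ _⟩
    | tmul c v =>
      obtain ⟨r, rfl⟩ := hs c
      exact ⟨r • v, by simp [mk₁, TensorProduct.tmul_smul, TensorProduct.smul_tmul', Algebra.smul_def]⟩
  let f : (C ⧸ m) →+* C' ⧸ m.map (algebraMap C C') :=
    Ideal.quotientMap _ (algebraMap C C') Ideal.le_comap_map
  have hf : Bijective f := by
    refine ⟨Ideal.quotientMap_injective' ?_, Ideal.quotientMap_surjective hs⟩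
    rw [Ideal.comap_map_of_surjective _ hs, ← RingHom.ker_eq_comap_bot, sup_eq_left.2 hk]
  let P : Submodule C' (C' ⊗[C] F) := m.map (algebraMap C C') • ⊤
  let φ : F →ₗ[C] (C' ⊗[C] F) ⧸ P := (P.mkQ.restrictScalars C).comp mk₁
  have hPle : ∀ z, z ∈ P → z ∈ (m • ⊤ : Submodule C (C' ⊗[C] F)) := fun z hz => by
    refine Submodule.smul_induction_on hz (fun t ht w _ => ?_) fun a b ha hb => add_mem ha hb
    obtain ⟨r, hr, rfl⟩ := (Ideal.mem_map_iff_of_surjective (algebraMap C C') hs).1 ht
    rw [algebraMap_smul]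
    exact Submodule.smul_mem_smul hr trivial
  have hker : LinearMap.ker φ = (m • ⊤ : Submodule C F) := by
    refine le_antisymm (fun v hv => ?_) (Submodule.smul_le.2 fun r hr v _ => ?_)
    · have h1 : mk₁ v ∈ (m • ⊤ : Submodule C F).map mk₁ := by
        rw [Submodule.map_smul'', Submodule.map_top, LinearMap.range_eq_top.2 hsur]
        exact hPle _ ((Submodule.Quotient.mk_eq_zero P).1 (LinearMap.mem_ker.1 hv))
      obtain ⟨w, hw, hwv⟩ := h1
      have h2 : v - w ∈ LinearMap.ker mk₁ := by rw [LinearMap.mem_ker, map_sub, hwv, sub_self]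
      have h3 : LinearMap.ker mk₁ ≤ (RingHom.ker (algebraMap C C') • ⊤ : Submodule C F) := by
        let e : C' ≃ₗ[C] C ⧸ RingHom.ker (algebraMap C C') :=
          (LinearMap.quotKerEquivOfSurjective (Algebra.linearMap C C') hs).symm
        intro u hu
        have := congrArg ((TensorProduct.congr e (LinearEquiv.refl C F)).trans
          (TensorProduct.quotTensorEquivQuotSMul F _)) (LinearMap.mem_ker.1 hu)
        rw [map_zero] at this
        have he : e 1 = Ideal.Quotient.mk _ 1 := (LinearEquiv.symm_apply_eq _).2 (by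
          show (1 : C') = algebraMap C C' 1
          rw [map_one])
        rw [LinearEquiv.trans_apply, TensorProduct.mk_apply, TensorProduct.congr_tmul, he,
          LinearEquiv.refl_apply, TensorProduct.quotTensorEquivQuotSMul_mk_tmul, one_smul] at this
        exact (Submodule.Quotient.mk_eq_zero _).1 this
      have := Submodule.smul_mono_left hk (h3 h2)
      simpa using add_mem this hw
    · rw [LinearMap.mem_ker, map_smul]
      show Submodule.Quotient.mk (r • mk₁ v) = (0 : _ ⧸ P)
      rw [Submodule.Quotient.mk_eq_zero, ← algebraMap_smul C' r (mk₁ v)]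
      exact Submodule.smul_mem_smul (Ideal.mem_map_of_mem _ hr) trivial
  let e₀ := (Submodule.quotEquivOfEq _ _ hker.symm).trans
    (φ.quotKerEquivOfSurjective ((Submodule.mkQ_surjective P).comp hsur))
  haveI : Module.Finite (C ⧸ m) (F ⧸ (m • ⊤ : Submodule C F)) := Module.Finite.of_restrictScalars_finite C _ _
  refine hasSk_semilinear (RingEquiv.ofBijective f hf) e₀.toAddEquiv (fun b x => ?_) h
  obtain ⟨c, rfl⟩ := Ideal.Quotient.mk_surjective b
  refine (e₀.map_smul c x).trans ?_
  show c • e₀ x = Ideal.Quotient.mk _ (algebraMap C C' c) • e₀ x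
  generalize e₀ x = w
  obtain ⟨z, rfl⟩ := Submodule.Quotient.mk_surjective P w
  show Submodule.Quotient.mk (c • z) = (Submodule.Quotient.mk (algebraMap C C' c • z) : _ ⧸ P)
  rw [algebraMap_smul]

/-- Base change to an Artinian quotient, in the double dual form. -/
theorem good_ddual_quot {R C : Type u} [CommRing R] [IsLocalRing R] [IsNoetherianRing R] [CommRing C] [IsLocalRing C]
    [IsNoetherianRing C] [Algebra R C] [IsLocalHom (algebraMap R C)] [Module.Flat R C]
    (F : Type u) [AddCommGroup F] [Module C F] [Module.Finite C F] [Module.IsReflexive C F] (J : Ideal C) (hJ : J ≠ ⊤)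
    (hFU : ∀ q : PrimeSpectrum C, ¬ J ≤ q.asIdeal →
      Module.Free (Localization.AtPrime q.asIdeal) (LocalizedModule q.asIdeal.primeCompl F))
    (hD : 2 ≤ LocCoh.idealDepth (J.map (Ideal.Quotient.mk ((maximalIdeal R).map (algebraMap R C))))
      (C ⧸ (maximalIdeal R).map (algebraMap R C)))
    (hF : Good 2 (algebraMap R C) F) (I : Ideal R) [IsArtinianRing (R ⧸ I)] [IsLocalRing (R ⧸ I)] :
    Good 2 (algebraMap (R ⧸ I) (C ⧸ I.map (algebraMap R C))) (Module.Dual (C ⧸ I.map (algebraMap R C))
      (Module.Dual (C ⧸ I.map (algebraMap R C)) ((C ⧸ I.map (algebraMap R C)) ⊗[C] F))) ∧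
    Bijective (Module.Dual.eval (C ⧸ I.map (algebraMap R C)) ((C ⧸ I.map (algebraMap R C)) ⊗[C] F)) := by
  classical
  let K : Ideal C := I.map (algebraMap R C)
  let C' := C ⧸ K
  let A' := R ⧸ I
  let F' := C' ⊗[C] F
  have hIle : I ≤ maximalIdeal R := IsLocalRing.le_maximalIdeal fun h => by
    subst h
    exact false_of_nontrivial_of_subsingleton (R ⧸ (⊤ : Ideal R))
  have hKle : K ≤ maximalIdeal C := (Ideal.map_mono hIle).trans (Ideal.map_le_iff_le_comap.2 (IsLocalRing.maximalIdeal_comap (algebraMap R C)).ge)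
  haveI : Nontrivial C' := Ideal.Quotient.nontrivial_iff.2 fun h => (maximalIdeal.isMaximal C).ne_top (top_le_iff.1 (h ▸ hKle))
  haveI : IsLocalRing C' := IsLocalRing.of_surjective' (Ideal.Quotient.mk K) Ideal.Quotient.mk_surjective
  letI : Module R F := Module.compHom F (algebraMap R C)
  haveI : IsScalarTower R C F := IsScalarTower.of_algebraMap_smul fun _ _ => rfl
  haveI : Module.Flat R F := hF.1
  let J' : Ideal C' := J.map (algebraMap C C')
  have hJ' : J' ≠ ⊤ := fun h => (maximalIdeal.isMaximal C').ne_top (top_le_iff.1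
    (h.ge.trans ((Ideal.map_mono (IsLocalRing.le_maximalIdeal hJ)).trans
      (IsLocalRing.map_maximalIdeal_of_surjective (algebraMap C C') Ideal.Quotient.mk_surjective).le)))
  have hC : 2 ≤ LocCoh.idealDepth J C := two_le_depth_self_of_fibre J hJ hD
  have hTF : GrothLib.FlatOff.TF J F := GrothLib.FlatOff.TF.of_injective _ (Module.bijective_dual_eval C F).1
    (GrothLib.FlatOff.tf_of_idealDepth (by
      haveI := GrothLib.FlatOff.finite_dual (B := C) F
      haveI := GrothLib.FlatOff.finite_dual (B := C) (Module.Dual C F)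
      exact (one_le_two).trans (GrothLib.FlatOff.two_le_depth_dual J hC (Module.Dual C F))))
  have hfac : ∀ Q : Ideal C, Q.IsPrime → ¬ J ≤ Q → ∃ (k : ℕ) (α : F →ₗ[C] (Fin k → C)) (β : (Fin k → C) →ₗ[C] F)
      (s : C), s ∉ Q ∧ ∀ x, β (α x) = s • x := fun Q hQ hJQ => by
    haveI := hFU ⟨Q, hQ⟩ hJQ
    obtain ⟨k, α, β, s, hs⟩ := GrothLib.FreeOff.exists_factor_of_free (B := C) F Q
    exact ⟨k, α, β, s, s.2, hs⟩
  have hfib : ((2 : ℕ) : ℕ∞) ≤ LocCoh.idealDepth J (EGA4.FibMod R C F) := by
    have h := GrothLib.FlatOffHens1.two_le_depth_of_hasSk ((maximalIdeal R).map (algebraMap R C)) J hC hTF hfac hD hF.2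
    rw [← GrothLib.Depth.idealDepth_map_eq (B := C ⧸ (maximalIdeal R).map (algebraMap R C))]
    exact_mod_cast h
  haveI : IsNoetherianRing A' := inferInstance
  have hlen : IsFiniteLength R A' := by
    rw [isFiniteLength_iff_isNoetherian_isArtinian]
    exact ⟨inferInstance, isArtinian_of_surjective_algebraMap (R := A') (M := A') Ideal.Quotient.mk_surjective⟩
  obtain ⟨eT⟩ := GrothLib.FlatOff.nonempty_tensor_quot_equiv (A := R) (B := C) (M := F) I
  let eQ : F' ≃ₗ[C] F ⧸ (K • ⊤ : Submodule C F) := TensorProduct.quotTensorEquivQuotSMul F K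
  haveI := GrothLib.Flatness.finite_tensor (R := R) (S := C) (M := F) A'
  have hdF : 2 ≤ LocCoh.idealDepth J' F' := by
    show 2 ≤ LocCoh.idealDepth (J.map (algebraMap C C')) F'
    rw [GrothLib.Depth.idealDepth_map_eq (B := C'), GrothLib.Depth.idealDepth_eq_of_equiv _ eQ,
      ← GrothLib.Depth.idealDepth_eq_of_equiv _ eT]
    exact_mod_cast GrothLib.FlatOff.le_idealDepth_tensor J 2 hfib hlen
  have hdC : 2 ≤ LocCoh.idealDepth J' C' := by
    obtain ⟨eT'⟩ := GrothLib.FlatOff.nonempty_tensor_quot_equiv (A := R) (B := C) (M := C) I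
    haveI := GrothLib.Flatness.finite_tensor (R := R) (S := C) (M := C) A'
    let e1 : C' ≃ₗ[C] C ⧸ (K • ⊤ : Submodule C C) := Submodule.quotEquivOfEq _ _ (by rw [smul_eq_mul, Ideal.mul_top])
    show 2 ≤ LocCoh.idealDepth (J.map (algebraMap C C')) C'
    rw [GrothLib.Depth.idealDepth_map_eq (B := C'), GrothLib.Depth.idealDepth_eq_of_equiv _ e1,
      ← GrothLib.Depth.idealDepth_eq_of_equiv _ eT']
    suffices h0 : ((2 : ℕ) : ℕ∞) ≤ LocCoh.idealDepth J (EGA4.FibMod R C C) by
      exact_mod_cast GrothLib.FlatOff.le_idealDepth_tensor J 2 h0 hlen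
    let e2 : EGA4.FibMod R C C ≃ₗ[C] C ⧸ (maximalIdeal R).map (algebraMap R C) :=
      Submodule.quotEquivOfEq _ _ (by rw [smul_eq_mul, Ideal.mul_top])
    rw [GrothLib.Depth.idealDepth_eq_of_equiv _ e2,
      ← GrothLib.Depth.idealDepth_map_eq (B := C ⧸ (maximalIdeal R).map (algebraMap R C))]
    exact_mod_cast hD
  have hU' : ∀ r : PrimeSpectrum C', ¬ J' ≤ r.asIdeal →
      Module.Free (Localization.AtPrime r.asIdeal) (LocalizedModule r.asIdeal.primeCompl F') := by
    intro r hr
    obtain ⟨k, α, β, s, hs, hαβ⟩ := hfac (r.asIdeal.comap (algebraMap C C')) inferInstance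
      fun h => hr (Ideal.map_le_iff_le_comap.2 h)
    let ρ : C' ⊗[C] (Fin k → C) ≃ₗ[C'] (Fin k → C') := TensorProduct.piScalarRight C C' C' (Fin k)
    refine GrothLib.FreeOff.free_localized_of_factor r.asIdeal ⟨algebraMap C C' s, hs⟩
      (ρ.toLinearMap.comp (α.baseChange C')) ((β.baseChange C').comp ρ.symm.toLinearMap) fun z => ?_
    show β.baseChange C' (ρ.symm (ρ (α.baseChange C' z))) = algebraMap C C' s • z
    rw [LinearEquiv.symm_apply_apply, ← LinearMap.comp_apply, ← LinearMap.baseChange_comp,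
      show β.comp α = s • LinearMap.id from LinearMap.ext hαβ, LinearMap.baseChange_smul, LinearMap.baseChange_id,
      LinearMap.smul_apply, LinearMap.id_apply, algebraMap_smul]
  have hb := bijective_eval_of_depth J' hJ' hdC F' hdF hU'
  refine ⟨?_, hb⟩
  let e := LinearEquiv.ofBijective (Module.Dual.eval C' F') hb
  refine Good.congr (ι := algebraMap A' C') (RingEquiv.refl A') (RingEquiv.refl C') (fun _ => rfl) e.toAddEquiv
    (fun b x => e.map_smul b x) ⟨?_, ?_⟩
  · letI inst : Module A' F' := inferInstance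
    rw [show Module.compHom F' (algebraMap A' C') = inst from
      Module.ext' _ _ fun a z => algebraMap_smul C' a z]
    haveI : IsScalarTower R A' F' := IsScalarTower.of_algebraMap_smul fun r z => by
      rw [← algebraMap_smul C' (algebraMap R A' r) z, ← IsScalarTower.algebraMap_apply, algebraMap_smul]
    let g : F ⊗[R] A' ≃ₗ[C] F' := eT.trans eQ.symm
    let φ : A' ⊗[R] F ≃ₗ[R] F' := (TensorProduct.comm R A' F).trans (g.restrictScalars R)
    exact Module.Flat.of_linearEquiv (AddEquiv.toLinearEquiv φ.toAddEquiv fun a z => by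
      obtain ⟨r, rfl⟩ := Ideal.Quotient.mk_surjective a
      show φ (algebraMap R A' r • z) = algebraMap R A' r • φ z
      rw [algebraMap_smul, algebraMap_smul, map_smul]).symm
  · have hm : (maximalIdeal A').map (algebraMap A' C') =
        ((maximalIdeal R).map (algebraMap R C)).map (algebraMap C C') := by
      rw [Ideal.map_map, ← IsScalarTower.algebraMap_eq, IsScalarTower.algebraMap_eq R A' C', ← Ideal.map_map,
        show (maximalIdeal R).map (algebraMap R A') = maximalIdeal A' from
          IsLocalRing.map_maximalIdeal_of_surjective _ Ideal.Quotient.mk_surjective]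
    let m : Ideal C := (maximalIdeal R).map (algebraMap R C)
    have hKm : K ≤ m := Ideal.map_mono hIle
    suffices ∀ Q : Ideal C', Q = m.map (algebraMap C C') → LocCoh.HasSk 2 (C' ⧸ Q) (F' ⧸ (Q • ⊤ : Submodule C' F')) from
      this _ hm
    rintro _ rfl
    exact hasSk_quot_baseChange (C' := C') F m Ideal.Quotient.mk_surjective
      (by rw [Ideal.Quotient.algebraMap_eq, Ideal.mk_ker]; exact hKm) hF.2

/-- **The infinitesimal criterion at the closed point.** -/
theorem good_of_artinian {R C : Type u} [CommRing R] [IsLocalRing R] [IsNoetherianRing R] [CommRing C] [IsLocalRing C]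
    [IsNoetherianRing C] [Algebra R C] [IsLocalHom (algebraMap R C)] [Module.Flat R C]
    (F : Type u) [AddCommGroup F] [Module C F] [Module.Finite C F] [Module.IsReflexive C F] (J : Ideal C)
    (hFU : ∀ q : PrimeSpectrum C, ¬ J ≤ q.asIdeal →
      Module.Free (Localization.AtPrime q.asIdeal) (LocalizedModule q.asIdeal.primeCompl F))
    (hS2 : LocCoh.HasSk 2 (C ⧸ (maximalIdeal R).map (algebraMap R C)) (C ⧸ (maximalIdeal R).map (algebraMap R C)))
    (hcodim : ∀ q : PrimeSpectrum C, J ≤ q.asIdeal → (2 : WithBot ℕ∞) ≤ ringKrullDim (EGA4.FibLocRing R C q.asIdeal))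
    (hI : ∀ (I : Ideal R) [IsArtinianRing (R ⧸ I)] [IsLocalRing (R ⧸ I)],
      Good 2 (algebraMap (R ⧸ I) (C ⧸ I.map (algebraMap R C))) (Module.Dual (C ⧸ I.map (algebraMap R C))
        (Module.Dual (C ⧸ I.map (algebraMap R C)) ((C ⧸ I.map (algebraMap R C)) ⊗[C] F)))) :
    Good 2 (algebraMap R C) F := by
  classical
  letI : Module R F := Module.compHom F (algebraMap R C)
  haveI : IsScalarTower R C F := IsScalarTower.of_algebraMap_smul fun _ _ => rfl
  obtain ⟨θ, -, hθ, -, -⟩ := exists_closed_equiv (C := C) C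
  let X := Localization.AtPrime (maximalIdeal C)
  haveI : IsNoetherianRing X := IsLocalization.isNoetherianRing (maximalIdeal C).primeCompl _ inferInstance
  have hS2' : LocCoh.HasSk 2 (EGA4.FibLocRing R C (maximalIdeal C)) (EGA4.FibLocRing R C (maximalIdeal C)) :=
    GrothLib.SnFibres.hasSk_congr (Ideal.quotientEquiv _ _ θ (by
      rw [Ideal.map_map, show (maximalIdeal C).comap (algebraMap R C) = maximalIdeal R from
        IsLocalRing.maximalIdeal_comap _, show (θ : C →+* X).comp (algebraMap R C) = algebraMap R X from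
        RingHom.ext fun r => (hθ _).trans (IsScalarTower.algebraMap_apply R C X r).symm])) hS2
  let n : PrimeSpectrum C := ⟨maximalIdeal C, inferInstance⟩
  have hn : (maximalIdeal R).map (algebraMap R C) ≤ n.asIdeal := Ideal.map_le_iff_le_comap.2 (IsLocalRing.maximalIdeal_comap (algebraMap R C)).ge
  have hI' : ∀ (A' : Type u) [CommRing A'] [IsArtinianRing A'] [IsLocalRing A'] [Algebra R A'],
      Surjective (algebraMap R A') →
      ∀ (C' : Type u) [CommRing C'] [IsNoetherianRing C'] [Algebra C C'] [Algebra A' C'] [Algebra R C']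
        [IsScalarTower R C C'] [IsScalarTower R A' C'], Algebra.IsPushout R C A' C' →
        ∀ q' : PrimeSpectrum C', q'.asIdeal.comap (algebraMap C C') = n.asIdeal →
          FlatCA.FlatAt A' q'.asIdeal (Module.Dual C' (Module.Dual C' (C' ⊗[C] F))) ∧
          LocCoh.HasSk 2 (EGA4.FibLocRing A' C' q'.asIdeal)
            (EGA4.FibLocMod A' C' q'.asIdeal (Module.Dual C' (Module.Dual C' (C' ⊗[C] F)))) := by
    intro A' _ _ _ _ hsA C' _ _ _ _ _ _ _ hpush q' hq'
    let I := RingHom.ker (algebraMap R A')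
    let θA : (R ⧸ I) ≃+* A' := RingHom.quotientKerEquivOfSurjective hsA
    haveI : IsArtinianRing (R ⧸ I) := θA.symm.isArtinianRing
    haveI : IsLocalRing (R ⧸ I) := θA.symm.isLocalRing
    let K : Ideal C := I.map (algebraMap R C)
    let π : C ⧸ K →ₐ[C] C' := Ideal.Quotient.liftₐ K (Algebra.ofId C C') fun c hc => by
      refine Submodule.span_induction (p := fun c _ => algebraMap C C' c = 0) ?_ (map_zero _)
        (fun a b _ _ ha hb => by rw [map_add, ha, hb, add_zero]) (fun a b _ hb => by rw [smul_eq_mul, map_mul, hb, mul_zero]) hc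
      rintro _ ⟨r, hr, rfl⟩
      rw [← IsScalarTower.algebraMap_apply, IsScalarTower.algebraMap_apply R A' C', RingHom.mem_ker.1 hr, map_zero]
    letI : Algebra R (C ⧸ K) := inferInstance
    let gA : A' →ₐ[R] C ⧸ K :=
      { toRingHom := (algebraMap (R ⧸ I) (C ⧸ K)).comp θA.symm.toRingHom
        commutes' := fun r => by
          show algebraMap (R ⧸ I) (C ⧸ K) (θA.symm (algebraMap R A' r)) = _
          rw [show θA.symm (algebraMap R A' r) = Ideal.Quotient.mk I r from
            θA.symm_apply_eq.2 rfl]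
          rfl }
    let ψ : C' →ₐ[R] C ⧸ K := Algebra.pushoutDesc C' (IsScalarTower.toAlgHom R C (C ⧸ K)) gA fun _ _ => mul_comm _ _
    have hπs : Surjective π := fun z => by
      refine (hpush.out).inductionOn z _ ⟨0, map_zero _⟩ (fun a => ?_) (fun c z hz => ?_) fun a b ha hb => ?_
      · obtain ⟨r, rfl⟩ := hsA a
        exact ⟨algebraMap R _ r, by simp [IsScalarTower.algebraMap_apply R A' C', AlgHom.map_algebraMap]⟩
      · obtain ⟨w, rfl⟩ := hz
        exact ⟨c • w, map_smul π c w⟩
      · obtain ⟨a, rfl⟩ := ha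
        obtain ⟨b, rfl⟩ := hb
        exact ⟨a + b, map_add π a b⟩
    have hπψ : ∀ w, ψ (π w) = w := fun w => by
      obtain ⟨c, rfl⟩ := Ideal.Quotient.mk_surjective w
      show ψ (algebraMap C C' c) = _
      exact Algebra.pushoutDesc_left _ _ _ _ c
    let σ : (C ⧸ K) ≃+* C' := RingEquiv.ofBijective π.toRingHom ⟨(LeftInverse.injective (g := ψ) hπψ), hπs⟩
    haveI : Nontrivial C' := nontrivial_of_ne _ _ (show (1 : C') ≠ 0 from fun h => q'.2.ne_top
      (Ideal.eq_top_iff_one _ |>.2 (h ▸ zero_mem _)))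
    have hC's : Surjective (algebraMap C C') := fun z => by
      obtain ⟨w, rfl⟩ := hπs z
      obtain ⟨c, rfl⟩ := Ideal.Quotient.mk_surjective w
      exact ⟨c, rfl⟩
    haveI : IsLocalRing C' := IsLocalRing.of_surjective' (algebraMap C C') hC's
    have hq : q'.asIdeal = maximalIdeal C' := by
      rw [← Ideal.map_comap_of_surjective _ hC's q'.asIdeal, hq']
      exact IsLocalRing.map_maximalIdeal_of_surjective _ hC's
    haveI : IsLocalHom (algebraMap A' C') := ⟨fun a ha => by
      obtain ⟨r, rfl⟩ := hsA a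
      rw [← IsScalarTower.algebraMap_apply, IsScalarTower.algebraMap_apply R C C'] at ha
      have : algebraMap R C r ∉ maximalIdeal C := fun hmem => by
        change algebraMap R C r ∈ n.asIdeal at hmem
        rw [← hq'] at hmem
        exact q'.2.ne_top (Ideal.eq_top_of_isUnit_mem _ hmem ha)
      exact (isUnit_of_map_unit (algebraMap R C) r (not_not.1 this)).map _⟩
    obtain ⟨q, hqp⟩ := q'
    subst hq
    have hcompat : ∀ a, σ (algebraMap (R ⧸ I) (C ⧸ K) a) = algebraMap A' C' (θA a) := fun a => by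
      obtain ⟨r, rfl⟩ := Ideal.Quotient.mk_surjective a
      show algebraMap C C' (algebraMap R C r) = algebraMap A' C' (algebraMap R A' r)
      rw [← IsScalarTower.algebraMap_apply, ← IsScalarTower.algebraMap_apply]
    let σl : (C ⧸ K) ≃ₗ[C] C' := LinearEquiv.ofBijective π.toLinearMap σ.bijective
    let e := TensorProduct.congr σl (LinearEquiv.refl C F)
    obtain ⟨d, hd⟩ := exists_ddual_equiv σ e.toAddEquiv fun b z => by
      obtain ⟨c, rfl⟩ := Ideal.Quotient.mk_surjective b
      show e (Ideal.Quotient.mk K c • z) = algebraMap C C' c • e z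
      rw [show Ideal.Quotient.mk K c • z = c • z from rfl, map_smul, algebraMap_smul]
    haveI := GrothLib.FlatOff.finite_dual (B := C ⧸ K) ((C ⧸ K) ⊗[C] F)
    haveI := GrothLib.FlatOff.finite_dual (B := C ⧸ K) (Module.Dual (C ⧸ K) ((C ⧸ K) ⊗[C] F))
    haveI := GrothLib.FlatOff.finite_dual (B := C') (C' ⊗[C] F)
    haveI := GrothLib.FlatOff.finite_dual (B := C') (Module.Dual C' (C' ⊗[C] F))
    exact (fibLoc_iff_good (R := A') (C := C') _ 2).2 (Good.congr θA σ hcompat d hd (hI I))
  obtain ⟨N, M, g, h, hg, hgh, hfree⟩ := GrothLib.FreeOff.exists_presentation (B := C) F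
  have hGfree : ∀ q : PrimeSpectrum C, ¬ J ≤ q.asIdeal → Module.Free (Localization.AtPrime q.asIdeal)
      (LocalizedModule q.asIdeal.primeCompl ((Fin M → C) ⧸ LinearMap.range h)) :=
    fun q hq => hfree q.asIdeal (hFU q hq)
  have hflat := GrothLib.FlatOff.flatAt_coker_of_infinitesimal n hn hS2' J hcodim g h hg hgh hGfree hI'
  haveI : Module.Finite X (LocalizedModule n.asIdeal.primeCompl F) :=
    Module.Finite.of_isLocalizedModule n.asIdeal.primeCompl (LocalizedModule.mkLinearMap n.asIdeal.primeCompl F)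
  haveI : Module.Flat R (Fin N → C) := Module.Flat.trans R C _
  haveI : Module.Flat R (Fin M → C) := Module.Flat.trans R C _
  have hD := GrothLib.FlatOff.two_le_depth_fibLocRing J n.asIdeal hS2' fun r hr _ => hcodim r hr
  have h0 : ∀ k : ℕ, 2 ≤ LocCoh.idealDepth (J.map (algebraMap C X)) (EGA4.FibLocMod R C n.asIdeal (Fin k → C)) :=
    fun k => by exact_mod_cast GrothLib.FlatOff.le_idealDepth_fibLocMod_free J n.asIdeal 2 (by exact_mod_cast hD) k
  obtain ⟨hF, hfib⟩ := (GrothLib.FlatOff.key_at_prime J g h (LinearMap.range h).mkQ hg hgh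
    (LinearMap.exact_map_mkQ_range h) (Submodule.mkQ_surjective _) (fun r hr => by
      haveI := hGfree r hr
      exact GrothLib.FreeOff.exists_factor_of_free (B := C) _ r.asIdeal) n.asIdeal (h0 N)
    ((one_le_two).trans (h0 M))).1 hflat
  refine (fibLoc_iff_good F 2).1 ⟨hF, GrothLib.FlatOff.hasSk_two_of_depth _ (J.map (algebraMap C X)) (fun Q hQ hJQ => ?_) hS2' ?_⟩
  · obtain ⟨a, ha, haQ⟩ := Set.not_subset.1 (show ¬ (J : Set C) ⊆ Q.comap (algebraMap C X) from
      fun hs => hJQ (Ideal.map_le_iff_le_comap.2 hs))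
    obtain ⟨k, t, s, htg, -⟩ := GrothLib.FlatOff.exists_homotopy g h hg hgh a
      fun q hq => hGfree q fun hJ => hq (hJ ha)
    obtain ⟨α', β', h'⟩ := GrothLib.FlatOff.localized_factor n.asIdeal g t (a ^ k) htg
    exact ⟨N, α', β', _, fun hmem => haQ (hQ.mem_of_pow_mem k (by rwa [map_pow] at hmem)), h'⟩
  · rw [Ideal.map_map]
    exact hfib

end GrothLib.ArtCrit20
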