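import Groth.Agent.Lib.ArtCrit20.Geo
import Groth.Agent.Lib.DualFree20.IndexBC
import Groth.Agent.Lib.DualFree20.SkBC

/-!
# Artinian criteria for reflexive powers of the relative canonical sheaf
-/

set_option autoImplicit false
set_option linter.all false
set_option backward.isDefEq.respectTransparency false
set_option maxHeartbeats 1600000

universe u

open CategoryTheory CategoryTheory.Limits AlgebraicGeometry TopologicalSpace IsLocalRing
open scoped TensorProduct

noncomputable section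

namespace GrothLib.ArtCrit20

open GrothLib.OX GrothLib.RightAdj22 GrothLib.DualFree20

section General

variable {X S : Scheme.{u}} [IsLocallyNoetherian X]

/-- The closed fibre at a point of an `(S_k)`-morphism. -/
theorem hasSk_closedFibre (f : X ⟶ S) {k : ℕ} (hS : RelCanon.IsSkMor f k) (y : X) :
    LocCoh.HasSk k (X.presheaf.stalk y ⧸ (maximalIdeal (S.presheaf.stalk (f y))).map (f.stalkMap y).hom)
      (X.presheaf.stalk y ⧸ (maximalIdeal (S.presheaf.stalk (f y))).map (f.stalkMap y).hom) := by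
  haveI : LocallyOfFiniteType f := hS.2.1
  haveI : LocallyOfFiniteType (f.fiberToSpecResidueField (f y)) :=
    MorphismProperty.pullback_snd _ _ (inferInstance : LocallyOfFiniteType f)
  haveI : IsNoetherianRing ((f.fiber (f y)).presheaf.stalk (f.asFiber y)) := GrothLib.DimCut.isNoetherianRing_stalk_fiber f _ _
  haveI : Module.Finite ((f.fiber (f y)).presheaf.stalk (f.asFiber y))
      ((Coh.structureModule (f.fiber (f y))).presheaf.stalk (f.asFiber y)) :=
    Module.Finite.equiv (HomSh.unitStalk (X := f.fiber (f y)) (f.asFiber y))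
  obtain ⟨e⟩ := GrothLib.CMMor6.nonempty_fibQuot_equiv f y
  exact GrothLib.SnFibres.hasSk_congr e.symm
    (GrothLib.SkExt.hasSk_congr (HomSh.unitStalk (X := f.fiber (f y)) (f.asFiber y)).symm (hS.2.2 y))

/-- Invertible modules satisfy relative `(S_k)` for `(S_k)`-morphisms. -/
theorem relSkAt_of_invertibleAt (f : X ⟶ S) {k : ℕ} (hS : RelCanon.IsSkMor f k) {G : X.Modules} (hG : Coh.IsCoh G)
    {y : X} (h : RelCanon.InvertibleAt G y) : RelCanon.RelSkAt f k G y := by
  haveI : Flat f := hS.1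
  haveI : LocallyOfFiniteType f := hS.2.1
  obtain ⟨t⟩ := nonempty_stalk_equiv_of_invertibleAt h
  let C := X.presheaf.stalk y
  let I : Ideal C := (maximalIdeal (S.presheaf.stalk (f y))).map (f.stalkMap y).hom
  haveI : IsNoetherianRing (C ⧸ I) := inferInstance
  refine (relSkAt_iff_good f hG k y).2 (Good.congr (RingEquiv.refl _) (RingEquiv.refl C) (fun _ => rfl) t.toAddEquiv
    (fun b x => t.map_smul b x) ⟨?_, ?_⟩)
  · exact Flat.stalkMap f y
  · let e : (C ⧸ I) ≃ₗ[C] C ⧸ (I • ⊤ : Submodule C C) :=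
      Submodule.quotEquivOfEq _ _ (by rw [smul_eq_mul, Ideal.mul_top])
    exact hasSk_semilinear (RingEquiv.refl _) e.toAddEquiv (fun b x => by
      obtain ⟨c, rfl⟩ := Ideal.Quotient.mk_surjective b
      exact e.map_smul c x) (hasSk_closedFibre f hS y)

/-- The double dual of a base change of a module invertible at a point. -/
theorem invertibleAt_ddual_pullback {X' : Scheme.{u}} (p : X' ⟶ X) {G : X.Modules} (y' : X')
    (h : RelCanon.InvertibleAt G (p y')) :
    RelCanon.InvertibleAt (RefHull.ddual ((Scheme.Modules.pullback p).obj G)) y' := by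
  obtain ⟨W, hyW, hW⟩ := invertibleAt_pullback p (M := G) y' h
  obtain ⟨u⟩ := hW
  have hi : PicF.IsInvertible (((Scheme.Modules.pullback p).obj G).restrict W.ι) :=
    ParaPair.isInvertible_of_iso u (isInvertible_structureModule _)
  obtain ⟨ed⟩ := nonempty_ddual_restrict W hi
  exact invertibleAt_of_restrict W (ParaPair.isInvertible_of_iso ed hi) _ hyW

end General

variable {A : Type u} [CommRing A] [IsNoetherianRing A] {Y : Scheme.{u}} [Y.Over (Spec (CommRingCat.of A))]
  [IsProper (Y ↘ Spec (CommRingCat.of A))]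

/-- The local data of a reflexive power at a point. -/
theorem exists_local_data (d : ℕ)
    (hS : RelCanon.IsSkMor (Y ↘ Spec (CommRingCat.of A)) 2) (hd : Cyc.HasRelDim (Y ↘ Spec (CommRingCat.of A)) d)
    (ω : Y.Modules) (hω : RelCanon.IsDualizingSheaf A Y d ω)
    (hG : ∀ y : Y, y ∉ RelCanon.gorLocus (Y ↘ Spec (CommRingCat.of A)) →
      (2 : WithBot ℕ∞) ≤ ringKrullDim (((Y ↘ Spec (CommRingCat.of A)).fiber
        ((Y ↘ Spec (CommRingCat.of A)) y)).presheaf.stalk ((Y ↘ Spec (CommRingCat.of A)).asFiber y)))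
    (y : Y) (m : ℕ) :
    letI := ((Y ↘ Spec (CommRingCat.of A)).stalkMap y).hom.toAlgebra
    Coh.IsCoh (RelCanon.refPowZ ω m) ∧ (RelCanon.InvertibleAt (RelCanon.refPowZ ω m) y ∨
      ∃ J : Ideal (Y.presheaf.stalk y), J ≠ ⊤ ∧
        Module.IsReflexive (Y.presheaf.stalk y) ((RelCanon.refPowZ ω m).presheaf.stalk y) ∧
        (∀ q : PrimeSpectrum (Y.presheaf.stalk y), ¬ J ≤ q.asIdeal →
          Module.Free (Localization.AtPrime q.asIdeal)
            (LocalizedModule q.asIdeal.primeCompl ((RelCanon.refPowZ ω m).presheaf.stalk y))) ∧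
        (∀ q : PrimeSpectrum (Y.presheaf.stalk y), J ≤ q.asIdeal → (2 : WithBot ℕ∞) ≤ ringKrullDim
          (EGA4.FibLocRing ((Spec (CommRingCat.of A)).presheaf.stalk ((Y ↘ Spec (CommRingCat.of A)) y))
            (Y.presheaf.stalk y) q.asIdeal)) ∧
        2 ≤ LocCoh.idealDepth (J.map (Ideal.Quotient.mk ((maximalIdeal _).map
            (algebraMap ((Spec (CommRingCat.of A)).presheaf.stalk ((Y ↘ Spec (CommRingCat.of A)) y)) (Y.presheaf.stalk y)))))
          (Y.presheaf.stalk y ⧸ (maximalIdeal _).map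
            (algebraMap ((Spec (CommRingCat.of A)).presheaf.stalk ((Y ↘ Spec (CommRingCat.of A)) y)) (Y.presheaf.stalk y)))) := by
  let f := Y ↘ Spec (CommRingCat.of A)
  haveI : Flat f := hS.1
  haveI : LocallyOfFiniteType f := hS.2.1
  haveI : IsLocallyNoetherian Y := LocallyOfFiniteType.isLocallyNoetherian f
  haveI : IsIso (Spec.map (CommRingCat.ofHom (RingHom.id A))) := by rw [CommRingCat.ofHom_id, Spec.map_id]; infer_instance
  obtain ⟨hωc, -, U, hbc, hU2⟩ := exists_bcOn d hS hd ω hω hG A (RingHom.id A) Y (𝟙 Y)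
    (IsPullback.of_horiz_isIso ⟨by simp⟩) ω hω
  let G := RelCanon.refPowZ ω (m : ℤ)
  have hGc : Coh.IsCoh G := isCoh_refPowZ hωc m
  refine ⟨hGc, ?_⟩
  have hinv : ∀ x, x ∈ U → RelCanon.InvertibleAt G x :=
    fun x hx => invertibleAt_of_restrict U (hbc.refPowZ hωc hωc m).1 x hx
  by_cases hy : y ∈ U
  · exact Or.inl (hinv y hy)
  refine Or.inr ?_
  let C := Y.presheaf.stalk y
  let R := (Spec (CommRingCat.of A)).presheaf.stalk (f y)
  letI : Algebra R C := (f.stalkMap y).hom.toAlgebra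
  haveI : IsLocalHom (algebraMap R C) := inferInstanceAs (IsLocalHom (f.stalkMap y).hom)
  haveI : Module.Flat R C := Flat.stalkMap f y
  let Z : Set (PrimeSpectrum C) := {q | pt y q ∉ U}
  have hZ : IsClosed Z := (U.isOpen.preimage (Y.fromSpecStalk y).continuous).isClosed_compl
  let J : Ideal C := PrimeSpectrum.vanishingIdeal Z
  have hJq : ∀ q : PrimeSpectrum C, J ≤ q.asIdeal → pt y q ∉ U := fun q hq => by
    have h : q ∈ PrimeSpectrum.zeroLocus (J : Set C) := hq
    rw [PrimeSpectrum.zeroLocus_vanishingIdeal_eq_closure, hZ.closure_eq] at h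
    exact h
  have hJq' : ∀ q : PrimeSpectrum C, ¬ J ≤ q.asIdeal → pt y q ∈ U := fun q hq => by
    by_contra h
    exact hq fun c hc => (PrimeSpectrum.mem_vanishingIdeal _ _).1 hc q h
  have hJtop : J ≠ ⊤ := fun h => by
    have hmem : (closedPoint C) ∈ Z := by
      show pt y (closedPoint C) ∉ U
      rwa [show pt y (closedPoint C) = y from Scheme.fromSpecStalk_closedPoint]
    exact (maximalIdeal.isMaximal C).ne_top (top_le_iff.1 (h ▸ fun c hc =>
      (PrimeSpectrum.mem_vanishingIdeal _ _).1 hc _ hmem))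
  have hcodim : ∀ q : PrimeSpectrum C, J ≤ q.asIdeal →
      (2 : WithBot ℕ∞) ≤ ringKrullDim (EGA4.FibLocRing R C q.asIdeal) := fun q hq =>
    (hU2 _ (hJq q hq)).trans (ringKrullDim_fibLoc_stalk f y q).ge
  let I : Ideal C := (maximalIdeal R).map (algebraMap R C)
  obtain ⟨θ, -, hθ, -, -⟩ := exists_closed_equiv (C := C) C
  let X₀ := Localization.AtPrime (maximalIdeal C)
  let θq : (C ⧸ I) ≃+* EGA4.FibLocRing R C (maximalIdeal C) := Ideal.quotientEquiv _ _ θ (by
      rw [Ideal.map_map, show (maximalIdeal C).comap (algebraMap R C) = maximalIdeal R from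
        IsLocalRing.maximalIdeal_comap _, show (θ : C →+* X₀).comp (algebraMap R C) = algebraMap R X₀ from
        RingHom.ext fun r => (hθ _).trans (IsScalarTower.algebraMap_apply R C X₀ r).symm])
  have hD : 2 ≤ LocCoh.idealDepth (J.map (Ideal.Quotient.mk I)) (C ⧸ I) := by
    have h := GrothLib.FlatOff.two_le_depth_fibLocRing (A := R) J (maximalIdeal C)
      (GrothLib.SnFibres.hasSk_congr θq (hasSk_closedFibre f hS y)) fun r hr _ => hcodim r hr
    rw [GrothLib.FiniteQuot.idealDepth_congr θq θq.toAddEquiv (fun a b => map_mul θq a b) (J.map (Ideal.Quotient.mk I)),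
      Ideal.map_map, show (θq : (C ⧸ I) →+* EGA4.FibLocRing R C (maximalIdeal C)).comp (Ideal.Quotient.mk I) =
        algebraMap C (EGA4.FibLocRing R C (maximalIdeal C)) from RingHom.ext fun c => by
          show Ideal.Quotient.mk _ (θ c) = _
          rw [hθ]; rfl]
    exact h
  refine ⟨J, hJtop, ?_, fun q hq => free_localized_stalk hGc y q (hinv _ (hJq' q hq)), hcodim, hD⟩
  let T := CohB1.tensorPow ω m
  have hTc : Coh.IsCoh T := isCoh_tensorPow' hωc m
  obtain ⟨eT⟩ := nonempty_tensorPow_restrict U hbc.1 m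
  have hTi : PicF.IsInvertible (T.restrict U.ι) :=
    ParaPair.isInvertible_of_iso eT (PerfLim10.isInvertible_tensorPow hbc.1 m)
  obtain ⟨eD⟩ := nonempty_dual_restrict hTc U hTi
  have hDi : PicF.IsInvertible ((RefHull.dual T).restrict U.ι) :=
    ParaPair.isInvertible_of_iso eD (isInvertible_dual_of hTi)
  haveI : Module.Finite C ((RefHull.dual T).presheaf.stalk y) := QuasiFlat.finite_stalk _ (isCoh_dual' hTc) y
  obtain ⟨e⟩ := nonempty_dual_stalk (isCoh_dual' hTc) y
  haveI := isReflexive_dual J (two_le_depth_self_of_fibre J hJtop hD) ((RefHull.dual T).presheaf.stalk y)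
    fun q hq => free_localized_stalk (isCoh_dual' hTc) y q (invertibleAt_of_restrict U hDi _ (hJq' q hq))
  exact Module.equiv e.symm

/-- A base change to a point's Artinian thickening. -/
theorem stalk_test {t : ↥(Spec (CommRingCat.of A))} (A' : Type u) [CommRing A']
    (θ : (Spec (CommRingCat.of A)).presheaf.stalk t →+* A') :
    ∃ χ : Localization.AtPrime t.asIdeal ≃+* (Spec (CommRingCat.of A)).presheaf.stalk t,
      Spec.map (CommRingCat.ofHom ((θ.comp χ.toRingHom).comp (algebraMap A (Localization.AtPrime t.asIdeal)))) =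
        Spec.map (CommRingCat.ofHom θ) ≫ (Spec (CommRingCat.of A)).fromSpecStalk t := by
  refine ⟨(Spec.stalkIso (CommRingCat.of A) t).symm.commRingCatIsoToRingEquiv, ?_⟩
  rw [Spec.fromSpecStalk_eq', ← Spec.map_comp]
  congr 1
  ext a
  show θ _ = θ _
  congr 1
  exact (StructureSheaf.stalkIso _ _).commutes a

/-- Relative `(S₂)` of a reflexive power passes to Artinian tests. -/
theorem relSkAt_artinian_of (d : ℕ)
    (hS : RelCanon.IsSkMor (Y ↘ Spec (CommRingCat.of A)) 2) (hd : Cyc.HasRelDim (Y ↘ Spec (CommRingCat.of A)) d)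
    (ω : Y.Modules) (hω : RelCanon.IsDualizingSheaf A Y d ω)
    (hG : ∀ y : Y, y ∉ RelCanon.gorLocus (Y ↘ Spec (CommRingCat.of A)) →
      (2 : WithBot ℕ∞) ≤ ringKrullDim (((Y ↘ Spec (CommRingCat.of A)).fiber
        ((Y ↘ Spec (CommRingCat.of A)) y)).presheaf.stalk ((Y ↘ Spec (CommRingCat.of A)).asFiber y)))
    (m : ℕ) (y : Y) (h : RelCanon.RelSkAt (Y ↘ Spec (CommRingCat.of A)) 2 (RelCanon.refPowZ ω m) y)
    (A' : Type u) [CommRing A'] [IsArtinianRing A'] [IsLocalRing A']
    (ψ : Localization.AtPrime ((Y ↘ Spec (CommRingCat.of A)) y).asIdeal →+* A') (hψ : Function.Surjective ψ)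
    (Y' : Scheme.{u}) [Y'.Over (Spec (CommRingCat.of A'))] (p : Y' ⟶ Y)
    (hp : IsPullback p (Y' ↘ Spec (CommRingCat.of A')) (Y ↘ Spec (CommRingCat.of A))
      (Spec.map (CommRingCat.ofHom (ψ.comp (algebraMap A (Localization.AtPrime ((Y ↘ Spec (CommRingCat.of A)) y).asIdeal))))))
    (ω' : Y'.Modules) (hω' : RelCanon.IsDualizingSheaf A' Y' d ω') (y' : Y') (hy' : p y' = y) :
    RelCanon.RelSkAt (Y' ↘ Spec (CommRingCat.of A')) 2 (RelCanon.refPowZ ω' m) y' := by
  let f := Y ↘ Spec (CommRingCat.of A)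
  let f' := Y' ↘ Spec (CommRingCat.of A')
  haveI : LocallyOfFiniteType f := hS.2.1
  haveI : IsLocallyNoetherian Y := LocallyOfFiniteType.isLocallyNoetherian f
  haveI : IsProper f' := MorphismProperty.of_isPullback (P := @IsProper) hp inferInstance
  haveI : IsLocallyNoetherian Y' := LocallyOfFiniteType.isLocallyNoetherian f'
  obtain ⟨hGc, hdata⟩ := exists_local_data d hS hd ω hω hG y m
  obtain ⟨⟨e⟩, -⟩ := refPowZ_baseChange d hS hd ω hω hG A' _ Y' p hp ω' hω' (m : ℤ)
  have hS' := isSkMor_of_isPullback hp hS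
  obtain ⟨hωc, hω'c, -⟩ := exists_bcOn d hS hd ω hω hG A' _ Y' p hp ω' hω'
  have hG'c := isCoh_refPowZ hω'c (m : ℤ)
  rcases hdata with hinv | ⟨J, hJ, hrefl, hFU, hcodim, hD⟩
  · exact relSkAt_of_invertibleAt f' hS' hG'c
      (invertibleAt_of_iso e.symm (invertibleAt_ddual_pullback p y' (hy'.symm ▸ hinv)))
  let R := (Spec (CommRingCat.of A)).presheaf.stalk (f y)
  let C := Y.presheaf.stalk y
  letI : Algebra R C := (f.stalkMap y).hom.toAlgebra
  haveI : IsLocalHom (algebraMap R C) := inferInstanceAs (IsLocalHom (f.stalkMap y).hom)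
  haveI : Flat f := hS.1
  haveI : Module.Flat R C := Flat.stalkMap f y
  let χ₀ := (Spec.stalkIso (CommRingCat.of A) (f y)).commRingCatIsoToRingEquiv
  let θ : R →+* A' := ψ.comp χ₀.toRingHom
  have hθ : Function.Surjective θ := hψ.comp χ₀.surjective
  have hq : Spec.map (CommRingCat.ofHom (ψ.comp (algebraMap A (Localization.AtPrime (f y).asIdeal)))) =
      Spec.map (CommRingCat.ofHom θ) ≫ (Spec (CommRingCat.of A)).fromSpecStalk (f y) := by
    rw [Spec.fromSpecStalk_eq', ← Spec.map_comp]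
    congr 1
    ext a
    show ψ _ = ψ (χ₀ _)
    congr 1
    exact ((AlgEquiv.symm_apply_eq _).2 ((StructureSheaf.stalkIso _ _).commutes a).symm).symm
  have hp' : IsPullback p f' f (Spec.map (CommRingCat.ofHom θ) ≫ (Spec (CommRingCat.of A)).fromSpecStalk (f y)) := hq ▸ hp
  haveI : IsLocalRing (R ⧸ RingHom.ker θ) := (RingHom.quotientKerEquivOfSurjective hθ).symm.isLocalRing
  haveI : IsArtinianRing (R ⧸ RingHom.ker θ) := (RingHom.quotientKerEquivOfSurjective hθ).symm.isArtinianRing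
  haveI : Module.Finite C ((RelCanon.refPowZ ω (m : ℤ)).presheaf.stalk y) := QuasiFlat.finite_stalk _ hGc y
  haveI := hrefl
  exact (relSkAt_iff_good f' hG'c 2 y').2 ((good_square f hGc y A' θ hθ p f' hp' e.symm y' hy').1
    (good_ddual_quot _ J hJ hFU hD ((relSkAt_iff_good f hGc 2 y).1 h) (RingHom.ker θ)).1)

/-- **The infinitesimal criterion for a reflexive power of the relative canonical sheaf.** -/
theorem relSkAt_of_artinian (d : ℕ)
    (hS : RelCanon.IsSkMor (Y ↘ Spec (CommRingCat.of A)) 2) (hd : Cyc.HasRelDim (Y ↘ Spec (CommRingCat.of A)) d)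
    (ω : Y.Modules) (hω : RelCanon.IsDualizingSheaf A Y d ω)
    (hG : ∀ y : Y, y ∉ RelCanon.gorLocus (Y ↘ Spec (CommRingCat.of A)) →
      (2 : WithBot ℕ∞) ≤ ringKrullDim (((Y ↘ Spec (CommRingCat.of A)).fiber
        ((Y ↘ Spec (CommRingCat.of A)) y)).presheaf.stalk ((Y ↘ Spec (CommRingCat.of A)).asFiber y)))
    (m : ℕ) (y : Y)
    (h : ∀ (A' : Type u) [CommRing A'] [IsArtinianRing A'] [IsLocalRing A']
      (ψ : Localization.AtPrime ((Y ↘ Spec (CommRingCat.of A)) y).asIdeal →+* A') (hψ : Function.Surjective ψ)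
      (Y' : Scheme.{u}) [Y'.Over (Spec (CommRingCat.of A'))] (p : Y' ⟶ Y)
      (hp : IsPullback p (Y' ↘ Spec (CommRingCat.of A')) (Y ↘ Spec (CommRingCat.of A))
        (Spec.map (CommRingCat.ofHom (ψ.comp (algebraMap A (Localization.AtPrime ((Y ↘ Spec (CommRingCat.of A)) y).asIdeal))))))
      (ω' : Y'.Modules) (hω' : RelCanon.IsDualizingSheaf A' Y' d ω') (y' : Y') (hy' : p y' = y),
      RelCanon.RelSkAt (Y' ↘ Spec (CommRingCat.of A')) 2 (RelCanon.refPowZ ω' m) y') :
    RelCanon.RelSkAt (Y ↘ Spec (CommRingCat.of A)) 2 (RelCanon.refPowZ ω m) y := by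
  let f := Y ↘ Spec (CommRingCat.of A)
  haveI : Flat f := hS.1
  haveI : LocallyOfFiniteType f := hS.2.1
  haveI : IsLocallyNoetherian Y := LocallyOfFiniteType.isLocallyNoetherian f
  obtain ⟨hGc, hdata⟩ := exists_local_data d hS hd ω hω hG y m
  rcases hdata with hinv | ⟨J, hJ, hrefl, hFU, hcodim, hD⟩
  · exact relSkAt_of_invertibleAt f hS hGc hinv
  let R := (Spec (CommRingCat.of A)).presheaf.stalk (f y)
  let C := Y.presheaf.stalk y
  letI : Algebra R C := (f.stalkMap y).hom.toAlgebra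
  haveI : IsLocalHom (algebraMap R C) := inferInstanceAs (IsLocalHom (f.stalkMap y).hom)
  haveI : Module.Flat R C := Flat.stalkMap f y
  haveI : Module.Finite C ((RelCanon.refPowZ ω (m : ℤ)).presheaf.stalk y) := QuasiFlat.finite_stalk _ hGc y
  haveI := hrefl
  refine (relSkAt_iff_good f hGc 2 y).2 (good_of_artinian (R := R) (C := C) _ J hFU (hasSk_closedFibre f hS y) hcodim
    fun I hAr hLo => ?_)
  let θ : R →+* R ⧸ I := Ideal.Quotient.mk I
  have hθ : Function.Surjective θ := Ideal.Quotient.mk_surjective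
  obtain ⟨χ, hχ⟩ := stalk_test (A := A) (t := f y) (R ⧸ I) θ
  let φ : A →+* R ⧸ I := (θ.comp χ.toRingHom).comp (algebraMap A (Localization.AtPrime (f y).asIdeal))
  let Y' := pullback f (Spec.map (CommRingCat.ofHom φ))
  letI : Y'.Over (Spec (CommRingCat.of (R ⧸ I))) := ⟨pullback.snd _ _⟩
  let p : Y' ⟶ Y := pullback.fst _ _
  have hp : IsPullback p (Y' ↘ Spec (CommRingCat.of (R ⧸ I))) f (Spec.map (CommRingCat.ofHom φ)) :=
    IsPullback.of_hasPullback _ _
  have hp' : IsPullback p (Y' ↘ Spec (CommRingCat.of (R ⧸ I))) f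
      (Spec.map (CommRingCat.ofHom θ) ≫ (Spec (CommRingCat.of A)).fromSpecStalk (f y)) := hχ ▸ hp
  haveI : IsProper (Y' ↘ Spec (CommRingCat.of (R ⧸ I))) := MorphismProperty.of_isPullback (P := @IsProper) hp inferInstance
  haveI : IsLocallyNoetherian Y' := LocallyOfFiniteType.isLocallyNoetherian (Y' ↘ Spec (CommRingCat.of (R ⧸ I)))
  have hd' : ∀ s, topologicalKrullDim ↥((Y' ↘ Spec (CommRingCat.of (R ⧸ I))).fiber s) ≤ (d : WithBot ℕ∞) := fun s =>
    (GrothLib.FibreBC.topologicalKrullDim_fiber hp s).le.trans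
      (GrothLib.FibPd.topologicalKrullDim_le_of_components fun Z hZ => (hd _ Z hZ).le)
  obtain ⟨ω', hω'⟩ := exists_isDualizingSheaf (A := R ⧸ I) (Y := Y') d hd'
  obtain ⟨⟨e⟩, -⟩ := refPowZ_baseChange d hS hd ω hω hG (R ⧸ I) φ Y' p hp ω' hω' (m : ℤ)
  obtain ⟨hωc, hω'c, -⟩ := exists_bcOn d hS hd ω hω hG (R ⧸ I) φ Y' p hp ω' hω'
  have hpt : f y = (Spec.map (CommRingCat.ofHom θ) ≫ (Spec (CommRingCat.of A)).fromSpecStalk (f y)) (closedPoint (R ⧸ I)) := by
    haveI : IsLocalHom θ := IsLocalHom.of_surjective _ hθ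
    rw [Scheme.Hom.comp_apply, Spec_closedPoint]
    exact Scheme.fromSpecStalk_closedPoint.symm
  obtain ⟨z, hz, -⟩ := Scheme.Pullback.exists_preimage_pullback
    (f := f) (g := Spec.map (CommRingCat.ofHom θ) ≫ (Spec (CommRingCat.of A)).fromSpecStalk (f y)) y _ hpt
  let y' : Y' := hp'.isoPullback.inv z
  have hy' : p y' = y := by
    show (hp'.isoPullback.inv ≫ p) z = y
    rw [hp'.isoPullback_inv_fst]
    exact hz
  have hh := h (R ⧸ I) (θ.comp χ.toRingHom) (hθ.comp χ.surjective) Y' p hp ω' hω' y' hy'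
  have hk : RingHom.ker θ = I := Ideal.mk_ker
  have hsq := (good_square f hGc y (R ⧸ I) θ hθ p (Y' ↘ Spec (CommRingCat.of (R ⧸ I))) hp' e.symm y' hy').2
    ((relSkAt_iff_good _ (isCoh_refPowZ hω'c (m : ℤ)) 2 y').1 hh)
  have gen : ∀ (K : Ideal R) [IsLocalRing (R ⧸ K)], K = I →
      Good 2 (algebraMap (R ⧸ K) (C ⧸ K.map (algebraMap R C))) (Module.Dual (C ⧸ K.map (algebraMap R C))
        (Module.Dual (C ⧸ K.map (algebraMap R C)) ((C ⧸ K.map (algebraMap R C)) ⊗[C]
          (RelCanon.refPowZ ω (m : ℤ)).presheaf.stalk y))) →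
      Good 2 (algebraMap (R ⧸ I) (C ⧸ I.map (algebraMap R C))) (Module.Dual (C ⧸ I.map (algebraMap R C))
        (Module.Dual (C ⧸ I.map (algebraMap R C)) ((C ⧸ I.map (algebraMap R C)) ⊗[C]
          (RelCanon.refPowZ ω (m : ℤ)).presheaf.stalk y))) := by
    intro K _ hK; subst hK; exact id
  exact @gen (RingHom.ker θ) ((RingHom.quotientKerEquivOfSurjective hθ).symm.isLocalRing) hk hsq

end GrothLib.ArtCrit20

end
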