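import Groth.Agent.Lib.ArtCrit20.Crit
import Groth.Agent.Lib.FlatValCrit1.Main
import Groth.Agent.Lib.FlatValCrit1.Base
import Groth.Agent.Lib.FlatValCrit1.Coker
import Groth.Agent.Lib.FlatOffHens1.BaseChange
import Groth.Agent.Lib.FlatAbove.Killed

/-!
# The valuative criterion for reflexive powers of the relative canonical sheaf
-/

set_option autoImplicit false
set_option linter.all false
set_option backward.isDefEq.respectTransparency false
set_option maxHeartbeats 2000000

universe u

open CategoryTheory CategoryTheory.Limits AlgebraicGeometry TopologicalSpace IsLocalRing Function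
open scoped TensorProduct

noncomputable section

namespace GrothLib.ArtCrit20

open GrothLib.OX GrothLib.RightAdj22 GrothLib.DualFree20

section Algebra

attribute [local instance] Algebra.TensorProduct.rightAlgebra

/-- The cokernel becomes flat over a discrete valuation ring, at a point of the base change. -/
theorem flatAt_coker_dvr {R C : Type u} [CommRing R] [IsLocalRing R] [IsNoetherianRing R] [CommRing C]
    [IsLocalRing C] [IsNoetherianRing C] [Algebra R C] [IsLocalHom (algebraMap R C)] [Module.Flat R C]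
    (hS2 : LocCoh.HasSk 2 (EGA4.FibLocRing R C (maximalIdeal C)) (EGA4.FibLocRing R C (maximalIdeal C)))
    {F : Type u} [AddCommGroup F] [Module C F] [Module.Finite C F] (J : Ideal C)
    (hcodim : ∀ q : PrimeSpectrum C, J ≤ q.asIdeal → (2 : WithBot ℕ∞) ≤ ringKrullDim (EGA4.FibLocRing R C q.asIdeal))
    {N M : ℕ} (g : F →ₗ[C] (Fin N → C)) (h : (Fin N → C) →ₗ[C] (Fin M → C)) (hg : Injective g)
    (hgh : Function.Exact g h)
    (hGfree : ∀ q : PrimeSpectrum C, ¬ J ≤ q.asIdeal → Module.Free (Localization.AtPrime q.asIdeal)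
      (LocalizedModule q.asIdeal.primeCompl ((Fin M → C) ⧸ LinearMap.range h)))
    (V : Type u) [CommRing V] [IsDomain V] [IsDiscreteValuationRing V] [Algebra R V] [IsLocalHom (algebraMap R V)]
    {W : Type u} [CommRing W] [IsNoetherianRing W] [Algebra C W] [Algebra V W] [Algebra R W] [IsScalarTower R C W]
    [IsScalarTower R V W] [Algebra.IsPushout R C V W]
    (r : Ideal W) [r.IsPrime] (hrn : r.comap (algebraMap C W) = maximalIdeal C)
    (hrV : r.comap (algebraMap V W) = maximalIdeal V)
    (hdd :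
      Good 2 (algebraMap V (Localization.AtPrime r))
        (Module.Dual (Localization.AtPrime r) (Module.Dual (Localization.AtPrime r) (Localization.AtPrime r ⊗[C] F)))) :
    FlatCA.FlatAt V r (W ⊗[C] ((Fin M → C) ⧸ LinearMap.range h)) := by
  classical
  let C' := Localization.AtPrime r
  haveI : IsNoetherianRing C' := IsLocalization.isNoetherianRing r.primeCompl _ inferInstance
  haveI : IsLocalHom (algebraMap V C') := ⟨fun a ha => by
    by_contra hna
    have h1 : algebraMap V W a ∈ r := by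
      show a ∈ r.comap (algebraMap V W)
      rw [hrV]; exact hna
    rw [IsScalarTower.algebraMap_apply V W C'] at ha
    exact ((IsLocalization.AtPrime.isUnit_to_map_iff C' r _).1 ha) h1⟩
  haveI : Algebra.IsPushout R V C W := Algebra.IsPushout.symm inferInstance
  haveI : Module.Flat V W := Module.Flat.isBaseChange R V C W
    (Algebra.IsPushout.out (R := R) (S := V) (R' := C) (S' := W))
  haveI : Module.Flat W C' := IsLocalization.flat C' r.primeCompl
  haveI : Module.Flat V C' := Module.Flat.trans V W C'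
  let J' : Ideal C' := J.map (algebraMap C C')
  let X' := Localization.AtPrime (maximalIdeal C')
  obtain ⟨θ, -, hθ, -, -⟩ := exists_closed_equiv (C := C') C'
  let ε : EGA4.FibLocRing V W r ≃+* EGA4.FibLocRing V C' (maximalIdeal C') := Ideal.quotientEquiv _ _ θ (by
    rw [Ideal.map_map, show (maximalIdeal C').comap (algebraMap V C') = maximalIdeal V from
      IsLocalRing.maximalIdeal_comap _, show (θ : C' →+* X').comp (algebraMap V C') = algebraMap V X' from
      RingHom.ext fun v => (hθ _).trans (IsScalarTower.algebraMap_apply V C' X' v).symm, hrV])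
  have hD : 2 ≤ LocCoh.idealDepth (J'.map (algebraMap C' (EGA4.FibLocRing V C' (maximalIdeal C'))))
      (EGA4.FibLocRing V C' (maximalIdeal C')) := by
    have h0 := GrothLib.FlatValCrit1.two_le_depth_fib_baseChange (R := R) (C := C) (V := V) (C' := W) J (maximalIdeal C)
      (IsLocalRing.maximalIdeal_comap _) hS2 hcodim r hrV hrn
    rw [GrothLib.FiniteQuot.idealDepth_congr ε ε.toAddEquiv (fun a b => map_mul ε a b), Ideal.map_map, Ideal.map_map] at h0
    show 2 ≤ LocCoh.idealDepth ((J.map (algebraMap C C')).map (algebraMap C' (EGA4.FibLocRing V C' (maximalIdeal C')))) _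
    rw [Ideal.map_map]
    refine h0.trans (le_of_eq ?_)
    congr 2
    ext c
    show Ideal.Quotient.mk _ (θ (algebraMap W C' (algebraMap C W c))) = _
    rw [hθ]
    rfl
  let ρ : ∀ k : ℕ, C' ⊗[C] (Fin k → C) ≃ₗ[C'] (Fin k → C') := fun k => TensorProduct.piScalarRight C C' C' (Fin k)
  let g' : C' ⊗[C] F →ₗ[C'] (Fin N → C') := (ρ N).toLinearMap.comp (g.baseChange C')
  let h' : (Fin N → C') →ₗ[C'] (Fin M → C') :=
    ((ρ M).toLinearMap.comp (h.baseChange C')).comp (ρ N).symm.toLinearMap
  have hgh' : ∀ x, h' (g' x) = 0 := fun x => by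
    show ρ M (h.baseChange C' ((ρ N).symm (ρ N (g.baseChange C' x)))) = 0
    rw [LinearEquiv.symm_apply_apply, ← LinearMap.comp_apply, ← LinearMap.baseChange_comp,
      hgh.linearMap_comp_eq_zero, LinearMap.baseChange_zero, LinearMap.zero_apply, map_zero]
  let G := (Fin M → C) ⧸ LinearMap.range h
  let G' := (Fin M → C') ⧸ LinearMap.range h'
  have hπ : Surjective ((LinearMap.range h).mkQ.baseChange C') :=
    LinearMap.lTensor_surjective C' (Submodule.mkQ_surjective _)
  let π : (Fin M → C') →ₗ[C'] C' ⊗[C] G := ((LinearMap.range h).mkQ.baseChange C').comp (ρ M).symm.toLinearMap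
  have hker : LinearMap.ker π = LinearMap.range h' := by
    ext z
    have hex := lTensor_exact C' (LinearMap.exact_map_mkQ_range h) (Submodule.mkQ_surjective _) ((ρ M).symm z)
    show (LinearMap.range h).mkQ.baseChange C' ((ρ M).symm z) = 0 ↔ _
    refine Iff.trans hex ⟨?_, ?_⟩
    · rintro ⟨w, hw⟩
      refine ⟨ρ N w, ?_⟩
      show ρ M (h.baseChange C' ((ρ N).symm (ρ N w))) = z
      rw [LinearEquiv.symm_apply_apply, ← LinearEquiv.apply_symm_apply (ρ M) z]
      exact congrArg (ρ M) hw
    · rintro ⟨y, rfl⟩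
      refine ⟨(ρ N).symm y, ?_⟩
      show _ = (ρ M).symm (ρ M (h.baseChange C' ((ρ N).symm y)))
      rw [LinearEquiv.symm_apply_apply]
      rfl
  let e : G' ≃ₗ[C'] C' ⊗[C] G :=
    (Submodule.quotEquivOfEq _ _ hker.symm).trans (π.quotKerEquivOfSurjective (hπ.comp (ρ M).symm.surjective))
  have hhom : ∀ a' ∈ J', ∃ (k : ℕ) (t : (Fin N → C') →ₗ[C'] C' ⊗[C] F) (s : (Fin M → C') →ₗ[C'] (Fin N → C')),
      (∀ x, t (g' x) = a' ^ k • x) ∧ ∀ y, g' (t y) + s (h' y) = a' ^ k • y := by
    intro a' ha'
    exact GrothLib.FlatOffHens1.exists_homotopy_baseChange g h hg hgh J hGfree (ρ := ρ) a' ha'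
  have hG' : ∀ r : PrimeSpectrum C', ¬ J' ≤ r.asIdeal → ∃ (k : ℕ) (α : G' →ₗ[C'] (Fin k → C'))
      (β : (Fin k → C') →ₗ[C'] G') (s : r.asIdeal.primeCompl), ∀ x, β (α x) = (s : C') • x := by
    intro r hr
    haveI := hGfree ⟨r.asIdeal.comap (algebraMap C C'), inferInstance⟩ fun hJ => hr (Ideal.map_le_iff_le_comap.2 hJ)
    obtain ⟨k, α, β, s, hs⟩ := GrothLib.FreeOff.exists_factor_of_free (B := C) G (r.asIdeal.comap (algebraMap C C'))
    refine ⟨k, ((ρ k).toLinearMap.comp (α.baseChange C')).comp e.toLinearMap,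
      (e.symm.toLinearMap.comp (β.baseChange C')).comp (ρ k).symm.toLinearMap, ⟨algebraMap C C' s, s.2⟩, fun z => ?_⟩
    show e.symm (β.baseChange C' ((ρ k).symm (ρ k (α.baseChange C' (e z))))) = _
    rw [LinearEquiv.symm_apply_apply, ← LinearMap.comp_apply (β.baseChange C'), ← LinearMap.baseChange_comp,
      show β.comp α = (s : C) • LinearMap.id from LinearMap.ext hs, LinearMap.baseChange_smul,
      LinearMap.baseChange_id, LinearMap.smul_apply, LinearMap.id_apply, ← algebraMap_smul C' (s : C) (e z),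
      map_smul, LinearEquiv.symm_apply_apply]
  haveI := GrothLib.FlatOff.finite_dual (B := C') (C' ⊗[C] F)
  haveI := GrothLib.FlatOff.finite_dual (B := C') (Module.Dual C' (C' ⊗[C] F))
  have key : FlatCA.FlatAt V (maximalIdeal C') (C' ⊗[C] G) := GrothLib.FlatAbove.flatAt_congr e (maximalIdeal C')
    (GrothLib.FlatValCrit1.flatAt_coker_of_hasSk_dvr J' (maximalIdeal C') g' h'
      (IsLocalRing.maximalIdeal_comap _) hD hgh' hhom hG' ((fibLoc_iff_good (R := V) (C := C') _ 2).2 hdd))
  obtain ⟨θ', e', -, he0, he'⟩ := exists_closed_equiv (C := C') (C' ⊗[C] G)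
  have key' : Module.Flat V (C' ⊗[C] G) :=
    (GrothLib.CritMod6.flat_iff_of_semilinear (RingEquiv.refl V) e' fun a m => by
      rw [he0, he0]; exact LinearMap.map_smul_of_tower _ a m).2 key
  show Module.Flat V (LocalizedModule r.primeCompl (W ⊗[C] G))
  let E : LocalizedModule r.primeCompl (W ⊗[C] G) ≃ₗ[C'] C' ⊗[C] G :=
    (LocalizedModule.equivTensorProduct r.primeCompl (W ⊗[C] G)).trans
      (TensorProduct.AlgebraTensorModule.cancelBaseChange C W C' C' G)
  haveI : IsScalarTower V C' (LocalizedModule r.primeCompl (W ⊗[C] G)) := IsScalarTower.of_algebraMap_smul fun v z => by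
    rw [IsScalarTower.algebraMap_apply V W C', algebraMap_smul, algebraMap_smul]
  exact Module.Flat.of_linearEquiv (E.restrictScalars V)

/-- **The valuative criterion at the closed point.** -/
theorem good_of_dvr {R C : Type u} [CommRing R] [IsLocalRing R] [IsNoetherianRing R] [IsReduced R] [CommRing C]
    [IsLocalRing C] [IsNoetherianRing C] [Algebra R C] [IsLocalHom (algebraMap R C)] [Module.Flat R C]
    [Algebra.EssFiniteType R C]
    (F : Type u) [AddCommGroup F] [Module C F] [Module.Finite C F] [Module.IsReflexive C F] (J : Ideal C)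
    (hFU : ∀ q : PrimeSpectrum C, ¬ J ≤ q.asIdeal →
      Module.Free (Localization.AtPrime q.asIdeal) (LocalizedModule q.asIdeal.primeCompl F))
    (hS2 : LocCoh.HasSk 2 (C ⧸ (maximalIdeal R).map (algebraMap R C)) (C ⧸ (maximalIdeal R).map (algebraMap R C)))
    (hcodim : ∀ q : PrimeSpectrum C, J ≤ q.asIdeal → (2 : WithBot ℕ∞) ≤ ringKrullDim (EGA4.FibLocRing R C q.asIdeal))
    (hII : ∀ (V : Type u) [CommRing V] [IsDomain V] [IsDiscreteValuationRing V] [Algebra R V]
      [IsLocalHom (algebraMap R V)] (r : Ideal (V ⊗[R] C)) [r.IsPrime],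
      r.comap (algebraMap C (V ⊗[R] C)) = maximalIdeal C → r.comap (algebraMap V (V ⊗[R] C)) = maximalIdeal V →
      Good 2 (algebraMap V (Localization.AtPrime r))
        (Module.Dual (Localization.AtPrime r) (Module.Dual (Localization.AtPrime r) (Localization.AtPrime r ⊗[C] F)))) :
    Good 2 (algebraMap R C) F := by
  classical
  letI : Module R F := Module.compHom F (algebraMap R C)
  haveI : IsScalarTower R C F := IsScalarTower.of_algebraMap_smul fun _ _ => rfl
  obtain ⟨θ, -, hθ, -, -⟩ := exists_closed_equiv (C := C) C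
  let X := Localization.AtPrime (maximalIdeal C)
  haveI : IsNoetherianRing X := IsLocalization.isNoetherianRing (maximalIdeal C).primeCompl _ inferInstance
  have hS2' : LocCoh.HasSk 2 (EGA4.FibLocRing R C (maximalIdeal C)) (EGA4.FibLocRing R C (maximalIdeal C)) :=
    GrothLib.SnFibres.hasSk_congr (Ideal.quotientEquiv _ _ θ (by
      rw [Ideal.map_map, show (maximalIdeal C).comap (algebraMap R C) = maximalIdeal R from
        IsLocalRing.maximalIdeal_comap _, show (θ : C →+* X).comp (algebraMap R C) = algebraMap R X from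
        RingHom.ext fun r => (hθ _).trans (IsScalarTower.algebraMap_apply R C X r).symm])) hS2
  let n : PrimeSpectrum C := ⟨maximalIdeal C, inferInstance⟩
  obtain ⟨N, M, g, h, hg, hgh, hfree⟩ := GrothLib.FreeOff.exists_presentation (B := C) F
  have hGfree : ∀ q : PrimeSpectrum C, ¬ J ≤ q.asIdeal → Module.Free (Localization.AtPrime q.asIdeal)
      (LocalizedModule q.asIdeal.primeCompl ((Fin M → C) ⧸ LinearMap.range h)) :=
    fun q hq => hfree q.asIdeal (hFU q hq)
  have hN : ∀ (V : Type u) [CommRing V] [Algebra R V] [IsNoetherianRing V], IsNoetherianRing (V ⊗[R] C) :=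
    fun V _ _ _ => Algebra.EssFiniteType.isNoetherianRing V (V ⊗[R] C)
  haveI : IsNoetherianRing (AdicCompletion (maximalIdeal R) R ⊗[R] C) := hN _
  have hfl : Module.Flat R ((Fin M → C) ⧸ LinearMap.range h) := by
    refine GrothLib.FlatValCrit1.flat_of_forall_dvr_local (B := C) _ ?_
    intro V _ _ _ _ hloc hint r _ hr
    haveI := hint
    haveI := hloc
    obtain ⟨r₂, hr₂, hle⟩ := Ideal.exists_le_maximal r (Ideal.IsPrime.ne_top inferInstance)
    have hV : r₂.comap (algebraMap V (V ⊗[R] C)) = maximalIdeal V :=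
      ((maximalIdeal.isMaximal V).eq_of_le (Ideal.IsPrime.ne_top inferInstance) (hr ▸ Ideal.comap_mono hle)).symm
    have hX : r₂.comap (algebraMap C (V ⊗[R] C)) = maximalIdeal C :=
      IsLocalRing.eq_maximalIdeal (GrothLib.FlatValCrit1.isMaximal_comap r₂ hV.ge)
    haveI := hN V
    exact GrothLib.FlatValCrit1.flatAt_of_le r r₂ hle
      (haveI : Algebra.IsPushout R C V (V ⊗[R] C) := Algebra.IsPushout.symm inferInstance
       flatAt_coker_dvr hS2' J hcodim g h hg hgh hGfree V (W := V ⊗[R] C) r₂ hX hV (hII V r₂ hX hV))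
  have hflat : FlatCA.FlatAt R n.asIdeal ((Fin M → C) ⧸ LinearMap.range h) := by
    obtain ⟨θ', e', -, he0, he'⟩ := exists_closed_equiv (C := C) ((Fin M → C) ⧸ LinearMap.range h)
    exact (GrothLib.CritMod6.flat_iff_of_semilinear (RingEquiv.refl R) e' fun a m => by
      rw [he0, he0]; exact LinearMap.map_smul_of_tower _ a m).1 hfl
  haveI : Module.Finite X (LocalizedModule n.asIdeal.primeCompl F) :=
    Module.Finite.of_isLocalizedModule n.asIdeal.primeCompl (LocalizedModule.mkLinearMap n.asIdeal.primeCompl F)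
  haveI : Module.Flat R (Fin N → C) := Module.Flat.trans R C _
  haveI : Module.Flat R (Fin M → C) := Module.Flat.trans R C _
  have hD := GrothLib.FlatOff.two_le_depth_fibLocRing J n.asIdeal hS2' fun r hr _ => hcodim r hr
  have h0 : ∀ k : ℕ, 2 ≤ LocCoh.idealDepth (J.map (algebraMap C X)) (EGA4.FibLocMod R C n.asIdeal (Fin k → C)) :=
    fun k => by exact_mod_cast GrothLib.FlatOff.le_idealDepth_fibLocMod_free J n.asIdeal 2 (by exact_mod_cast hD) k
  obtain ⟨hF, hfib⟩ := (GrothLib.FlatOff.key_at_prime J g h (LinearMap.range h).mkQ hg hgh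
    (LinearMap.exact_map_mkQ_range h) (Submodule.mkQ_surjective _) (fun r hr => by
      haveI := hGfree r hr
      exact GrothLib.FreeOff.exists_factor_of_free (B := C) _ r.asIdeal) n.asIdeal (h0 N)
    ((one_le_two).trans (h0 M))).1 hflat
  refine (fibLoc_iff_good F 2).1 ⟨hF, GrothLib.FlatOff.hasSk_two_of_depth _ (J.map (algebraMap C X)) (fun Q hQ hJQ => ?_) hS2' ?_⟩
  · obtain ⟨a, ha, haQ⟩ := Set.not_subset.1 (show ¬ (J : Set C) ⊆ Q.comap (algebraMap C X) from
      fun hs => hJQ (Ideal.map_le_iff_le_comap.2 hs))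
    obtain ⟨k, t, s, htg, -⟩ := GrothLib.FlatOff.exists_homotopy g h hg hgh a
      fun q hq => hGfree q fun hJ => hq (hJ ha)
    obtain ⟨α', β', h'⟩ := GrothLib.FlatOff.localized_factor n.asIdeal g t (a ^ k) htg
    exact ⟨N, α', β', _, fun hmem => haQ (hQ.mem_of_pow_mem k (by rwa [map_pow] at hmem)), h'⟩
  · rw [Ideal.map_map]
    exact hfib

end Algebra

section Point

/-- The stalk of `Spec W` as a localisation. -/
theorem stalkIso_toStalk (W : Type u) [CommRing W] (z : ↥(Spec (CommRingCat.of W))) (a : W) :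
    (Spec.stalkIso (CommRingCat.of W) z).hom.hom ((StructureSheaf.toStalk (CommRingCat.of W) z).hom a) =
      algebraMap W (Localization.AtPrime z.asIdeal) a :=
  (AlgEquiv.symm_apply_eq _).2 ((StructureSheaf.stalkIso _ _).commutes a).symm

/-- Transfer of `Good` to the local ring of a point of a local base change. -/
theorem good_at_point {X S : Scheme.{u}} (f : X ⟶ S) [IsLocallyNoetherian X] {G : X.Modules} (hG : Coh.IsCoh G)
    (y : X) (V : Type u) [CommRing V] [IsLocalRing V] {W : Type u} [CommRing W] [Algebra V W]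
    [Algebra (X.presheaf.stalk y) W] (r : Ideal W) [r.IsPrime]
    {X' : Scheme.{u}} [IsLocallyNoetherian X'] (f' : X' ⟶ Spec (CommRingCat.of V)) (p : X' ⟶ X)
    (l : Spec (CommRingCat.of W) ⟶ X') [Flat l] [IsPreimmersion l]
    (hlp : l ≫ p = Spec.map (CommRingCat.ofHom (algebraMap (X.presheaf.stalk y) W)) ≫ X.fromSpecStalk y)
    (hlf : l ≫ f' = Spec.map (CommRingCat.ofHom (algebraMap V W)))
    (hrV : r.comap (algebraMap V W) = maximalIdeal V)
    {G' : X'.Modules} (e : G' ≅ RefHull.ddual ((Scheme.Modules.pullback p).obj G))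
    (y' : X') (hy' : l ⟨r, inferInstance⟩ = y') (hy : p y' = y)
    (hgood : Good 2 (f'.stalkMap y').hom (G'.presheaf.stalk y')) :
    Good 2 (algebraMap V (Localization.AtPrime r))
      (Module.Dual (Localization.AtPrime r) (Module.Dual (Localization.AtPrime r)
        (Localization.AtPrime r ⊗[X.presheaf.stalk y] G.presheaf.stalk y))) := by
  subst hy'
  subst hy
  let z : Spec (CommRingCat.of W) := ⟨r, inferInstance⟩
  let C := X.presheaf.stalk (p (l z))
  let C₁ := X'.presheaf.stalk (l z)
  let X₀ := Localization.AtPrime r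
  letI : Algebra C₁ ((Spec (CommRingCat.of W)).presheaf.stalk z) := (l.stalkMap z).hom.toAlgebra
  haveI : IsLocalHom (algebraMap C₁ ((Spec (CommRingCat.of W)).presheaf.stalk z)) :=
    inferInstanceAs (IsLocalHom (l.stalkMap z).hom)
  haveI : Module.Flat C₁ ((Spec (CommRingCat.of W)).presheaf.stalk z) := Flat.stalkMap l z
  haveI : Module.FaithfullyFlat C₁ ((Spec (CommRingCat.of W)).presheaf.stalk z) :=
    Module.FaithfullyFlat.of_flat_of_isLocalHom
  have hbij : Function.Bijective (l.stalkMap z).hom :=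
    ⟨FaithfulSMul.algebraMap_injective C₁ ((Spec (CommRingCat.of W)).presheaf.stalk z), l.stalkMap_surjective z⟩
  let χ := (Spec.stalkIso (CommRingCat.of W) z).commRingCatIsoToRingEquiv
  let σ : C₁ ≃+* X₀ := (RingEquiv.ofBijective _ hbij).trans χ
  let sV : (Spec (CommRingCat.of V)).presheaf.stalk (f' (l z)) ⟶ CommRingCat.of X₀ :=
    f'.stalkMap (l z) ≫ CommRingCat.ofHom σ.toRingHom
  have hσ : ∀ {X'' : Scheme.{u}} (q : X' ⟶ X'') (γ : X''.presheaf.stalk (q (l z)) ⟶ CommRingCat.of X₀),
      Spec.map γ ≫ X''.fromSpecStalk (q (l z)) = Spec.map (CommRingCat.ofHom (algebraMap W X₀)) ≫ l ≫ q →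
      q.stalkMap (l z) ≫ CommRingCat.ofHom σ.toRingHom = γ := by
    intro X'' q γ hγ
    apply Spec.map_injective
    rw [← cancel_mono (X''.fromSpecStalk (q (l z))), hγ, Spec.map_comp, Category.assoc,
      Scheme.SpecMap_stalkMap_fromSpecStalk]
    have h1 : Spec.map (CommRingCat.ofHom σ.toRingHom) =
        Spec.map (CommRingCat.ofHom χ.toRingHom) ≫ Spec.map (l.stalkMap z) := by
      rw [← Spec.map_comp]; rfl
    rw [h1, Category.assoc, Scheme.SpecMap_stalkMap_fromSpecStalk_assoc, ← Category.assoc]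
    congr 1
    rw [Spec.fromSpecStalk_eq', ← Spec.map_comp]
    congr 1
    ext w
    show χ _ = _
    exact stalkIso_toStalk W z w
  have hπ : ∀ c : C, σ ((p.stalkMap (l z)).hom c) = algebraMap C X₀ c := fun c =>
    congrArg (fun γ => γ.hom c) (hσ p (CommRingCat.ofHom (algebraMap C X₀)) (by
      rw [hlp, ← Category.assoc (Spec.map _), ← Spec.map_comp]; rfl))
  let τ : V →+* (Spec (CommRingCat.of V)).presheaf.stalk (f' (l z)) :=
    (StructureSheaf.toStalk (CommRingCat.of V) (f' (l z))).hom
  have hpt : f' (l z) = closedPoint V := by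
    rw [← Scheme.Hom.comp_apply, hlf]
    exact PrimeSpectrum.ext hrV
  have hτ : Function.Bijective τ := by
    have key : ∀ q : Spec (CommRingCat.of V), q = closedPoint V →
        Function.Bijective (StructureSheaf.toStalk (CommRingCat.of V) q).hom := by
      rintro _ rfl
      rw [← stalkClosedPointIso_inv]
      exact (stalkClosedPointIso (CommRingCat.of V)).symm.commRingCatIsoToRingEquiv.bijective
    exact key _ hpt
  have hv : ∀ a : V, σ ((f'.stalkMap (l z)).hom (τ a)) = algebraMap V X₀ a := fun a => by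
    have h := hσ f' sV (by
      show Spec.map (f'.stalkMap (l z) ≫ CommRingCat.ofHom σ.toRingHom) ≫ _ = _
      rw [Spec.map_comp, Category.assoc, Scheme.SpecMap_stalkMap_fromSpecStalk]
      have h1 : Spec.map (CommRingCat.ofHom σ.toRingHom) =
          Spec.map (CommRingCat.ofHom χ.toRingHom) ≫ Spec.map (l.stalkMap z) := by
        rw [← Spec.map_comp]; rfl
      rw [h1, Category.assoc, Scheme.SpecMap_stalkMap_fromSpecStalk_assoc, ← Category.assoc]
      congr 1
      rw [Spec.fromSpecStalk_eq', ← Spec.map_comp]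
      congr 1
      ext w
      show χ _ = _
      exact stalkIso_toStalk W z w)
    have h2 : CommRingCat.ofHom τ ≫ sV = CommRingCat.ofHom (algebraMap V X₀) := by
      apply Spec.map_injective
      have h3 : Spec.map (CommRingCat.ofHom τ) = (Spec (CommRingCat.of V)).fromSpecStalk (f' (l z)) :=
        (Spec.fromSpecStalk_eq' (R := CommRingCat.of V) _).symm
      rw [Spec.map_comp, h3, Spec.map_comp, Category.assoc, Scheme.SpecMap_stalkMap_fromSpecStalk]
      have h1 : Spec.map (CommRingCat.ofHom σ.toRingHom) =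
          Spec.map (CommRingCat.ofHom χ.toRingHom) ≫ Spec.map (l.stalkMap z) := by
        rw [← Spec.map_comp]; rfl
      rw [h1, Category.assoc, Scheme.SpecMap_stalkMap_fromSpecStalk_assoc, hlf, ← Category.assoc,
        show CommRingCat.ofHom (algebraMap V X₀) = CommRingCat.ofHom (algebraMap V W) ≫ CommRingCat.ofHom (algebraMap W X₀)
          from CommRingCat.hom_ext (IsScalarTower.algebraMap_eq V W X₀), Spec.map_comp]
      congr 1
      rw [Spec.fromSpecStalk_eq', ← Spec.map_comp]
      congr 1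
      ext w
      show χ _ = _
      exact stalkIso_toStalk W z w
    exact congrArg (fun γ => γ.hom a) h2
  letI : Algebra C C₁ := (p.stalkMap (l z)).hom.toAlgebra
  let σl : C₁ ≃ₗ[C] X₀ :=
    { σ with
      map_smul' := fun c w => by
        show σ (c • w) = c • σ w
        rw [Algebra.smul_def]
        refine (map_mul σ _ _).trans ?_
        rw [Algebra.smul_def]
        exact congrArg (· * σ w) (hπ c) }
  let M := G.presheaf.stalk (p (l z))
  haveI : Module.Finite C M := QuasiFlat.finite_stalk G hG _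
  let ec := TensorProduct.congr σl (LinearEquiv.refl C M)
  obtain ⟨dd, hdd⟩ := exists_ddual_equiv σ ec.toAddEquiv fun b w => by
    show ec (b • w) = σ b • ec w
    induction w using TensorProduct.induction_on with
    | zero => simp
    | add a c ha hc => simp only [smul_add, map_add, ha, hc]
    | tmul a c =>
      show ec ((b * a) ⊗ₜ c) = σ b • (σ a ⊗ₜ c)
      rw [TensorProduct.smul_tmul', smul_eq_mul, ← map_mul]
      rfl
  let P := (Scheme.Modules.pullback p).obj G
  have hP : Coh.IsCoh P := ModDesc.isCoh_pullback p _ hG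
  obtain ⟨es⟩ := nonempty_ddual_stalk hP (l z)
  let el : P.presheaf.stalk (l z) ≃ₗ[C₁] C₁ ⊗[C] M := ((QCoh.stalkPullbackIso p (l z)).app G).toLinearEquiv
  let E : (G'.presheaf.stalk (l z)) ≃ₗ[C₁] Module.Dual C₁ (Module.Dual C₁ (C₁ ⊗[C] M)) :=
    ((DualFree20.stalkIso e (l z)).trans es).trans el.dualMap.dualMap
  haveI : IsNoetherianRing C₁ := inferInstance
  haveI := GrothLib.FlatOff.finite_dual (B := C₁) (C₁ ⊗[C] M)
  haveI := GrothLib.FlatOff.finite_dual (B := C₁) (Module.Dual C₁ (C₁ ⊗[C] M))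
  haveI : Module.Finite C₁ (G'.presheaf.stalk (l z)) := Module.Finite.equiv E.symm
  exact Good.congr (RingEquiv.ofBijective τ hτ).symm σ (fun a => by
      obtain ⟨v, rfl⟩ := (RingEquiv.ofBijective τ hτ).surjective a
      rw [RingEquiv.symm_apply_apply]
      exact hv v)
    (E.toAddEquiv.trans dd) (fun b w => by
      show dd (E (b • w)) = σ b • dd (E w)
      rw [map_smul, hdd]) hgood

end Point

variable {A : Type u} [CommRing A] [IsNoetherianRing A] {Y : Scheme.{u}} [Y.Over (Spec (CommRingCat.of A))]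
  [IsProper (Y ↘ Spec (CommRingCat.of A))]

/-- The local data of a reflexive power at a point. -/
theorem exists_local_data_int (d : ℕ)
    (hS : RelCanon.IsSkMor (Y ↘ Spec (CommRingCat.of A)) 2) (hd : Cyc.HasRelDim (Y ↘ Spec (CommRingCat.of A)) d)
    (ω : Y.Modules) (hω : RelCanon.IsDualizingSheaf A Y d ω)
    (hG : ∀ y : Y, y ∉ RelCanon.gorLocus (Y ↘ Spec (CommRingCat.of A)) →
      (2 : WithBot ℕ∞) ≤ ringKrullDim (((Y ↘ Spec (CommRingCat.of A)).fiber
        ((Y ↘ Spec (CommRingCat.of A)) y)).presheaf.stalk ((Y ↘ Spec (CommRingCat.of A)).asFiber y)))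
    (y : Y) (m : ℤ) :
    letI := ((Y ↘ Spec (CommRingCat.of A)).stalkMap y).hom.toAlgebra
    Coh.IsCoh (RelCanon.refPowZ ω m) ∧ (RelCanon.InvertibleAt (RelCanon.refPowZ ω m) y ∨
      ∃ J : Ideal (Y.presheaf.stalk y), J ≠ ⊤ ∧
        Module.IsReflexive (Y.presheaf.stalk y) ((RelCanon.refPowZ ω m).presheaf.stalk y) ∧
        (∀ q : PrimeSpectrum (Y.presheaf.stalk y), ¬ J ≤ q.asIdeal →
          Module.Free (Localization.AtPrime q.asIdeal)
            (LocalizedModule q.asIdeal.primeCompl ((RelCanon.refPowZ ω m).presheaf.stalk y))) ∧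
        (∀ q : PrimeSpectrum (Y.presheaf.stalk y), J ≤ q.asIdeal → (2 : WithBot ℕ∞) ≤ ringKrullDim
          (EGA4.FibLocRing ((Spec (CommRingCat.of A)).presheaf.stalk ((Y ↘ Spec (CommRingCat.of A)) y))
            (Y.presheaf.stalk y) q.asIdeal)) ∧
        2 ≤ LocCoh.idealDepth (J.map (Ideal.Quotient.mk ((maximalIdeal _).map
            (algebraMap ((Spec (CommRingCat.of A)).presheaf.stalk ((Y ↘ Spec (CommRingCat.of A)) y)) (Y.presheaf.stalk y)))))
          (Y.presheaf.stalk y ⧸ (maximalIdeal _).map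
            (algebraMap ((Spec (CommRingCat.of A)).presheaf.stalk ((Y ↘ Spec (CommRingCat.of A)) y)) (Y.presheaf.stalk y)))) := by
  let f := Y ↘ Spec (CommRingCat.of A)
  haveI : Flat f := hS.1
  haveI : LocallyOfFiniteType f := hS.2.1
  haveI : IsLocallyNoetherian Y := LocallyOfFiniteType.isLocallyNoetherian f
  haveI : IsIso (Spec.map (CommRingCat.ofHom (RingHom.id A))) := by rw [CommRingCat.ofHom_id, Spec.map_id]; infer_instance
  obtain ⟨hωc, -, U, hbc, hU2⟩ := exists_bcOn d hS hd ω hω hG A (RingHom.id A) Y (𝟙 Y)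
    (IsPullback.of_horiz_isIso ⟨by simp⟩) ω hω
  let G := RelCanon.refPowZ ω m
  have hGc : Coh.IsCoh G := isCoh_refPowZ hωc m
  refine ⟨hGc, ?_⟩
  have hinv : ∀ x, x ∈ U → RelCanon.InvertibleAt G x :=
    fun x hx => invertibleAt_of_restrict U (hbc.refPowZ hωc hωc m).1 x hx
  by_cases hy : y ∈ U
  · exact Or.inl (hinv y hy)
  refine Or.inr ?_
  let C := Y.presheaf.stalk y
  let R := (Spec (CommRingCat.of A)).presheaf.stalk (f y)
  letI : Algebra R C := (f.stalkMap y).hom.toAlgebra
  haveI : IsLocalHom (algebraMap R C) := inferInstanceAs (IsLocalHom (f.stalkMap y).hom)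
  haveI : Module.Flat R C := Flat.stalkMap f y
  let Z : Set (PrimeSpectrum C) := {q | pt y q ∉ U}
  have hZ : IsClosed Z := (U.isOpen.preimage (Y.fromSpecStalk y).continuous).isClosed_compl
  let J : Ideal C := PrimeSpectrum.vanishingIdeal Z
  have hJq : ∀ q : PrimeSpectrum C, J ≤ q.asIdeal → pt y q ∉ U := fun q hq => by
    have h : q ∈ PrimeSpectrum.zeroLocus (J : Set C) := hq
    rw [PrimeSpectrum.zeroLocus_vanishingIdeal_eq_closure, hZ.closure_eq] at h
    exact h
  have hJq' : ∀ q : PrimeSpectrum C, ¬ J ≤ q.asIdeal → pt y q ∈ U := fun q hq => by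
    by_contra h
    exact hq fun c hc => (PrimeSpectrum.mem_vanishingIdeal _ _).1 hc q h
  have hJtop : J ≠ ⊤ := fun h => by
    have hmem : (closedPoint C) ∈ Z := by
      show pt y (closedPoint C) ∉ U
      rwa [show pt y (closedPoint C) = y from Scheme.fromSpecStalk_closedPoint]
    exact (maximalIdeal.isMaximal C).ne_top (top_le_iff.1 (h ▸ fun c hc =>
      (PrimeSpectrum.mem_vanishingIdeal _ _).1 hc _ hmem))
  have hcodim : ∀ q : PrimeSpectrum C, J ≤ q.asIdeal →
      (2 : WithBot ℕ∞) ≤ ringKrullDim (EGA4.FibLocRing R C q.asIdeal) := fun q hq =>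
    (hU2 _ (hJq q hq)).trans (ringKrullDim_fibLoc_stalk f y q).ge
  let I : Ideal C := (maximalIdeal R).map (algebraMap R C)
  obtain ⟨θ, -, hθ, -, -⟩ := exists_closed_equiv (C := C) C
  let X₀ := Localization.AtPrime (maximalIdeal C)
  let θq : (C ⧸ I) ≃+* EGA4.FibLocRing R C (maximalIdeal C) := Ideal.quotientEquiv _ _ θ (by
      rw [Ideal.map_map, show (maximalIdeal C).comap (algebraMap R C) = maximalIdeal R from
        IsLocalRing.maximalIdeal_comap _, show (θ : C →+* X₀).comp (algebraMap R C) = algebraMap R X₀ from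
        RingHom.ext fun r => (hθ _).trans (IsScalarTower.algebraMap_apply R C X₀ r).symm])
  have hD : 2 ≤ LocCoh.idealDepth (J.map (Ideal.Quotient.mk I)) (C ⧸ I) := by
    have h := GrothLib.FlatOff.two_le_depth_fibLocRing (A := R) J (maximalIdeal C)
      (GrothLib.SnFibres.hasSk_congr θq (hasSk_closedFibre f hS y)) fun r hr _ => hcodim r hr
    rw [GrothLib.FiniteQuot.idealDepth_congr θq θq.toAddEquiv (fun a b => map_mul θq a b) (J.map (Ideal.Quotient.mk I)),
      Ideal.map_map, show (θq : (C ⧸ I) →+* EGA4.FibLocRing R C (maximalIdeal C)).comp (Ideal.Quotient.mk I) =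
        algebraMap C (EGA4.FibLocRing R C (maximalIdeal C)) from RingHom.ext fun c => by
          show Ideal.Quotient.mk _ (θ c) = _
          rw [hθ]; rfl]
    exact h
  refine ⟨J, hJtop, ?_, fun q hq => free_localized_stalk hGc y q (hinv _ (hJq' q hq)), hcodim, hD⟩
  obtain ⟨T, hTc, he, hTi⟩ : ∃ T : Y.Modules, Coh.IsCoh T ∧ G = RefHull.ddual T ∧
      PicF.IsInvertible (T.restrict U.ι) := by
    cases m with
    | ofNat k =>
      obtain ⟨eT⟩ := nonempty_tensorPow_restrict U hbc.1 k
      exact ⟨CohB1.tensorPow ω k, isCoh_tensorPow' hωc k, rfl,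
        ParaPair.isInvertible_of_iso eT (PerfLim10.isInvertible_tensorPow hbc.1 k)⟩
    | negSucc k =>
      have hdi := (hbc.dual hωc hωc).1
      obtain ⟨eT⟩ := nonempty_tensorPow_restrict U hdi (k + 1)
      exact ⟨CohB1.tensorPow (RefHull.dual ω) (k + 1), isCoh_tensorPow' (isCoh_dual' hωc) (k + 1), rfl,
        ParaPair.isInvertible_of_iso eT (PerfLim10.isInvertible_tensorPow hdi (k + 1))⟩
  obtain ⟨eD⟩ := nonempty_dual_restrict hTc U hTi
  have hDi : PicF.IsInvertible ((RefHull.dual T).restrict U.ι) :=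
    ParaPair.isInvertible_of_iso eD (isInvertible_dual_of hTi)
  haveI : Module.Finite C ((RefHull.dual T).presheaf.stalk y) := QuasiFlat.finite_stalk _ (isCoh_dual' hTc) y
  obtain ⟨e⟩ := nonempty_dual_stalk (isCoh_dual' hTc) y
  haveI := isReflexive_dual J (two_le_depth_self_of_fibre J hJtop hD) ((RefHull.dual T).presheaf.stalk y)
    fun q hq => free_localized_stalk (isCoh_dual' hTc) y q (invertibleAt_of_restrict U hDi _ (hJq' q hq))
  show Module.IsReflexive C (G.presheaf.stalk y)
  rw [he]
  exact Module.equiv e.symm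

/-- **The valuative criterion for a reflexive power of the relative canonical sheaf.** -/
theorem relSkAt_of_dvr (d : ℕ) [_root_.IsReduced A]
    (hS : RelCanon.IsSkMor (Y ↘ Spec (CommRingCat.of A)) 2) (hd : Cyc.HasRelDim (Y ↘ Spec (CommRingCat.of A)) d)
    (ω : Y.Modules) (hω : RelCanon.IsDualizingSheaf A Y d ω)
    (hG : ∀ y : Y, y ∉ RelCanon.gorLocus (Y ↘ Spec (CommRingCat.of A)) →
      (2 : WithBot ℕ∞) ≤ ringKrullDim (((Y ↘ Spec (CommRingCat.of A)).fiber
        ((Y ↘ Spec (CommRingCat.of A)) y)).presheaf.stalk ((Y ↘ Spec (CommRingCat.of A)).asFiber y)))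
    (h : ∀ (B : Type u) [CommRing B] [IsDomain B] [IsDiscreteValuationRing B] (φ : A →+* B)
      (Y' : Scheme.{u}) [Y'.Over (Spec (CommRingCat.of B))] (p : Y' ⟶ Y)
      (hp : IsPullback p (Y' ↘ Spec (CommRingCat.of B)) (Y ↘ Spec (CommRingCat.of A)) (Spec.map (CommRingCat.ofHom φ)))
      (ω' : Y'.Modules) (hω' : RelCanon.IsDualizingSheaf B Y' d ω'),
      RelCanon.IsQGorMorWith (Y' ↘ Spec (CommRingCat.of B)) ω') (m : ℤ) (y : Y) :
    RelCanon.RelSkAt (Y ↘ Spec (CommRingCat.of A)) 2 (RelCanon.refPowZ ω m) y := by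
  let f := Y ↘ Spec (CommRingCat.of A)
  haveI : Flat f := hS.1
  haveI : LocallyOfFiniteType f := hS.2.1
  haveI : LocallyOfFinitePresentation f := GrothLib.LocProp.locallyOfFinitePresentation_of_isLocallyNoetherian f
  haveI : IsLocallyNoetherian Y := LocallyOfFiniteType.isLocallyNoetherian f
  obtain ⟨hGc, hdata⟩ := exists_local_data_int d hS hd ω hω hG y m
  rcases hdata with hinv | ⟨J, hJ, hrefl, hFU, hcodim, hD⟩
  · exact relSkAt_of_invertibleAt f hS hGc hinv
  let G := RelCanon.refPowZ ω m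
  let R := (Spec (CommRingCat.of A)).presheaf.stalk (f y)
  let C := Y.presheaf.stalk y
  let F := G.presheaf.stalk y
  letI : Algebra R C := (f.stalkMap y).hom.toAlgebra
  haveI : IsLocalHom (algebraMap R C) := inferInstanceAs (IsLocalHom (f.stalkMap y).hom)
  haveI : Module.Flat R C := Flat.stalkMap f y
  haveI : Module.Finite C F := QuasiFlat.finite_stalk _ hGc y
  haveI : IsReduced (Spec (CommRingCat.of A)) := inferInstance
  haveI : _root_.IsReduced R := inferInstance
  haveI : Algebra.EssFiniteType R C := by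
    obtain ⟨S₀, _, _, _, _, M₀, hfp, hloc⟩ := GrothLib.FibreFlat.isEssFinitePresentation_stalkMap f y
    haveI := hfp
    haveI := hloc
    haveI : Algebra.EssFiniteType S₀ C := Algebra.EssFiniteType.of_isLocalization C M₀
    exact Algebra.EssFiniteType.comp R S₀ C
  haveI := hrefl
  refine (relSkAt_iff_good f hGc 2 y).2 (good_of_dvr (R := R) (C := C) _ J hFU (hasSk_closedFibre f hS y) hcodim ?_)
  intro V _ _ _ _ _ r _ hrC hrV
  letI : Algebra C (V ⊗[R] C) := Algebra.TensorProduct.rightAlgebra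
  haveI : IsNoetherianRing (V ⊗[R] C) := Algebra.EssFiniteType.isNoetherianRing V (V ⊗[R] C)
  let W := V ⊗[R] C
  let X := Localization.AtPrime r
  let v : Spec (CommRingCat.of V) ⟶ Spec R := Spec.map (CommRingCat.ofHom (algebraMap R V))
  let φ : CommRingCat.of A ⟶ CommRingCat.of V := Spec.preimage (v ≫ (Spec (CommRingCat.of A)).fromSpecStalk (f y))
  have hφ : Spec.map φ = v ≫ (Spec (CommRingCat.of A)).fromSpecStalk (f y) := Spec.map_preimage _
  let Y' := pullback f (Spec.map φ)
  letI : Y'.Over (Spec (CommRingCat.of V)) := ⟨pullback.snd _ _⟩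
  let p : Y' ⟶ Y := pullback.fst _ _
  let f' := Y' ↘ Spec (CommRingCat.of V)
  have hp : IsPullback p f' f (Spec.map (CommRingCat.ofHom φ.hom)) := IsPullback.of_hasPullback _ _
  haveI : IsProper f' := MorphismProperty.of_isPullback (P := @IsProper) hp inferInstance
  haveI : IsLocallyNoetherian Y' := LocallyOfFiniteType.isLocallyNoetherian f'
  obtain ⟨ω', hω'⟩ := exists_isDualizingSheaf (A := V) (Y := Y') d fun s =>
    (GrothLib.FibreBC.topologicalKrullDim_fiber hp s).le.trans
      (GrothLib.FibPd.topologicalKrullDim_le_of_components fun Z hZ => (hd _ Z hZ).le)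
  obtain ⟨⟨e⟩, -⟩ := refPowZ_baseChange d hS hd ω hω hG V φ.hom Y' p hp ω' hω' m
  obtain ⟨hωc, hω'c, -⟩ := exists_bcOn d hS hd ω hω hG V φ.hom Y' p hp ω' hω'
  let G' := RelCanon.refPowZ ω' m
  let j := Y.fromSpecStalk y
  let iC : Spec (CommRingCat.of W) ⟶ Spec C := Spec.map (CommRingCat.ofHom (algebraMap C W))
  let iV : Spec (CommRingCat.of W) ⟶ Spec (CommRingCat.of V) := Spec.map (CommRingCat.ofHom (algebraMap V W))
  let gs : Spec C ⟶ Spec R := Spec.map (f.stalkMap y)
  have hgj : gs ≫ (Spec (CommRingCat.of A)).fromSpecStalk (f y) = j ≫ f := Scheme.SpecMap_stalkMap_fromSpecStalk f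
  have hW : IsPullback iC iV gs v := by
    haveI : Algebra.IsPushout R C V W := Algebra.IsPushout.symm inferInstance
    exact isPullback_SpecMap_of_isPushout _ _ _ _ (CommRingCat.isPushout_of_isPushout R C V W)
  have hbig : IsPullback iC iV (j ≫ f) (Spec.map (CommRingCat.ofHom φ.hom)) := by
    rw [show CommRingCat.ofHom φ.hom = φ from rfl, hφ, ← hgj]
    refine IsPullback.mk' (by rw [← Category.assoc, hW.w, Category.assoc]) (fun T a b h1 h2 => hW.hom_ext h1 h2)
      fun T a b hab => ?_
    have hab' : a ≫ gs = b ≫ v :=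
      (cancel_mono ((Spec (CommRingCat.of A)).fromSpecStalk (f y))).1 (by simpa [Category.assoc] using hab)
    exact ⟨hW.lift a b hab', hW.lift_fst _ _ _, hW.lift_snd _ _ _⟩
  let l : Spec (CommRingCat.of W) ⟶ Y' := hp.lift (iC ≫ j) iV (by rw [Category.assoc]; exact hbig.w)
  have hl : IsPullback iC l j p := by
    refine IsPullback.of_bot ?_ (hp.lift_fst _ _ _).symm hp
    rw [hp.lift_snd]
    exact hbig
  haveI : Flat j := GrothLib.FFDesc.flat_fromSpecStalk' Y y
  haveI : Flat l := MorphismProperty.of_isPullback (P := @Flat) hl inferInstance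
  haveI : IsPreimmersion l := MorphismProperty.of_isPullback (P := @IsPreimmersion) hl inferInstance
  let z : Spec (CommRingCat.of W) := ⟨r, inferInstance⟩
  let y' := l z
  have hy' : p y' = y := by
    show p (l z) = y
    rw [← Scheme.Hom.comp_apply, hp.lift_fst, Scheme.Hom.comp_apply, show iC z = closedPoint C from PrimeSpectrum.ext hrC]
    exact Scheme.fromSpecStalk_closedPoint
  have hg : RelCanon.RelSkAt f' 2 G' y' := h V φ.hom Y' p hp ω' hω' m y'
  exact good_at_point f hGc y V r f' p l (hp.lift_fst _ _ _) (hp.lift_snd _ _ _) hrV e.symm y' rfl hy'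
    ((relSkAt_iff_good f' (isCoh_refPowZ hω'c m) 2 y').1 hg)

end GrothLib.ArtCrit20

end
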