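import Groth.Agent.Lib.ArtCrit20.Alg
import Groth.Agent.Lib.DualFree20.QGorBC
import Groth.Agent.Lib.DualFree20.QGorDescent
import Groth.Agent.Lib.SpecFibStalk1.Basic
import Groth.Agent.Lib.CMMor6.Mor
import Groth.Agent.Lib.FFDesc.Basic

/-!
# Relative `(S₂)` at a point through the local rings
-/

set_option autoImplicit false
set_option linter.all false
set_option backward.isDefEq.respectTransparency false
set_option maxHeartbeats 1000000

universe u

open CategoryTheory CategoryTheory.Limits AlgebraicGeometry TopologicalSpace IsLocalRing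
open scoped TensorProduct

noncomputable section

namespace GrothLib.ArtCrit20

open GrothLib.OX GrothLib.RightAdj22

variable {X S : Scheme.{u}}

/-- `RelSkAt` is `Good` of the stalk. -/
theorem relSkAt_iff_good (f : X ⟶ S) [LocallyOfFiniteType f] [IsLocallyNoetherian X] {G : X.Modules}
    (hG : Coh.IsCoh G) (k : ℕ) (y : X) :
    RelCanon.RelSkAt f k G y ↔ Good k (f.stalkMap y).hom (G.presheaf.stalk y) := by
  refine and_congr (Iff.of_eq rfl) ?_
  have key : ∀ (x : X) (s : S) (z : f.fiber s), f.fiberι s z = x →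
      (RelCanon.SkAt k ((Scheme.Modules.pullback (f.fiberι s)).obj G) z ↔
        LocCoh.HasSk k (X.presheaf.stalk x ⧸ (maximalIdeal (S.presheaf.stalk (f x))).map (f.stalkMap x).hom)
          (G.presheaf.stalk x ⧸ ((maximalIdeal (S.presheaf.stalk (f x))).map (f.stalkMap x).hom •
            ⊤ : Submodule (X.presheaf.stalk x) (G.presheaf.stalk x)))) := by
    intro x s z hx
    subst hx
    obtain ⟨hsurj, hker⟩ := FibreFlat.fiberι_stalkMap f s z
    let B := X.presheaf.stalk (f.fiberι s z)
    let Q := (f.fiber s).presheaf.stalk z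
    let M := G.presheaf.stalk (f.fiberι s z)
    let I : Ideal B := (maximalIdeal (S.presheaf.stalk (f (f.fiberι s z)))).map (f.stalkMap (f.fiberι s z)).hom
    letI : Algebra B Q := ((f.fiberι s).stalkMap z).hom.toAlgebra
    haveI : IsNoetherianRing Q := GrothLib.DimCut.isNoetherianRing_stalk_fiber f _ _
    haveI : Module.Finite B M := QuasiFlat.finite_stalk G hG _
    let θ : (B ⧸ I) ≃+* Q := (Ideal.quotEquivOfEq hker.symm).trans (RingHom.quotientKerEquivOfSurjective hsurj)
    have hθ : ∀ b : B, θ (Ideal.Quotient.mk I b) = algebraMap B Q b := fun b => rfl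
    let θl : (B ⧸ I) ≃ₗ[B] Q :=
      { θ with
        map_smul' := fun b w => by
          obtain ⟨c, rfl⟩ := Ideal.Quotient.mk_surjective w
          show θ (Ideal.Quotient.mk I (b * c)) = b • θ (Ideal.Quotient.mk I c)
          rw [hθ, hθ, map_mul, Algebra.smul_def] }
    let E := ((Scheme.Modules.pullback (f.fiberι s)).obj G).presheaf.stalk z
    let el : E ≃ₗ[Q] Q ⊗[B] M := ((OX.pullStalkIso (f.fiberι s) z).app G).toLinearEquiv
    let e : (M ⧸ (I • ⊤ : Submodule B M)) ≃ₗ[B] Q ⊗[B] M :=
      (TensorProduct.quotTensorEquivQuotSMul M I).symm.trans (TensorProduct.congr θl (LinearEquiv.refl B M))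
    have he : ∀ (b : B ⧸ I) x, e (b • x) = θ b • e x := fun b x => by
      obtain ⟨c, rfl⟩ := Ideal.Quotient.mk_surjective b
      rw [show Ideal.Quotient.mk I c • x = c • x from rfl, map_smul, hθ, algebraMap_smul]
    haveI : Module.Finite Q E := Module.Finite.equiv el.symm
    haveI : Module.Finite (B ⧸ I) (M ⧸ (I • ⊤ : Submodule B M)) := Module.Finite.of_restrictScalars_finite B _ _
    exact ⟨fun h => hasSk_semilinear θ.symm e.toAddEquiv.symm (fun b x => e.injective (by simp [he]))
      (GrothLib.SkExt.hasSk_congr el h), fun h => GrothLib.SkExt.hasSk_congr el.symm (hasSk_semilinear θ e.toAddEquiv he h)⟩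
  exact key y (f y) (f.asFiber y) (f.fiberι_asFiber y)

/-- Stalks of duals. -/
theorem nonempty_dual_stalk [IsLocallyNoetherian X] {F : X.Modules} (hF : Coh.IsCoh F) (x : X) :
    Nonempty ((RefHull.dual F).presheaf.stalk x ≃ₗ[X.presheaf.stalk x]
      Module.Dual (X.presheaf.stalk x) (F.presheaf.stalk x)) :=
  ⟨(LinearEquiv.ofBijective _ ((HomSh.hasRel_of_isCoh hF).evalStalk_bijective (Coh.structureModule X) x)).trans
    (LinearEquiv.congrRight (HomSh.unitStalk x).symm)⟩

/-- Stalks of double duals. -/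
theorem nonempty_ddual_stalk [IsLocallyNoetherian X] {F : X.Modules} (hF : Coh.IsCoh F) (x : X) :
    Nonempty ((RefHull.ddual F).presheaf.stalk x ≃ₗ[X.presheaf.stalk x]
      Module.Dual (X.presheaf.stalk x) (Module.Dual (X.presheaf.stalk x) (F.presheaf.stalk x))) := by
  obtain ⟨e₁⟩ := nonempty_dual_stalk hF x
  obtain ⟨e₂⟩ := nonempty_dual_stalk (DualFree20.isCoh_dual' hF) x
  exact ⟨e₂.trans e₁.symm.dualMap⟩

/-- A stalk of an invertible module is free of rank one. -/
theorem nonempty_stalk_equiv_of_invertibleAt {G : X.Modules} {x : X} (h : RelCanon.InvertibleAt G x) :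
    Nonempty (X.presheaf.stalk x ≃ₗ[X.presheaf.stalk x] G.presheaf.stalk x) := by
  obtain ⟨W, hx, ⟨u⟩⟩ := h
  have hi : PicF.IsInvertible (G.restrict W.ι) :=
    ParaPair.isInvertible_of_iso u (DualFree20.isInvertible_structureModule _)
  obtain ⟨U, t, ht, hfr⟩ := FinCov.exists_frame_nhd_of_rank (PBDeg.rankOne_iff.2 hi) (⟨x, hx⟩ : (W : Scheme.{u}))
  exact ⟨LinearEquiv.ofBijective (LinearMap.toSpanSingleton _ _ _)
    (InvHartogs26.stalk_bijective ((InvExt.isGen_iff_isFrame _).1 (RhoShBig.isFrame_of_restrict hfr))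
      (x := x) ⟨_, ht, rfl⟩)⟩

/-- The point of a prime of a stalk. -/
def pt (y : X) (q : PrimeSpectrum (X.presheaf.stalk y)) : X := X.fromSpecStalk y q

/-- Freeness of a stalk at the primes where the module is invertible. -/
theorem free_localized_stalk [IsLocallyNoetherian X] {G : X.Modules} (hG : Coh.IsCoh G) (y : X)
    (q : PrimeSpectrum (X.presheaf.stalk y)) (h : RelCanon.InvertibleAt G (pt y q)) :
    Module.Free (Localization.AtPrime q.asIdeal) (LocalizedModule q.asIdeal.primeCompl (G.presheaf.stalk y)) := by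
  haveI := hG.1
  obtain ⟨W, hW, hyW, -⟩ := exists_isAffineOpen_mem_and_subset (show y ∈ (⊤ : X.Opens) from trivial)
  let P : PrimeSpectrum Γ(X, W) := PrimeSpectrum.comap (X.presheaf.germ W y hyW).hom q
  have hxP : pt y q = hW.fromSpec P := by
    unfold pt
    rw [← hW.fromSpecStalk_eq_fromSpecStalk hyW]
    rfl
  rw [hxP] at h
  let x := hW.fromSpec P
  have hxW : x ∈ W := WeakAss.fromSpec_mem hW P
  obtain ⟨t⟩ := nonempty_stalk_equiv_of_invertibleAt h
  let Γ₀ := Γ(X, W)
  let C := X.presheaf.stalk y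
  let O := X.presheaf.stalk x
  let M := G.presheaf.stalk y
  let T := Localization.AtPrime q.asIdeal
  let MQ := LocalizedModule q.asIdeal.primeCompl M
  letI : Algebra Γ₀ C := X.presheaf.algebra_section_stalk ⟨y, hyW⟩
  letI : Module Γ₀ M := Module.compHom _ (X.presheaf.germ W y hyW).hom
  haveI : IsLocalization (WeakAss.primeAt y hyW).primeCompl C := GrothLib.FlatFP.isLocalization_stalk_primeAt hW hyW
  haveI : IsScalarTower Γ₀ C M := IsScalarTower.of_algebraMap_smul fun _ _ => rfl
  obtain ⟨g, hg, -⟩ := FlatFP.isLocalizedModule_germ G hW hyW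
  haveI := hg
  letI : Algebra Γ₀ O := X.presheaf.algebra_section_stalk ⟨x, hxW⟩
  letI : Module Γ₀ (G.presheaf.stalk x) := Module.compHom _ (X.presheaf.germ W x hxW).hom
  haveI : IsScalarTower Γ₀ O (G.presheaf.stalk x) := IsScalarTower.of_algebraMap_smul fun _ _ => rfl
  obtain ⟨gx, hgx, -⟩ := FlatFP.isLocalizedModule_germ G hW hxW
  haveI := hgx
  have hP : WeakAss.primeAt x hxW = q.asIdeal.comap (algebraMap Γ₀ C) := WeakAss.primeAt_fromSpec hW P hxW
  haveI : IsLocalization (WeakAss.primeAt x hxW).primeCompl O := GrothLib.FlatFP.isLocalization_stalk_primeAt hW hxW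
  haveI : IsLocalization.AtPrime T (q.asIdeal.comap (algebraMap Γ₀ C)) :=
    IsLocalization.isLocalization_isLocalization_atPrime_isLocalization (WeakAss.primeAt y hyW).primeCompl T q.asIdeal
  haveI : IsScalarTower Γ₀ T MQ := IsScalarTower.of_algebraMap_smul fun r m => by
    rw [IsScalarTower.algebraMap_apply Γ₀ C T, algebraMap_smul, algebraMap_smul]
  let f : Γ(G, W) →ₗ[Γ₀] MQ := (LocalizedModule.mkLinearMap q.asIdeal.primeCompl M).restrictScalars Γ₀ ∘ₗ g
  haveI : IsLocalizedModule (q.asIdeal.comap (algebraMap Γ₀ C)).primeCompl f := by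
    refine (isLocalizedModule_iff_isBaseChange _ T f).2 ?_
    exact (IsLocalizedModule.isBaseChange (WeakAss.primeAt y hyW).primeCompl C g).comp
      (IsLocalizedModule.isBaseChange q.asIdeal.primeCompl T _)
  haveI : IsLocalizedModule (q.asIdeal.comap (algebraMap Γ₀ C)).primeCompl gx :=
    (congrArg (fun (I : Submonoid Γ₀) => IsLocalizedModule I gx)
      (show (WeakAss.primeAt x hxW).primeCompl = (q.asIdeal.comap (algebraMap Γ₀ C)).primeCompl by
        ext a; show a ∉ WeakAss.primeAt x hxW ↔ a ∉ q.asIdeal.comap (algebraMap Γ₀ C); rw [hP])).mp hgx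
  haveI : IsLocalization (q.asIdeal.comap (algebraMap Γ₀ C)).primeCompl O :=
    (congrArg (fun (I : Submonoid Γ₀) => IsLocalization I O)
      (show (WeakAss.primeAt x hxW).primeCompl = (q.asIdeal.comap (algebraMap Γ₀ C)).primeCompl by
        ext a; show a ∉ WeakAss.primeAt x hxW ↔ a ∉ q.asIdeal.comap (algebraMap Γ₀ C); rw [hP])).mp inferInstance
  let S₀ := (q.asIdeal.comap (algebraMap Γ₀ C)).primeCompl
  let e : G.presheaf.stalk x ≃ₗ[Γ₀] MQ :=
    (IsLocalizedModule.iso S₀ gx).symm.trans (IsLocalizedModule.iso S₀ f)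
  let σ : O ≃ₐ[Γ₀] T := IsLocalization.algEquiv S₀ _ _
  have he : ∀ (r : O) (m : G.presheaf.stalk x), e (r • m) = σ r • e m := fun r m => by
    obtain ⟨a, s, rfl⟩ := IsLocalization.exists_mk'_eq S₀ r
    apply ((IsLocalization.map_units T s).smul_left_cancel).1
    have h1 : algebraMap Γ₀ O (s : Γ₀) * IsLocalization.mk' O a s = algebraMap Γ₀ O a := IsLocalization.mk'_spec' _ a s
    calc algebraMap Γ₀ T s • e (IsLocalization.mk' O a s • m)
        = (s : Γ₀) • e (IsLocalization.mk' O a s • m) := algebraMap_smul _ _ _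
      _ = e ((s : Γ₀) • IsLocalization.mk' O a s • m) := (e.map_smul _ _).symm
      _ = e (a • m) := by rw [← algebraMap_smul O (s : Γ₀) (IsLocalization.mk' O a s • m), smul_smul, h1,
            algebraMap_smul]
      _ = a • e m := e.map_smul _ _
      _ = σ (algebraMap Γ₀ O a) • e m := by rw [σ.commutes, algebraMap_smul]
      _ = _ := by rw [← h1, map_mul, σ.commutes, mul_smul]
  let eT : T ≃ₗ[T] MQ :=
    { toFun := fun r => e (t (σ.symm r))
      invFun := fun m => σ (t.symm (e.symm m))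
      left_inv := fun r => by simp
      right_inv := fun m => by simp
      map_add' := fun a b => by simp
      map_smul' := fun a b => by
        rw [RingHom.id_apply, smul_eq_mul, map_mul, ← smul_eq_mul, t.map_smul, he, σ.apply_symm_apply] }
  exact Module.Free.of_equiv eT

/-- The fibre dimension at a prime of a stalk. -/
theorem ringKrullDim_fibLoc_stalk (f : X ⟶ S) (y : X) (q : PrimeSpectrum (X.presheaf.stalk y)) :
    letI := (f.stalkMap y).hom.toAlgebra
    ringKrullDim (EGA4.FibLocRing (S.presheaf.stalk (f y)) (X.presheaf.stalk y) q.asIdeal) =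
      ringKrullDim ((f.fiber (f (pt y q))).presheaf.stalk (f.asFiber (pt y q))) := by
  letI := (f.stalkMap y).hom.toAlgebra
  let g := Spec.map (CommRingCat.ofHom (algebraMap (S.presheaf.stalk (f y)) (X.presheaf.stalk y)))
  let j := X.fromSpecStalk y
  let j' := S.fromSpecStalk (f y)
  have hcomm : g ≫ j' = j ≫ f := Scheme.SpecMap_stalkMap_fromSpecStalk f
  obtain ⟨e₁⟩ := GrothLib.SpecFibStalk1.nonempty_fibStalk_equiv (S.presheaf.stalk (f y)) (X.presheaf.stalk y) q
  obtain ⟨e₂⟩ := GrothLib.CMMor6.nonempty_fibQuot_equiv g q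
  obtain ⟨e₃⟩ := GrothLib.CMMor6.nonempty_fibQuot_equiv f (j q)
  haveI : Flat j := GrothLib.FFDesc.flat_fromSpecStalk' X y
  let α := (j.stalkMap q).hom
  have hα : Function.Bijective α := by
    refine ⟨?_, j.stalkMap_surjective q⟩
    letI := α.toAlgebra
    haveI : IsLocalHom (algebraMap (X.presheaf.stalk (j q)) ((Spec (X.presheaf.stalk y)).presheaf.stalk q)) :=
      inferInstanceAs (IsLocalHom (j.stalkMap q).hom)
    haveI : Module.Flat (X.presheaf.stalk (j q)) ((Spec (X.presheaf.stalk y)).presheaf.stalk q) := Flat.stalkMap j q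
    haveI : Module.FaithfullyFlat (X.presheaf.stalk (j q)) ((Spec (X.presheaf.stalk y)).presheaf.stalk q) :=
      Module.FaithfullyFlat.of_flat_of_isLocalHom
    exact FaithfulSMul.algebraMap_injective _ _
  have hI₁ : ∀ {k₁ k₂ : Spec (X.presheaf.stalk y) ⟶ S}, k₁ = k₂ →
      (maximalIdeal (S.presheaf.stalk (k₁ q))).map (k₁.stalkMap q).hom =
        (maximalIdeal (S.presheaf.stalk (k₂ q))).map (k₂.stalkMap q).hom := by
    intro k₁ k₂ h; subst h; rfl
  have h₁ : (maximalIdeal ((Spec (S.presheaf.stalk (f y))).presheaf.stalk (g q))).map (g.stalkMap q).hom =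
      ((maximalIdeal (S.presheaf.stalk (f (j q)))).map (f.stalkMap (j q)).hom).map α := by
    have h := hI₁ hcomm
    rw [Scheme.Hom.stalkMap_comp, Scheme.Hom.stalkMap_comp, CommRingCat.hom_comp, CommRingCat.hom_comp,
      ← Ideal.map_map, ← Ideal.map_map] at h
    refine Eq.trans ?_ h
    congr 1
    exact (IsLocalRing.map_maximalIdeal_of_surjective _ (j'.stalkMap_surjective (g q))).symm
  let ε := Ideal.quotientEquiv _ _ (RingEquiv.ofBijective α hα) h₁
  exact (ringKrullDim_eq_of_ringEquiv e₁).symm.trans ((ringKrullDim_eq_of_ringEquiv e₂).symm.trans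
    ((ringKrullDim_eq_of_ringEquiv ε).symm.trans (ringKrullDim_eq_of_ringEquiv e₃)))

/-- **Artinian base changes at the level of local rings.** -/
theorem good_square (f : X ⟶ S) [LocallyOfFiniteType f] [IsLocallyNoetherian X] {G : X.Modules} (hG : Coh.IsCoh G)
    (y : X) (A' : Type u) [CommRing A'] [IsArtinianRing A'] [IsLocalRing A']
    (θ : S.presheaf.stalk (f y) →+* A') (hθ : Function.Surjective θ)
    {X' : Scheme.{u}} (p : X' ⟶ X) (f' : X' ⟶ Spec (CommRingCat.of A')) [IsLocallyNoetherian X']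
    (hp : IsPullback p f' f (Spec.map (CommRingCat.ofHom θ) ≫ S.fromSpecStalk (f y)))
    {G' : X'.Modules} (e : G' ≅ RefHull.ddual ((Scheme.Modules.pullback p).obj G)) (y' : X') (hy : p y' = y) :
    letI := (f.stalkMap y).hom.toAlgebra
    haveI : IsLocalRing (S.presheaf.stalk (f y) ⧸ RingHom.ker θ) :=
      (RingHom.quotientKerEquivOfSurjective hθ).symm.isLocalRing
    (Good 2 (algebraMap (S.presheaf.stalk (f y) ⧸ RingHom.ker θ)
        (X.presheaf.stalk y ⧸ (RingHom.ker θ).map (algebraMap (S.presheaf.stalk (f y)) (X.presheaf.stalk y))))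
      (Module.Dual (X.presheaf.stalk y ⧸ (RingHom.ker θ).map (algebraMap (S.presheaf.stalk (f y)) (X.presheaf.stalk y)))
        (Module.Dual (X.presheaf.stalk y ⧸ (RingHom.ker θ).map (algebraMap (S.presheaf.stalk (f y)) (X.presheaf.stalk y)))
          ((X.presheaf.stalk y ⧸ (RingHom.ker θ).map (algebraMap (S.presheaf.stalk (f y)) (X.presheaf.stalk y)))
            ⊗[X.presheaf.stalk y] G.presheaf.stalk y))) ↔
      Good 2 (f'.stalkMap y').hom (G'.presheaf.stalk y')) := by
  subst hy
  let R := S.presheaf.stalk (f (p y'))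
  let C := X.presheaf.stalk (p y')
  let C₁ := X'.presheaf.stalk y'
  letI : Algebra R C := (f.stalkMap (p y')).hom.toAlgebra
  let I := RingHom.ker θ
  let θA : (R ⧸ I) ≃+* A' := RingHom.quotientKerEquivOfSurjective hθ
  haveI : IsLocalRing (R ⧸ I) := θA.symm.isLocalRing
  let K : Ideal C := I.map (algebraMap R C)
  haveI : IsPreimmersion (Spec.map (CommRingCat.ofHom θ)) :=
    haveI := IsClosedImmersion.spec_of_surjective (CommRingCat.ofHom θ) hθ
    inferInstance
  haveI : IsPreimmersion p := MorphismProperty.of_isPullback (P := @IsPreimmersion) hp.flip inferInstance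
  haveI : IsNoetherianRing C₁ := inferInstance
  let π := (p.stalkMap y').hom
  have hπ : Function.Surjective π := p.stalkMap_surjective y'
  let pA := f' y'
  let τ : A' →+* (Spec (CommRingCat.of A')).presheaf.stalk pA :=
    ((Scheme.ΓSpecIso (CommRingCat.of A')).inv ≫ (Spec (CommRingCat.of A')).presheaf.germ ⊤ pA trivial).hom
  have hτS : Spec.map (CommRingCat.ofHom τ) = (Spec (CommRingCat.of A')).fromSpecStalk pA :=
    (Spec.fromSpecStalk_eq (R := CommRingCat.of A') pA).symm
  have hpA : ∀ pA : Spec (CommRingCat.of A'), pA = closedPoint A' := fun pA =>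
    PrimeSpectrum.ext (IsLocalRing.eq_maximalIdeal (inferInstance : pA.asIdeal.IsMaximal))
  have hτ : Function.Bijective τ := by
    have key : ∀ pA : Spec (CommRingCat.of A'), pA = closedPoint A' → Function.Bijective
        ((Scheme.ΓSpecIso (CommRingCat.of A')).inv ≫ (Spec (CommRingCat.of A')).presheaf.germ ⊤ pA trivial).hom := by
      rintro _ rfl
      rw [show (Spec (CommRingCat.of A')).presheaf.germ ⊤ (closedPoint A') trivial = _ from
        (ΓSpecIso_hom_stalkClosedPointIso_inv (CommRingCat.of A')).symm, Iso.inv_hom_id_assoc]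
      exact (stalkClosedPointIso (CommRingCat.of A')).symm.commRingCatIsoToRingEquiv.bijective
    exact key pA (hpA pA)
  have hcompat : ∀ r, (f'.stalkMap y').hom (τ (θ r)) = π (algebraMap R C r) := by
    have h : (CommRingCat.ofHom θ ≫ CommRingCat.ofHom τ) ≫ f'.stalkMap y' = f.stalkMap (p y') ≫ p.stalkMap y' := by
      apply Spec.map_injective
      rw [← cancel_mono (S.fromSpecStalk (f (p y')))]
      simp only [Spec.map_comp, Category.assoc]
      rw [Scheme.SpecMap_stalkMap_fromSpecStalk, Scheme.SpecMap_stalkMap_fromSpecStalk_assoc, hτS,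
        Scheme.SpecMap_stalkMap_fromSpecStalk_assoc, hp.w]
    exact fun r => congrArg (fun φ => φ.hom r) h
  have hK : K ≤ RingHom.ker π := Ideal.map_le_iff_le_comap.2 fun r hr => by
    show π (algebraMap R C r) = 0
    rw [← hcompat, show θ r = 0 from hr, map_zero, map_zero]
  haveI : Nontrivial (C ⧸ K) := Ideal.Quotient.nontrivial_iff.2 fun h =>
    RingHom.ker_ne_top π (top_le_iff.1 (h ▸ hK))
  haveI : IsLocalRing (C ⧸ K) := IsLocalRing.of_surjective' (Ideal.Quotient.mk K) Ideal.Quotient.mk_surjective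
  let mk : CommRingCat.of C ⟶ CommRingCat.of (C ⧸ K) := CommRingCat.ofHom (Ideal.Quotient.mk K)
  let γ : CommRingCat.of A' ⟶ CommRingCat.of (C ⧸ K) :=
    CommRingCat.ofHom ((algebraMap (R ⧸ I) (C ⧸ K)).comp θA.symm.toRingHom)
  have hγ : CommRingCat.ofHom θ ≫ γ = f.stalkMap (p y') ≫ mk := by
    ext r
    show algebraMap (R ⧸ I) (C ⧸ K) (θA.symm (θ r)) = _
    rw [show θA.symm (θ r) = Ideal.Quotient.mk I r from θA.symm_apply_eq.2 rfl]
    rfl
  let l : Spec (CommRingCat.of (C ⧸ K)) ⟶ X' := hp.lift (Spec.map mk ≫ X.fromSpecStalk (p y')) (Spec.map γ) (by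
    rw [← Category.assoc (Spec.map γ), ← Spec.map_comp, hγ, Spec.map_comp, Category.assoc, Category.assoc,
      Scheme.SpecMap_stalkMap_fromSpecStalk])
  haveI : IsLocalHom mk.hom := IsLocalHom.of_surjective _ Ideal.Quotient.mk_surjective
  have hl : l (closedPoint (C ⧸ K)) = y' := by
    apply p.isEmbedding.injective
    rw [← Scheme.Hom.comp_apply, hp.lift_fst, Scheme.Hom.comp_apply, Spec_closedPoint]
    exact Scheme.fromSpecStalk_closedPoint
  have key : ∀ x : X', l (closedPoint (C ⧸ K)) = x →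
      ∃ ψ : X'.presheaf.stalk x ⟶ CommRingCat.of (C ⧸ K), Spec.map ψ ≫ X'.fromSpecStalk x = l := by
    rintro x rfl
    exact ⟨_, Scheme.Spec_stalkClosedPointTo_fromSpecStalk l⟩
  obtain ⟨ψ, hψ⟩ := key y' hl
  have hψπ : p.stalkMap y' ≫ ψ = mk := by
    apply Spec.map_injective
    rw [← cancel_mono (X.fromSpecStalk (p y')), Spec.map_comp, Category.assoc, Scheme.SpecMap_stalkMap_fromSpecStalk,
      ← Category.assoc, hψ, hp.lift_fst]
  have hker : RingHom.ker π = K := le_antisymm (fun c hc => by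
    rw [← Ideal.Quotient.eq_zero_iff_mem]
    refine (congrArg (fun φ => φ.hom c) hψπ).symm.trans ?_
    show ψ.hom (π c) = 0
    rw [show π c = 0 from hc, map_zero]) hK
  let σ : (C ⧸ K) ≃+* C₁ := (Ideal.quotEquivOfEq hker.symm).trans (RingHom.quotientKerEquivOfSurjective hπ)
  have hσ : ∀ c, σ (Ideal.Quotient.mk K c) = π c := fun c => rfl
  have hc : ∀ a, σ (algebraMap (R ⧸ I) (C ⧸ K) a) =
      (f'.stalkMap y').hom ((θA.trans (RingEquiv.ofBijective τ hτ)) a) := fun a => by
    obtain ⟨r, rfl⟩ := Ideal.Quotient.mk_surjective a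
    show π (algebraMap R C r) = (f'.stalkMap y').hom (τ (θ r))
    exact (hcompat r).symm
  letI : Algebra C C₁ := π.toAlgebra
  let σl : (C ⧸ K) ≃ₗ[C] C₁ :=
    { σ with
      map_smul' := fun b w => by
        obtain ⟨c, rfl⟩ := Ideal.Quotient.mk_surjective w
        show σ (Ideal.Quotient.mk K (b * c)) = b • σ (Ideal.Quotient.mk K c)
        rw [hσ, hσ, map_mul, Algebra.smul_def]; rfl }
  let M := G.presheaf.stalk (p y')
  haveI : Module.Finite C M := QuasiFlat.finite_stalk G hG _
  let ec := TensorProduct.congr σl (LinearEquiv.refl C M)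
  obtain ⟨dd, hdd⟩ := exists_ddual_equiv σ ec.toAddEquiv fun b z => by
    obtain ⟨c, rfl⟩ := Ideal.Quotient.mk_surjective b
    show ec (Ideal.Quotient.mk K c • z) = σ (Ideal.Quotient.mk K c) • ec z
    rw [show Ideal.Quotient.mk K c • z = c • z from rfl, map_smul, hσ]
    exact (algebraMap_smul C₁ c (ec z)).symm
  let P := (Scheme.Modules.pullback p).obj G
  have hP : Coh.IsCoh P := ModDesc.isCoh_pullback p _ hG
  obtain ⟨es⟩ := nonempty_ddual_stalk hP y'
  let el : P.presheaf.stalk y' ≃ₗ[C₁] C₁ ⊗[C] M := ((QCoh.stalkPullbackIso p y').app G).toLinearEquiv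
  let E : (G'.presheaf.stalk y') ≃ₗ[C₁] Module.Dual C₁ (Module.Dual C₁ (C₁ ⊗[C] M)) :=
    ((DualFree20.stalkIso e y').trans es).trans el.dualMap.dualMap
  haveI := GrothLib.FlatOff.finite_dual (B := C ⧸ K) ((C ⧸ K) ⊗[C] M)
  haveI := GrothLib.FlatOff.finite_dual (B := C ⧸ K) (Module.Dual (C ⧸ K) ((C ⧸ K) ⊗[C] M))
  haveI := GrothLib.FlatOff.finite_dual (B := C₁) (C₁ ⊗[C] M)
  haveI := GrothLib.FlatOff.finite_dual (B := C₁) (Module.Dual C₁ (C₁ ⊗[C] M))
  haveI : Module.Finite C₁ (G'.presheaf.stalk y') := Module.Finite.equiv E.symm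
  constructor
  · intro h
    refine Good.congr (θA.trans (RingEquiv.ofBijective τ hτ)) σ hc (dd.trans E.symm.toAddEquiv) (fun b x => ?_) h
    show E.symm (dd (b • x)) = σ b • E.symm (dd x)
    rw [hdd, map_smul]
  · intro h
    refine Good.congr (θA.trans (RingEquiv.ofBijective τ hτ)).symm σ.symm (fun a => ?_)
      (E.toAddEquiv.trans dd.symm) (fun b x => ?_) h
    · rw [RingEquiv.symm_apply_eq, hc, RingEquiv.apply_symm_apply]
    · show dd.symm (E (b • x)) = σ.symm b • dd.symm (E x)
      apply dd.injective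
      rw [hdd, dd.apply_symm_apply, dd.apply_symm_apply, σ.apply_symm_apply, map_smul]

end GrothLib.ArtCrit20

end
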