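import Groth.Agent.Lib.ArtCrit20.Periodic
import Groth.Agent.Lib.FlatOffHens1.CokerIff
import Groth.Agent.S1229

/-!
# The ideal of the relative `(S_2)` locus of a reflexive power over a henselian base
-/

set_option autoImplicit false
set_option linter.all false
set_option backward.isDefEq.respectTransparency false
set_option maxHeartbeats 2000000

universe u

open CategoryTheory CategoryTheory.Limits AlgebraicGeometry TopologicalSpace IsLocalRing Function
open scoped TensorProduct

noncomputable section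

namespace GrothLib.ArtCrit20

open GrothLib.OX GrothLib.RightAdj22 GrothLib.DualFree20

section Algebra

attribute [local instance] Algebra.TensorProduct.rightAlgebra

/-- At a point of a local base change the double dual is flat with `(S_2)` fibre iff the cokernel is flat. -/
theorem good_ddual_iff_flatAt_coker {R C : Type u} [CommRing R] [IsLocalRing R] [IsNoetherianRing R] [CommRing C]
    [IsLocalRing C] [IsNoetherianRing C] [Algebra R C] [IsLocalHom (algebraMap R C)] [Module.Flat R C]
    (hS2 : LocCoh.HasSk 2 (EGA4.FibLocRing R C (maximalIdeal C)) (EGA4.FibLocRing R C (maximalIdeal C)))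
    {F : Type u} [AddCommGroup F] [Module C F] [Module.Finite C F] (J : Ideal C)
    (hcodim : ∀ q : PrimeSpectrum C, J ≤ q.asIdeal → (2 : WithBot ℕ∞) ≤ ringKrullDim (EGA4.FibLocRing R C q.asIdeal))
    {N M : ℕ} (g : F →ₗ[C] (Fin N → C)) (h : (Fin N → C) →ₗ[C] (Fin M → C)) (hg : Injective g)
    (hgh : Function.Exact g h)
    (hGfree : ∀ q : PrimeSpectrum C, ¬ J ≤ q.asIdeal → Module.Free (Localization.AtPrime q.asIdeal)
      (LocalizedModule q.asIdeal.primeCompl ((Fin M → C) ⧸ LinearMap.range h)))
    (V : Type u) [CommRing V] [IsLocalRing V] [IsNoetherianRing V] [Algebra R V] [IsLocalHom (algebraMap R V)]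
    {W : Type u} [CommRing W] [IsNoetherianRing W] [Algebra C W] [Algebra V W] [Algebra R W] [IsScalarTower R C W]
    [IsScalarTower R V W] [Algebra.IsPushout R C V W]
    (r : Ideal W) [r.IsPrime] (hrn : r.comap (algebraMap C W) = maximalIdeal C)
    (hrV : r.comap (algebraMap V W) = maximalIdeal V)
    (hJ : J ≠ ⊤)
    (hS2V : LocCoh.HasSk 2 (Localization.AtPrime r ⧸ (maximalIdeal V).map (algebraMap V (Localization.AtPrime r)))
      (Localization.AtPrime r ⧸ (maximalIdeal V).map (algebraMap V (Localization.AtPrime r)))) :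
    Good 2 (algebraMap V (Localization.AtPrime r))
      (Module.Dual (Localization.AtPrime r) (Module.Dual (Localization.AtPrime r) (Localization.AtPrime r ⊗[C] F))) ↔
    FlatCA.FlatAt V r (W ⊗[C] ((Fin M → C) ⧸ LinearMap.range h)) := by
  classical
  let C' := Localization.AtPrime r
  haveI : IsNoetherianRing C' := IsLocalization.isNoetherianRing r.primeCompl _ inferInstance
  haveI : IsLocalHom (algebraMap V C') := ⟨fun a ha => by
    by_contra hna
    have h1 : algebraMap V W a ∈ r := by
      show a ∈ r.comap (algebraMap V W)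
      rw [hrV]; exact hna
    rw [IsScalarTower.algebraMap_apply V W C'] at ha
    exact ((IsLocalization.AtPrime.isUnit_to_map_iff C' r _).1 ha) h1⟩
  haveI : Algebra.IsPushout R V C W := Algebra.IsPushout.symm inferInstance
  haveI : Module.Flat V W := Module.Flat.isBaseChange R V C W
    (Algebra.IsPushout.out (R := R) (S := V) (R' := C) (S' := W))
  haveI : Module.Flat W C' := IsLocalization.flat C' r.primeCompl
  haveI : Module.Flat V C' := Module.Flat.trans V W C'
  let J' : Ideal C' := J.map (algebraMap C C')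
  let X' := Localization.AtPrime (maximalIdeal C')
  obtain ⟨θ, -, hθ, -, -⟩ := exists_closed_equiv (C := C') C'
  let ε : EGA4.FibLocRing V W r ≃+* EGA4.FibLocRing V C' (maximalIdeal C') := Ideal.quotientEquiv _ _ θ (by
    rw [Ideal.map_map, show (maximalIdeal C').comap (algebraMap V C') = maximalIdeal V from
      IsLocalRing.maximalIdeal_comap _, show (θ : C' →+* X').comp (algebraMap V C') = algebraMap V X' from
      RingHom.ext fun v => (hθ _).trans (IsScalarTower.algebraMap_apply V C' X' v).symm, hrV])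
  have hD : 2 ≤ LocCoh.idealDepth (J'.map (algebraMap C' (EGA4.FibLocRing V C' (maximalIdeal C'))))
      (EGA4.FibLocRing V C' (maximalIdeal C')) := by
    have h0 := GrothLib.FlatValCrit1.two_le_depth_fib_baseChange (R := R) (C := C) (V := V) (C' := W) J (maximalIdeal C)
      (IsLocalRing.maximalIdeal_comap _) hS2 hcodim r hrV hrn
    rw [GrothLib.FiniteQuot.idealDepth_congr ε ε.toAddEquiv (fun a b => map_mul ε a b), Ideal.map_map, Ideal.map_map] at h0
    show 2 ≤ LocCoh.idealDepth ((J.map (algebraMap C C')).map (algebraMap C' (EGA4.FibLocRing V C' (maximalIdeal C')))) _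
    rw [Ideal.map_map]
    refine h0.trans (le_of_eq ?_)
    congr 2
    ext c
    show Ideal.Quotient.mk _ (θ (algebraMap W C' (algebraMap C W c))) = _
    rw [hθ]
    rfl
  let ρ : ∀ k : ℕ, C' ⊗[C] (Fin k → C) ≃ₗ[C'] (Fin k → C') := fun k => TensorProduct.piScalarRight C C' C' (Fin k)
  let g' : C' ⊗[C] F →ₗ[C'] (Fin N → C') := (ρ N).toLinearMap.comp (g.baseChange C')
  let h' : (Fin N → C') →ₗ[C'] (Fin M → C') :=
    ((ρ M).toLinearMap.comp (h.baseChange C')).comp (ρ N).symm.toLinearMap
  have hgh' : ∀ x, h' (g' x) = 0 := fun x => by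
    show ρ M (h.baseChange C' ((ρ N).symm (ρ N (g.baseChange C' x)))) = 0
    rw [LinearEquiv.symm_apply_apply, ← LinearMap.comp_apply, ← LinearMap.baseChange_comp,
      hgh.linearMap_comp_eq_zero, LinearMap.baseChange_zero, LinearMap.zero_apply, map_zero]
  let G := (Fin M → C) ⧸ LinearMap.range h
  let G' := (Fin M → C') ⧸ LinearMap.range h'
  have hπ : Surjective ((LinearMap.range h).mkQ.baseChange C') :=
    LinearMap.lTensor_surjective C' (Submodule.mkQ_surjective _)
  let π : (Fin M → C') →ₗ[C'] C' ⊗[C] G := ((LinearMap.range h).mkQ.baseChange C').comp (ρ M).symm.toLinearMap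
  have hker : LinearMap.ker π = LinearMap.range h' := by
    ext z
    have hex := lTensor_exact C' (LinearMap.exact_map_mkQ_range h) (Submodule.mkQ_surjective _) ((ρ M).symm z)
    show (LinearMap.range h).mkQ.baseChange C' ((ρ M).symm z) = 0 ↔ _
    refine Iff.trans hex ⟨?_, ?_⟩
    · rintro ⟨w, hw⟩
      refine ⟨ρ N w, ?_⟩
      show ρ M (h.baseChange C' ((ρ N).symm (ρ N w))) = z
      rw [LinearEquiv.symm_apply_apply, ← LinearEquiv.apply_symm_apply (ρ M) z]
      exact congrArg (ρ M) hw
    · rintro ⟨y, rfl⟩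
      refine ⟨(ρ N).symm y, ?_⟩
      show _ = (ρ M).symm (ρ M (h.baseChange C' ((ρ N).symm y)))
      rw [LinearEquiv.symm_apply_apply]
      rfl
  let e : G' ≃ₗ[C'] C' ⊗[C] G :=
    (Submodule.quotEquivOfEq _ _ hker.symm).trans (π.quotKerEquivOfSurjective (hπ.comp (ρ M).symm.surjective))
  have hhom : ∀ a' ∈ J', ∃ (k : ℕ) (t : (Fin N → C') →ₗ[C'] C' ⊗[C] F) (s : (Fin M → C') →ₗ[C'] (Fin N → C')),
      (∀ x, t (g' x) = a' ^ k • x) ∧ ∀ y, g' (t y) + s (h' y) = a' ^ k • y := by
    intro a' ha'
    exact GrothLib.FlatOffHens1.exists_homotopy_baseChange g h hg hgh J hGfree (ρ := ρ) a' ha'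
  have hG' : ∀ r : PrimeSpectrum C', ¬ J' ≤ r.asIdeal → ∃ (k : ℕ) (α : G' →ₗ[C'] (Fin k → C'))
      (β : (Fin k → C') →ₗ[C'] G') (s : r.asIdeal.primeCompl), ∀ x, β (α x) = (s : C') • x := by
    intro r hr
    haveI := hGfree ⟨r.asIdeal.comap (algebraMap C C'), inferInstance⟩ fun hJ => hr (Ideal.map_le_iff_le_comap.2 hJ)
    obtain ⟨k, α, β, s, hs⟩ := GrothLib.FreeOff.exists_factor_of_free (B := C) G (r.asIdeal.comap (algebraMap C C'))
    refine ⟨k, ((ρ k).toLinearMap.comp (α.baseChange C')).comp e.toLinearMap,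
      (e.symm.toLinearMap.comp (β.baseChange C')).comp (ρ k).symm.toLinearMap, ⟨algebraMap C C' s, s.2⟩, fun z => ?_⟩
    show e.symm (β.baseChange C' ((ρ k).symm (ρ k (α.baseChange C' (e z))))) = _
    rw [LinearEquiv.symm_apply_apply, ← LinearMap.comp_apply (β.baseChange C'), ← LinearMap.baseChange_comp,
      show β.comp α = (s : C) • LinearMap.id from LinearMap.ext hs, LinearMap.baseChange_smul,
      LinearMap.baseChange_id, LinearMap.smul_apply, LinearMap.id_apply, ← algebraMap_smul C' (s : C) (e z),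
      map_smul, LinearEquiv.symm_apply_apply]
  haveI := GrothLib.FlatOff.finite_dual (B := C') (C' ⊗[C] F)
  haveI := GrothLib.FlatOff.finite_dual (B := C') (Module.Dual C' (C' ⊗[C] F))
  let θq : (C' ⧸ (maximalIdeal V).map (algebraMap V C')) ≃+* EGA4.FibLocRing V C' (maximalIdeal C') :=
    Ideal.quotientEquiv _ _ θ (by
      rw [Ideal.map_map, show (maximalIdeal C').comap (algebraMap V C') = maximalIdeal V from
        IsLocalRing.maximalIdeal_comap _, show (θ : C' →+* X').comp (algebraMap V C') = algebraMap V X' from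
        RingHom.ext fun v => (hθ _).trans (IsScalarTower.algebraMap_apply V C' X' v).symm])
  have hD2 := GrothLib.SnFibres.hasSk_congr θq hS2V
  haveI : Nontrivial C' := inferInstance
  have hJ' : J' ≠ ⊤ := fun hh => by
    have hle : J' ≤ maximalIdeal C' := by
      refine Ideal.map_le_iff_le_comap.2 fun c hc => ?_
      show algebraMap C C' c ∈ maximalIdeal C'
      rw [IsScalarTower.algebraMap_apply C W C', IsLocalization.AtPrime.to_map_mem_maximal_iff C' r]
      show c ∈ r.comap (algebraMap C W)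
      rw [hrn]
      exact IsLocalRing.le_maximalIdeal hJ hc
    exact (maximalIdeal.isMaximal C').ne_top (top_le_iff.1 (hh ▸ hle))
  have hfib : 2 ≤ LocCoh.idealDepth (J'.map (Ideal.Quotient.mk ((maximalIdeal V).map (algebraMap V C'))))
      (C' ⧸ (maximalIdeal V).map (algebraMap V C')) := by
    rw [GrothLib.FiniteQuot.idealDepth_congr θq θq.toAddEquiv (fun a b => map_mul θq a b), Ideal.map_map,
      show (θq : (C' ⧸ (maximalIdeal V).map (algebraMap V C')) →+* EGA4.FibLocRing V C' (maximalIdeal C')).comp (Ideal.Quotient.mk ((maximalIdeal V).map (algebraMap V C'))) =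
        algebraMap C' (EGA4.FibLocRing V C' (maximalIdeal C')) from RingHom.ext fun c => by
          show Ideal.Quotient.mk _ (θ c) = _
          rw [hθ]; rfl]
    exact hD
  haveI : IsNoetherianRing X' := IsLocalization.isNoetherianRing (maximalIdeal C').primeCompl _ inferInstance
  have hDX : 2 ≤ LocCoh.idealDepth (J'.map (algebraMap C' X')) X' := by
    rw [show algebraMap C' X' = (θ : C' →+* X') from RingHom.ext fun c => (hθ c).symm,
      ← GrothLib.FiniteQuot.idealDepth_congr θ θ.toAddEquiv (fun a b => map_mul θ a b)]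
    exact two_le_depth_self_of_fibre (R := V) J' hJ' hfib
  obtain ⟨θ', e', -, he0, he'⟩ := exists_closed_equiv (C := C') (C' ⊗[C] G)
  let E : LocalizedModule r.primeCompl (W ⊗[C] G) ≃ₗ[C'] C' ⊗[C] G :=
    (LocalizedModule.equivTensorProduct r.primeCompl (W ⊗[C] G)).trans
      (TensorProduct.AlgebraTensorModule.cancelBaseChange C W C' C' G)
  haveI : IsScalarTower V C' (LocalizedModule r.primeCompl (W ⊗[C] G)) := IsScalarTower.of_algebraMap_smul fun v z => by
    rw [IsScalarTower.algebraMap_apply V W C', algebraMap_smul, algebraMap_smul]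
  rw [← fibLoc_iff_good (R := V) (C := C') _ 2,
    GrothLib.FlatOffHens1.flatAt_coker_iff J' (maximalIdeal C') g' h' hDX hD hD2 hgh' hhom hG']
  refine Iff.trans (show FlatCA.FlatAt V (maximalIdeal C') G' ↔ FlatCA.FlatAt V (maximalIdeal C') (C' ⊗[C] G) from
    ⟨GrothLib.FlatAbove.flatAt_congr e (maximalIdeal C'), GrothLib.FlatAbove.flatAt_congr e.symm (maximalIdeal C')⟩) ?_
  refine Iff.trans (GrothLib.CritMod6.flat_iff_of_semilinear (RingEquiv.refl V) e' fun a m => by
    rw [he0, he0]; exact LinearMap.map_smul_of_tower _ a m).symm ?_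
  exact ⟨fun h => Module.Flat.of_linearEquiv (E.restrictScalars V),
    fun (h : Module.Flat V (LocalizedModule r.primeCompl (W ⊗[C] G))) => Module.Flat.of_linearEquiv (E.restrictScalars V).symm⟩

end Algebra

section Point

/-- The local ring and the stalk of a base change at a point. -/
theorem exists_point_equiv {X S : Scheme.{u}} (f : X ⟶ S) [IsLocallyNoetherian X] {G : X.Modules} (hG : Coh.IsCoh G)
    (y : X) (V : Type u) [CommRing V] [IsLocalRing V] {W : Type u} [CommRing W] [Algebra V W]
    [Algebra (X.presheaf.stalk y) W] (r : Ideal W) [r.IsPrime]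
    {X' : Scheme.{u}} [IsLocallyNoetherian X'] (f' : X' ⟶ Spec (CommRingCat.of V)) (p : X' ⟶ X)
    (l : Spec (CommRingCat.of W) ⟶ X') [Flat l] [IsPreimmersion l]
    (hlp : l ≫ p = Spec.map (CommRingCat.ofHom (algebraMap (X.presheaf.stalk y) W)) ≫ X.fromSpecStalk y)
    (hlf : l ≫ f' = Spec.map (CommRingCat.ofHom (algebraMap V W)))
    (hrV : r.comap (algebraMap V W) = maximalIdeal V)
    {G' : X'.Modules} (e : G' ≅ RefHull.ddual ((Scheme.Modules.pullback p).obj G))
    (y' : X') (hy' : l ⟨r, inferInstance⟩ = y') (hy : p y' = y) :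
    ∃ (τ : (Spec (CommRingCat.of V)).presheaf.stalk (f' y') ≃+* V) (σ : X'.presheaf.stalk y' ≃+* Localization.AtPrime r)
      (E : G'.presheaf.stalk y' ≃+ Module.Dual (Localization.AtPrime r) (Module.Dual (Localization.AtPrime r)
        (Localization.AtPrime r ⊗[X.presheaf.stalk y] G.presheaf.stalk y))),
      (∀ a, σ ((f'.stalkMap y').hom a) = algebraMap V (Localization.AtPrime r) (τ a)) ∧
      ∀ b w, E (b • w) = σ b • E w := by
  subst hy'
  subst hy
  let z : Spec (CommRingCat.of W) := ⟨r, inferInstance⟩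
  let C := X.presheaf.stalk (p (l z))
  let C₁ := X'.presheaf.stalk (l z)
  let X₀ := Localization.AtPrime r
  letI : Algebra C₁ ((Spec (CommRingCat.of W)).presheaf.stalk z) := (l.stalkMap z).hom.toAlgebra
  haveI : IsLocalHom (algebraMap C₁ ((Spec (CommRingCat.of W)).presheaf.stalk z)) :=
    inferInstanceAs (IsLocalHom (l.stalkMap z).hom)
  haveI : Module.Flat C₁ ((Spec (CommRingCat.of W)).presheaf.stalk z) := Flat.stalkMap l z
  haveI : Module.FaithfullyFlat C₁ ((Spec (CommRingCat.of W)).presheaf.stalk z) :=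
    Module.FaithfullyFlat.of_flat_of_isLocalHom
  have hbij : Function.Bijective (l.stalkMap z).hom :=
    ⟨FaithfulSMul.algebraMap_injective C₁ ((Spec (CommRingCat.of W)).presheaf.stalk z), l.stalkMap_surjective z⟩
  let χ := (Spec.stalkIso (CommRingCat.of W) z).commRingCatIsoToRingEquiv
  let σ : C₁ ≃+* X₀ := (RingEquiv.ofBijective _ hbij).trans χ
  let sV : (Spec (CommRingCat.of V)).presheaf.stalk (f' (l z)) ⟶ CommRingCat.of X₀ :=
    f'.stalkMap (l z) ≫ CommRingCat.ofHom σ.toRingHom
  have hσ : ∀ {X'' : Scheme.{u}} (q : X' ⟶ X'') (γ : X''.presheaf.stalk (q (l z)) ⟶ CommRingCat.of X₀),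
      Spec.map γ ≫ X''.fromSpecStalk (q (l z)) = Spec.map (CommRingCat.ofHom (algebraMap W X₀)) ≫ l ≫ q →
      q.stalkMap (l z) ≫ CommRingCat.ofHom σ.toRingHom = γ := by
    intro X'' q γ hγ
    apply Spec.map_injective
    rw [← cancel_mono (X''.fromSpecStalk (q (l z))), hγ, Spec.map_comp, Category.assoc,
      Scheme.SpecMap_stalkMap_fromSpecStalk]
    have h1 : Spec.map (CommRingCat.ofHom σ.toRingHom) =
        Spec.map (CommRingCat.ofHom χ.toRingHom) ≫ Spec.map (l.stalkMap z) := by
      rw [← Spec.map_comp]; rfl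
    rw [h1, Category.assoc, Scheme.SpecMap_stalkMap_fromSpecStalk_assoc, ← Category.assoc]
    congr 1
    rw [Spec.fromSpecStalk_eq', ← Spec.map_comp]
    congr 1
    ext w
    show χ _ = _
    exact stalkIso_toStalk W z w
  have hπ : ∀ c : C, σ ((p.stalkMap (l z)).hom c) = algebraMap C X₀ c := fun c =>
    congrArg (fun γ => γ.hom c) (hσ p (CommRingCat.ofHom (algebraMap C X₀)) (by
      rw [hlp, ← Category.assoc (Spec.map _), ← Spec.map_comp]; rfl))
  let τ : V →+* (Spec (CommRingCat.of V)).presheaf.stalk (f' (l z)) :=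
    (StructureSheaf.toStalk (CommRingCat.of V) (f' (l z))).hom
  have hpt : f' (l z) = closedPoint V := by
    rw [← Scheme.Hom.comp_apply, hlf]
    exact PrimeSpectrum.ext hrV
  have hτ : Function.Bijective τ := by
    have key : ∀ q : Spec (CommRingCat.of V), q = closedPoint V →
        Function.Bijective (StructureSheaf.toStalk (CommRingCat.of V) q).hom := by
      rintro _ rfl
      rw [← stalkClosedPointIso_inv]
      exact (stalkClosedPointIso (CommRingCat.of V)).symm.commRingCatIsoToRingEquiv.bijective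
    exact key _ hpt
  have hv : ∀ a : V, σ ((f'.stalkMap (l z)).hom (τ a)) = algebraMap V X₀ a := fun a => by
    have h := hσ f' sV (by
      show Spec.map (f'.stalkMap (l z) ≫ CommRingCat.ofHom σ.toRingHom) ≫ _ = _
      rw [Spec.map_comp, Category.assoc, Scheme.SpecMap_stalkMap_fromSpecStalk]
      have h1 : Spec.map (CommRingCat.ofHom σ.toRingHom) =
          Spec.map (CommRingCat.ofHom χ.toRingHom) ≫ Spec.map (l.stalkMap z) := by
        rw [← Spec.map_comp]; rfl
      rw [h1, Category.assoc, Scheme.SpecMap_stalkMap_fromSpecStalk_assoc, ← Category.assoc]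
      congr 1
      rw [Spec.fromSpecStalk_eq', ← Spec.map_comp]
      congr 1
      ext w
      show χ _ = _
      exact stalkIso_toStalk W z w)
    have h2 : CommRingCat.ofHom τ ≫ sV = CommRingCat.ofHom (algebraMap V X₀) := by
      apply Spec.map_injective
      have h3 : Spec.map (CommRingCat.ofHom τ) = (Spec (CommRingCat.of V)).fromSpecStalk (f' (l z)) :=
        (Spec.fromSpecStalk_eq' (R := CommRingCat.of V) _).symm
      rw [Spec.map_comp, h3, Spec.map_comp, Category.assoc, Scheme.SpecMap_stalkMap_fromSpecStalk]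
      have h1 : Spec.map (CommRingCat.ofHom σ.toRingHom) =
          Spec.map (CommRingCat.ofHom χ.toRingHom) ≫ Spec.map (l.stalkMap z) := by
        rw [← Spec.map_comp]; rfl
      rw [h1, Category.assoc, Scheme.SpecMap_stalkMap_fromSpecStalk_assoc, hlf, ← Category.assoc,
        show CommRingCat.ofHom (algebraMap V X₀) = CommRingCat.ofHom (algebraMap V W) ≫ CommRingCat.ofHom (algebraMap W X₀)
          from CommRingCat.hom_ext (IsScalarTower.algebraMap_eq V W X₀), Spec.map_comp]
      congr 1
      rw [Spec.fromSpecStalk_eq', ← Spec.map_comp]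
      congr 1
      ext w
      show χ _ = _
      exact stalkIso_toStalk W z w
    exact congrArg (fun γ => γ.hom a) h2
  letI : Algebra C C₁ := (p.stalkMap (l z)).hom.toAlgebra
  let σl : C₁ ≃ₗ[C] X₀ :=
    { σ with
      map_smul' := fun c w => by
        show σ (c • w) = c • σ w
        rw [Algebra.smul_def]
        refine (map_mul σ _ _).trans ?_
        rw [Algebra.smul_def]
        exact congrArg (· * σ w) (hπ c) }
  let M := G.presheaf.stalk (p (l z))
  haveI : Module.Finite C M := QuasiFlat.finite_stalk G hG _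
  let ec := TensorProduct.congr σl (LinearEquiv.refl C M)
  obtain ⟨dd, hdd⟩ := exists_ddual_equiv σ ec.toAddEquiv fun b w => by
    show ec (b • w) = σ b • ec w
    induction w using TensorProduct.induction_on with
    | zero => simp
    | add a c ha hc => simp only [smul_add, map_add, ha, hc]
    | tmul a c =>
      show ec ((b * a) ⊗ₜ c) = σ b • (σ a ⊗ₜ c)
      rw [TensorProduct.smul_tmul', smul_eq_mul, ← map_mul]
      rfl
  let P := (Scheme.Modules.pullback p).obj G
  have hP : Coh.IsCoh P := ModDesc.isCoh_pullback p _ hG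
  obtain ⟨es⟩ := nonempty_ddual_stalk hP (l z)
  let el : P.presheaf.stalk (l z) ≃ₗ[C₁] C₁ ⊗[C] M := ((QCoh.stalkPullbackIso p (l z)).app G).toLinearEquiv
  let E : (G'.presheaf.stalk (l z)) ≃ₗ[C₁] Module.Dual C₁ (Module.Dual C₁ (C₁ ⊗[C] M)) :=
    ((DualFree20.stalkIso e (l z)).trans es).trans el.dualMap.dualMap
  exact ⟨(RingEquiv.ofBijective τ hτ).symm, σ, E.toAddEquiv.trans dd, fun a => by
      obtain ⟨v, rfl⟩ := (RingEquiv.ofBijective τ hτ).surjective a
      rw [RingEquiv.symm_apply_apply]
      exact hv v, fun b w => by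
      show dd (E (b • w)) = σ b • dd (E w)
      rw [map_smul, hdd]⟩

end Point

/-- Henselian local rings are stable under isomorphism. -/
theorem henselian_of_equiv {A B : Type u} [CommRing A] [CommRing B] [HenselianLocalRing B]
    (e : A ≃+* B) : HenselianLocalRing A := by
  haveI : IsLocalRing A := e.symm.isLocalRing
  refine ⟨fun f hf a₀ h0 h1 => ?_⟩
  haveI : IsLocalHom e.toRingHom := ⟨fun a ha => (MulEquiv.isUnit_map e).1 ha⟩
  have hmax : ∀ a, a ∈ IsLocalRing.maximalIdeal A ↔ e a ∈ IsLocalRing.maximalIdeal B := fun a =>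
    not_congr (MulEquiv.isUnit_map e).symm
  obtain ⟨b, hb, hb0⟩ := HenselianLocalRing.is_henselian (f.map e.toRingHom) (hf.map _) (e a₀)
    (by show (f.map e.toRingHom).eval (e.toRingHom a₀) ∈ _; rw [Polynomial.eval_map_apply]; exact (hmax _).1 h0)
    (by show IsUnit ((f.map e.toRingHom).derivative.eval (e.toRingHom a₀)); rw [Polynomial.derivative_map, Polynomial.eval_map_apply]; exact (MulEquiv.isUnit_map e).2 h1)
  refine ⟨e.symm b, e.injective ?_, (hmax _).2 (by rw [map_sub, e.apply_symm_apply]; exact hb0)⟩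
  rw [map_zero]
  show e.toRingHom (f.eval (e.symm b)) = 0
  rw [← Polynomial.eval_map_apply]
  show (f.map e.toRingHom).eval (e (e.symm b)) = 0
  rw [e.apply_symm_apply]
  exact hb

section Hens

attribute [local instance] Algebra.TensorProduct.rightAlgebra

variable {A : Type u} [CommRing A] [IsNoetherianRing A] [HenselianLocalRing A] {Y : Scheme.{u}}
  [Y.Over (Spec (CommRingCat.of A))] [IsProper (Y ↘ Spec (CommRingCat.of A))]

/-- **The ideal of the relative `(S_2)` locus of one reflexive power.** -/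
theorem exists_ideal_relSkAt (d : ℕ)
    (hS : RelCanon.IsSkMor (Y ↘ Spec (CommRingCat.of A)) 2) (hd : Cyc.HasRelDim (Y ↘ Spec (CommRingCat.of A)) d)
    (ω : Y.Modules) (hω : RelCanon.IsDualizingSheaf A Y d ω)
    (hG : ∀ y : Y, y ∉ RelCanon.gorLocus (Y ↘ Spec (CommRingCat.of A)) →
      (2 : WithBot ℕ∞) ≤ ringKrullDim (((Y ↘ Spec (CommRingCat.of A)).fiber
        ((Y ↘ Spec (CommRingCat.of A)) y)).presheaf.stalk ((Y ↘ Spec (CommRingCat.of A)).asFiber y)))
    (y : Y) (hy : (Y ↘ Spec (CommRingCat.of A)) y = closedPoint A) (m : ℤ) :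
    ∃ 𝔞 : Ideal A, ∀ (B : Type u) [CommRing B] [IsNoetherianRing B] [IsLocalRing B] (φ : A →+* B) [IsLocalHom φ]
      (Y' : Scheme.{u}) [Y'.Over (Spec (CommRingCat.of B))] (p : Y' ⟶ Y)
      (hp : IsPullback p (Y' ↘ Spec (CommRingCat.of B)) (Y ↘ Spec (CommRingCat.of A)) (Spec.map (CommRingCat.ofHom φ)))
      (ω' : Y'.Modules) (hω' : RelCanon.IsDualizingSheaf B Y' d ω'),
      ((∀ y' : Y', p y' = y → (Y' ↘ Spec (CommRingCat.of B)) y' = closedPoint B →
          RelCanon.RelSkAt (Y' ↘ Spec (CommRingCat.of B)) 2 (RelCanon.refPowZ ω' m) y') ↔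
        Ideal.map φ 𝔞 = ⊥) := by
  classical
  let f := Y ↘ Spec (CommRingCat.of A)
  haveI : Flat f := hS.1
  haveI : LocallyOfFiniteType f := hS.2.1
  haveI : LocallyOfFinitePresentation f := GrothLib.LocProp.locallyOfFinitePresentation_of_isLocallyNoetherian f
  haveI : IsLocallyNoetherian Y := LocallyOfFiniteType.isLocallyNoetherian f
  obtain ⟨hGc, hdata⟩ := exists_local_data_int d hS hd ω hω hG y m
  rcases hdata with hinv | ⟨J, hJ, hrefl, hFU, hcodim, hD⟩
  · refine ⟨⊥, fun B _ _ _ φ _ Y' _ p hp ω' hω' => iff_of_true (fun y' hy' _ => ?_) Ideal.map_bot⟩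
    haveI : IsProper (Y' ↘ Spec (CommRingCat.of B)) := MorphismProperty.of_isPullback (P := @IsProper) hp inferInstance
    haveI : IsLocallyNoetherian Y' := LocallyOfFiniteType.isLocallyNoetherian (Y' ↘ Spec (CommRingCat.of B))
    obtain ⟨⟨e⟩, -⟩ := refPowZ_baseChange d hS hd ω hω hG B φ Y' p hp ω' hω' m
    obtain ⟨-, hω'c, -⟩ := exists_bcOn d hS hd ω hω hG B φ Y' p hp ω' hω'
    exact relSkAt_of_invertibleAt _ (isSkMor_of_isPullback hp hS) (isCoh_refPowZ hω'c m)
      (invertibleAt_of_iso e.symm (invertibleAt_ddual_pullback p y' (hy'.symm ▸ hinv)))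
  let G := RelCanon.refPowZ ω m
  let R := (Spec (CommRingCat.of A)).presheaf.stalk (f y)
  let C := Y.presheaf.stalk y
  let F := G.presheaf.stalk y
  letI : Algebra R C := (f.stalkMap y).hom.toAlgebra
  haveI : IsLocalHom (algebraMap R C) := inferInstanceAs (IsLocalHom (f.stalkMap y).hom)
  haveI : Module.Flat R C := Flat.stalkMap f y
  haveI : Module.Finite C F := QuasiFlat.finite_stalk _ hGc y
  haveI := hrefl
  haveI : Algebra.EssFiniteType R C := by
    obtain ⟨S₀, _, _, _, _, M₀, hfp, hloc⟩ := GrothLib.FibreFlat.isEssFinitePresentation_stalkMap f y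
    haveI := hfp
    haveI := hloc
    haveI : Algebra.EssFiniteType S₀ C := Algebra.EssFiniteType.of_isLocalization C M₀
    exact Algebra.EssFiniteType.comp R S₀ C
  let τ₀ : A →+* R := (StructureSheaf.toStalk (CommRingCat.of A) (f y)).hom
  have hτ₀ : Function.Bijective τ₀ := by
    have key : ∀ q : Spec (CommRingCat.of A), q = closedPoint A →
        Function.Bijective (StructureSheaf.toStalk (CommRingCat.of A) q).hom := by
      rintro _ rfl
      rw [← stalkClosedPointIso_inv]
      exact (stalkClosedPointIso (CommRingCat.of A)).symm.commRingCatIsoToRingEquiv.bijective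
    exact key _ hy
  let τA : A ≃+* R := RingEquiv.ofBijective τ₀ hτ₀
  haveI : HenselianLocalRing R := henselian_of_equiv τA.symm
  have hS2C : LocCoh.HasSk 2 (EGA4.FibLocRing R C (maximalIdeal C)) (EGA4.FibLocRing R C (maximalIdeal C)) := by
    obtain ⟨θ, -, hθ, -, -⟩ := exists_closed_equiv (C := C) C
    exact GrothLib.SnFibres.hasSk_congr (Ideal.quotientEquiv _ _ θ (by
      show _ = ((maximalIdeal R).map (algebraMap R C)).map (θ : C →+* Localization.AtPrime (maximalIdeal C))
      rw [Ideal.map_map, show (maximalIdeal C).comap (algebraMap R C) = maximalIdeal R from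
        IsLocalRing.maximalIdeal_comap _, show (θ : C →+* Localization.AtPrime (maximalIdeal C)).comp (algebraMap R C) =
          algebraMap R (Localization.AtPrime (maximalIdeal C)) from
        RingHom.ext fun r => (hθ _).trans (IsScalarTower.algebraMap_apply R C _ r).symm])) (hasSk_closedFibre f hS y)
  obtain ⟨N, M, g, h, hg, hgh, hfree⟩ := GrothLib.FreeOff.exists_presentation (B := C) F
  have hGfree : ∀ q : PrimeSpectrum C, ¬ J ≤ q.asIdeal → Module.Free (Localization.AtPrime q.asIdeal)
      (LocalizedModule q.asIdeal.primeCompl ((Fin M → C) ⧸ LinearMap.range h)) :=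
    fun q hq => hfree q.asIdeal (hFU q hq)
  let K := (Fin M → C) ⧸ LinearMap.range h
  obtain ⟨I, hI⟩ := Groth.Agent.S1229.exists_ideal (A := R) (B := C) K
  refine ⟨I.comap τ₀, fun B _ _ _ φ _ Y' _ p hp ω' hω' => ?_⟩
  letI : Algebra R B := (φ.comp τA.symm.toRingHom).toAlgebra
  have hmap : Ideal.map φ (I.comap τ₀) = I.map (algebraMap R B) := by
    rw [← Ideal.map_comap_of_surjective τ₀ hτ₀.2 I, Ideal.map_map,
      show (algebraMap R B).comp τ₀ = φ from RingHom.ext fun a => congrArg φ (τA.symm_apply_apply a),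
      Ideal.map_comap_of_surjective τ₀ hτ₀.2 I]
  rw [hmap]
  haveI : IsLocalHom (algebraMap R B) := ⟨fun a ha => by
    have h1 : IsUnit (τA.symm a) := isUnit_of_map_unit φ _ ha
    simpa using h1.map τA⟩
  let W := B ⊗[R] C
  haveI : IsNoetherianRing W := Algebra.EssFiniteType.isNoetherianRing B W
  haveI : Algebra.IsPushout R C B W := inferInstance
  rw [← hI B W (W ⊗[C] K) (TensorProduct.mk C W K 1) (TensorProduct.isBaseChange C K W)]
  let f' := Y' ↘ Spec (CommRingCat.of B)
  haveI : IsProper f' := MorphismProperty.of_isPullback (P := @IsProper) hp inferInstance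
  haveI : IsLocallyNoetherian Y' := LocallyOfFiniteType.isLocallyNoetherian f'
  obtain ⟨⟨e⟩, -⟩ := refPowZ_baseChange d hS hd ω hω hG B φ Y' p hp ω' hω' m
  obtain ⟨hωc, hω'c, -⟩ := exists_bcOn d hS hd ω hω hG B φ Y' p hp ω' hω'
  let G' := RelCanon.refPowZ ω' m
  have hS' := isSkMor_of_isPullback hp hS
  let v : Spec (CommRingCat.of B) ⟶ Spec R := Spec.map (CommRingCat.ofHom (algebraMap R B))
  have hφ : Spec.map (CommRingCat.ofHom φ) = v ≫ (Spec (CommRingCat.of A)).fromSpecStalk (f y) := by
    rw [Spec.fromSpecStalk_eq', ← Spec.map_comp]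
    congr 1
    ext a
    exact (congrArg φ (τA.symm_apply_apply a)).symm
  let j := Y.fromSpecStalk y
  let iC : Spec (CommRingCat.of W) ⟶ Spec C := Spec.map (CommRingCat.ofHom (algebraMap C W))
  let iV : Spec (CommRingCat.of W) ⟶ Spec (CommRingCat.of B) := Spec.map (CommRingCat.ofHom (algebraMap B W))
  let gs : Spec C ⟶ Spec R := Spec.map (f.stalkMap y)
  have hgj : gs ≫ (Spec (CommRingCat.of A)).fromSpecStalk (f y) = j ≫ f := Scheme.SpecMap_stalkMap_fromSpecStalk f
  have hW : IsPullback iC iV gs v :=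
    isPullback_SpecMap_of_isPushout _ _ _ _ (CommRingCat.isPushout_of_isPushout R C B W)
  have hbig : IsPullback iC iV (j ≫ f) (Spec.map (CommRingCat.ofHom φ)) := by
    rw [hφ, ← hgj]
    refine IsPullback.mk' (by rw [← Category.assoc, hW.w, Category.assoc]) (fun T a b h1 h2 => hW.hom_ext h1 h2)
      fun T a b hab => ?_
    have hab' : a ≫ gs = b ≫ v :=
      (cancel_mono ((Spec (CommRingCat.of A)).fromSpecStalk (f y))).1 (by simpa [Category.assoc] using hab)
    exact ⟨hW.lift a b hab', hW.lift_fst _ _ _, hW.lift_snd _ _ _⟩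
  let l : Spec (CommRingCat.of W) ⟶ Y' := hp.lift (iC ≫ j) iV (by rw [Category.assoc]; exact hbig.w)
  have hl : IsPullback iC l j p := by
    refine IsPullback.of_bot ?_ (hp.lift_fst _ _ _).symm hp
    rw [hp.lift_snd]
    exact hbig
  haveI : Flat j := GrothLib.FFDesc.flat_fromSpecStalk' Y y
  haveI : Flat l := MorphismProperty.of_isPullback (P := @Flat) hl inferInstance
  haveI : IsPreimmersion l := MorphismProperty.of_isPullback (P := @IsPreimmersion) hl inferInstance
  have hpt : ∀ (r : Ideal W) [r.IsPrime], r.comap (algebraMap C W) = maximalIdeal C →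
      r.comap (algebraMap B W) = maximalIdeal B → p (l ⟨r, inferInstance⟩) = y ∧ f' (l ⟨r, inferInstance⟩) = closedPoint B := by
    intro r _ hrC hrB
    constructor
    · rw [← Scheme.Hom.comp_apply, hp.lift_fst, Scheme.Hom.comp_apply,
        show iC ⟨r, inferInstance⟩ = closedPoint C from PrimeSpectrum.ext hrC]
      exact Scheme.fromSpecStalk_closedPoint
    · rw [← Scheme.Hom.comp_apply, hp.lift_snd]
      exact PrimeSpectrum.ext hrB
  have key : ∀ (r : Ideal W) [r.IsPrime], r.comap (algebraMap C W) = maximalIdeal C →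
      r.comap (algebraMap B W) = maximalIdeal B →
      (RelCanon.RelSkAt f' 2 G' (l ⟨r, inferInstance⟩) ↔ FlatCA.FlatAt B r (W ⊗[C] K)) := by
    intro r _ hrC hrB
    let X₀ := Localization.AtPrime r
    haveI : IsNoetherianRing X₀ := IsLocalization.isNoetherianRing r.primeCompl _ inferInstance
    obtain ⟨τ, σ, E, hσ, hE⟩ := exists_point_equiv f hGc y B r f' p l (hp.lift_fst _ _ _) (hp.lift_snd _ _ _) hrB e.symm
      (l ⟨r, inferInstance⟩) rfl (hpt r hrC hrB).1
    have hS2V : LocCoh.HasSk 2 (X₀ ⧸ (maximalIdeal B).map (algebraMap B X₀)) (X₀ ⧸ (maximalIdeal B).map (algebraMap B X₀)) :=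
      GrothLib.SnFibres.hasSk_congr (Ideal.quotientEquiv _ _ σ (by
        rw [Ideal.map_map, show (σ : _ →+* X₀).comp (f'.stalkMap (l ⟨r, inferInstance⟩)).hom = (algebraMap B X₀).comp τ.toRingHom
          from RingHom.ext hσ, ← Ideal.map_map,
          show (maximalIdeal _).map τ.toRingHom = maximalIdeal B from
            IsLocalRing.map_maximalIdeal_of_surjective _ τ.surjective])) (hasSk_closedFibre f' hS' (l ⟨r, inferInstance⟩))
    haveI : Module.Finite (Y'.presheaf.stalk (l ⟨r, inferInstance⟩)) (G'.presheaf.stalk (l ⟨r, inferInstance⟩)) :=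
      QuasiFlat.finite_stalk _ (isCoh_refPowZ hω'c m) _
    haveI := GrothLib.FlatOff.finite_dual (B := X₀) (X₀ ⊗[C] F)
    haveI := GrothLib.FlatOff.finite_dual (B := X₀) (Module.Dual X₀ (X₀ ⊗[C] F))
    refine Iff.trans (relSkAt_iff_good f' (isCoh_refPowZ hω'c m) 2 _) (Iff.trans ⟨fun hh => ?_, fun hh => ?_⟩
      (good_ddual_iff_flatAt_coker hS2C J hcodim g h hg hgh hGfree B r hrC hrB hJ hS2V))
    · exact Good.congr τ σ hσ E hE hh
    · refine Good.congr τ.symm σ.symm (fun a => ?_) E.symm (fun b x => ?_) hh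
      · rw [RingEquiv.symm_apply_eq, hσ, RingEquiv.apply_symm_apply]
      · apply E.injective
        rw [hE, E.apply_symm_apply, E.apply_symm_apply, σ.apply_symm_apply]
  constructor
  · intro H r _ hle
    have hrB : r.comap (algebraMap B W) = maximalIdeal B :=
      ((maximalIdeal.isMaximal B).eq_of_le (Ideal.IsPrime.comap (K := r) (algebraMap B W)).ne_top
        (Ideal.map_le_iff_le_comap.1 (le_sup_left.trans hle))).symm
    have hrC : r.comap (algebraMap C W) = maximalIdeal C :=
      ((maximalIdeal.isMaximal C).eq_of_le (Ideal.IsPrime.comap (K := r) (algebraMap C W)).ne_top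
        (Ideal.map_le_iff_le_comap.1 (le_sup_right.trans hle))).symm
    exact (key r hrC hrB).1 (H _ (hpt r hrC hrB).1 (hpt r hrC hrB).2)
  · intro H y' hy' hy'c
    obtain ⟨w, hw1, hw2⟩ := Scheme.exists_preimage_of_isPullback hl (closedPoint C) y'
      (Scheme.fromSpecStalk_closedPoint.trans hy'.symm)
    have hrC : w.asIdeal.comap (algebraMap C W) = maximalIdeal C := congrArg PrimeSpectrum.asIdeal hw1
    have hrB : w.asIdeal.comap (algebraMap B W) = maximalIdeal B := by
      have h1 : iV w = closedPoint B := by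
        rw [← hy'c, ← hw2, ← Scheme.Hom.comp_apply, hp.lift_snd]
      exact congrArg PrimeSpectrum.asIdeal h1
    rw [← hw2]
    exact (key w.asIdeal hrC hrB).2 (H w.asIdeal (sup_le (Ideal.map_le_iff_le_comap.2 hrB.ge) (Ideal.map_le_iff_le_comap.2 hrC.ge)))

end Hens

end GrothLib.ArtCrit20

end
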