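import Groth.Agent.Lib.ArtCrit20.HensIdeal

/-!
# The ℚ-Gorenstein refinement over a henselian base
-/

set_option autoImplicit false
set_option linter.all false
set_option backward.isDefEq.respectTransparency false
set_option maxHeartbeats 1600000

universe u

open CategoryTheory CategoryTheory.Limits AlgebraicGeometry TopologicalSpace IsLocalRing
open scoped TensorProduct

noncomputable section

namespace GrothLib.ArtCrit20

open GrothLib.OX GrothLib.RightAdj22 GrothLib.DualFree20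

variable {A : Type u} [CommRing A] [IsNoetherianRing A] {Y : Scheme.{u}} [Y.Over (Spec (CommRingCat.of A))]
  [IsProper (Y ↘ Spec (CommRingCat.of A))]

/-- Invertibility of a reflexive power on the fibre passes to the fibre of a base change. -/
theorem invertibleAt_ddual_fibre_baseChange (d : ℕ)
    (hS : RelCanon.IsSkMor (Y ↘ Spec (CommRingCat.of A)) 2) (hd : Cyc.HasRelDim (Y ↘ Spec (CommRingCat.of A)) d)
    (ω : Y.Modules) (hω : RelCanon.IsDualizingSheaf A Y d ω)
    (hG : ∀ y : Y, y ∉ RelCanon.gorLocus (Y ↘ Spec (CommRingCat.of A)) →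
      (2 : WithBot ℕ∞) ≤ ringKrullDim (((Y ↘ Spec (CommRingCat.of A)).fiber
        ((Y ↘ Spec (CommRingCat.of A)) y)).presheaf.stalk ((Y ↘ Spec (CommRingCat.of A)).asFiber y)))
    (y : Y) (ωy : ((Y ↘ Spec (CommRingCat.of A)).fiber ((Y ↘ Spec (CommRingCat.of A)) y)).Modules)
    (hωy : @RelCanon.IsDualizingSheaf ((Spec (CommRingCat.of A)).residueField ((Y ↘ Spec (CommRingCat.of A)) y)) _
      ((Y ↘ Spec (CommRingCat.of A)).fiber ((Y ↘ Spec (CommRingCat.of A)) y))
      ⟨(Y ↘ Spec (CommRingCat.of A)).fiberToSpecResidueField ((Y ↘ Spec (CommRingCat.of A)) y)⟩ d ωy)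
    (r : ℤ) (hinv : RelCanon.InvertibleAt (RelCanon.refPowZ ωy r) ((Y ↘ Spec (CommRingCat.of A)).asFiber y))
    (B : Type u) [CommRing B] [IsNoetherianRing B] (φ : A →+* B) (Y' : Scheme.{u})
    [Y'.Over (Spec (CommRingCat.of B))] (p : Y' ⟶ Y)
    (hp : IsPullback p (Y' ↘ Spec (CommRingCat.of B)) (Y ↘ Spec (CommRingCat.of A)) (Spec.map (CommRingCat.ofHom φ)))
    (ω' : Y'.Modules) (hω' : RelCanon.IsDualizingSheaf B Y' d ω') (y' : Y') (hy' : p y' = y) :
    RelCanon.InvertibleAt (RefHull.ddual ((Scheme.Modules.pullback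
      ((Y' ↘ Spec (CommRingCat.of B)).fiberι ((Y' ↘ Spec (CommRingCat.of B)) y'))).obj (RelCanon.refPowZ ω' r)))
      ((Y' ↘ Spec (CommRingCat.of B)).asFiber y') := by
  let f := Y ↘ Spec (CommRingCat.of A)
  let f' := Y' ↘ Spec (CommRingCat.of B)
  let q := Spec.map (CommRingCat.ofHom φ)
  haveI : Flat f := hS.1
  haveI : LocallyOfFinitePresentation f := GrothLib.LocProp.locallyOfFinitePresentation_of_isLocallyNoetherian f
  haveI : IsLocallyNoetherian Y := LocallyOfFiniteType.isLocallyNoetherian f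
  haveI : IsProper f' := MorphismProperty.of_isPullback (P := @IsProper) hp inferInstance
  haveI : IsLocallyNoetherian Y' := LocallyOfFiniteType.isLocallyNoetherian f'
  let s' := f' y'
  let t := q s'
  have ht : f y = t := by
    rw [← hy', ← Scheme.Hom.comp_apply, hp.w]
    rfl
  have key : ∀ (t : Spec (CommRingCat.of A)), f y = t → ∀ z : f.fiber t, f.fiberι t z = y →
      ∃ ωt : (f.fiber t).Modules,
        @RelCanon.IsDualizingSheaf ((Spec (CommRingCat.of A)).residueField t) _ (f.fiber t) ⟨f.fiberToSpecResidueField t⟩ d ωt ∧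
        RelCanon.InvertibleAt (RelCanon.refPowZ ωt r) z := by
    rintro _ rfl z hz
    refine ⟨ωy, hωy, ?_⟩
    rwa [show z = f.asFiber y from (f.fiberι (f y)).isEmbedding.injective (hz.trans (f.fiberι_asFiber y).symm)]
  let κ := (Spec (CommRingCat.of A)).residueField t
  let κ' := (Spec (CommRingCat.of B)).residueField s'
  let ψ : κ ⟶ κ' := q.residueFieldMap s'
  letI : (f.fiber t).Over (Spec (CommRingCat.of κ)) := ⟨f.fiberToSpecResidueField t⟩
  letI : (f'.fiber s').Over (Spec (CommRingCat.of κ')) := ⟨f'.fiberToSpecResidueField s'⟩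
  have hsq₀ : IsPullback (f.fiberι t) ((f.fiber t) ↘ Spec (CommRingCat.of κ)) f
      ((Spec (CommRingCat.of A)).fromSpecResidueField t) := IsPullback.of_hasPullback _ _
  haveI : IsProper ((f.fiber t) ↘ Spec (CommRingCat.of κ)) :=
    MorphismProperty.of_isPullback hsq₀ (inferInstance : IsProper f)
  haveI : IsLocallyNoetherian (f.fiber t) :=
    LocallyOfFiniteType.isLocallyNoetherian ((f.fiber t) ↘ Spec (CommRingCat.of κ))
  have hr : Spec.map ψ ≫ (Spec (CommRingCat.of A)).fromSpecResidueField t =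
      (Spec (CommRingCat.of B)).fromSpecResidueField s' ≫ q :=
    Scheme.Hom.SpecMap_residueFieldMap_fromSpecResidueField q s'
  let g : f'.fiber s' ⟶ f.fiber t := pullback.lift (f'.fiberι s' ≫ p) (f'.fiberToSpecResidueField s' ≫ Spec.map ψ) (by
    rw [Category.assoc, Category.assoc, hr, hp.w, ← Category.assoc, ← Category.assoc, Scheme.Hom.fiber_fac])
  have hg : g ≫ f.fiberι t = f'.fiberι s' ≫ p := pullback.lift_fst _ _ _
  have hg' : g ≫ f.fiberToSpecResidueField t = f'.fiberToSpecResidueField s' ≫ Spec.map ψ := pullback.lift_snd _ _ _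
  have hbig : IsPullback (g ≫ f.fiberι t) (f'.fiberToSpecResidueField s') f
      (Spec.map ψ ≫ (Spec (CommRingCat.of A)).fromSpecResidueField t) := by
    rw [hg, hr]
    exact (IsPullback.of_hasPullback f' ((Spec (CommRingCat.of B)).fromSpecResidueField s')).paste_horiz hp
  have hsq : IsPullback g ((f'.fiber s') ↘ Spec (CommRingCat.of κ')) ((f.fiber t) ↘ Spec (CommRingCat.of κ))
      (Spec.map (CommRingCat.ofHom ψ.hom)) :=
    IsPullback.of_right hbig hg' (IsPullback.of_hasPullback f ((Spec (CommRingCat.of A)).fromSpecResidueField t))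
  haveI : IsProper ((f'.fiber s') ↘ Spec (CommRingCat.of κ')) :=
    MorphismProperty.of_isPullback hsq (inferInstance : IsProper ((f.fiber t) ↘ Spec (CommRingCat.of κ)))
  haveI : IsLocallyNoetherian (f'.fiber s') :=
    LocallyOfFiniteType.isLocallyNoetherian ((f'.fiber s') ↘ Spec (CommRingCat.of κ'))
  have hd₀ := GrothLib.CycFlat.hasRelDim_of_isPullback hsq₀ hd
  have hS₀ := isSkMor_of_isPullback hsq₀ hS
  have hG₀ := gorLocus_codim_baseChange hsq₀ hG
  let z := g (f'.asFiber y')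
  have hz : f.fiberι t z = y := by
    show f.fiberι t (g (f'.asFiber y')) = y
    rw [← Scheme.Hom.comp_apply, hg, Scheme.Hom.comp_apply, f'.fiberι_asFiber, hy']
  obtain ⟨ωt, hωt, hi⟩ := key t ht z hz
  obtain ⟨ω'', hω''⟩ := exists_isDualizingSheaf (A := κ') (Y := f'.fiber s') d fun s =>
    GrothLib.FibPd.topologicalKrullDim_le_of_components fun Z hZ =>
      (GrothLib.CycFlat.hasRelDim_of_isPullback hsq hd₀ s Z hZ).le
  obtain ⟨⟨e⟩, -⟩ := refPowZ_baseChange d hS₀ hd₀ ωt hωt hG₀ κ' ψ.hom (f'.fiber s') g hsq ω'' hω'' r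
  have h'' : RelCanon.InvertibleAt (RelCanon.refPowZ ω'' r) (f'.asFiber y') :=
    invertibleAt_of_iso e.symm (invertibleAt_ddual_pullback g (f'.asFiber y') hi)
  let ψ' : CommRingCat.of B ⟶ κ' := Spec.preimage ((Spec (CommRingCat.of B)).fromSpecResidueField s')
  have hsq' : IsPullback (f'.fiberι s') ((f'.fiber s') ↘ Spec (CommRingCat.of κ')) f'
      (Spec.map (CommRingCat.ofHom ψ'.hom)) := by
    change IsPullback (f'.fiberι s') (f'.fiberToSpecResidueField s') f' (Spec.map ψ')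
    rw [Spec.map_preimage]
    exact IsPullback.of_hasPullback _ _
  obtain ⟨⟨e'⟩, -⟩ := refPowZ_baseChange d (isSkMor_of_isPullback hp hS) (GrothLib.CycFlat.hasRelDim_of_isPullback hp hd)
    ω' hω' (gorLocus_codim_baseChange hp hG) κ' ψ'.hom (f'.fiber s') (f'.fiberι s') hsq' ω'' hω'' r
  exact invertibleAt_of_iso e' h''

/-- **The ℚ-Gorenstein refinement over a henselian base.** -/
theorem exists_ideal_qGor [HenselianLocalRing A] (d : ℕ)
    (hS : RelCanon.IsSkMor (Y ↘ Spec (CommRingCat.of A)) 2) (hd : Cyc.HasRelDim (Y ↘ Spec (CommRingCat.of A)) d)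
    (ω : Y.Modules) (hω : RelCanon.IsDualizingSheaf A Y d ω)
    (hG : ∀ y : Y, y ∉ RelCanon.gorLocus (Y ↘ Spec (CommRingCat.of A)) →
      (2 : WithBot ℕ∞) ≤ ringKrullDim (((Y ↘ Spec (CommRingCat.of A)).fiber
        ((Y ↘ Spec (CommRingCat.of A)) y)).presheaf.stalk ((Y ↘ Spec (CommRingCat.of A)).asFiber y)))
    (y : Y) (hy : (Y ↘ Spec (CommRingCat.of A)) y = closedPoint A)
    (hQy : ∀ ωt : ((Y ↘ Spec (CommRingCat.of A)).fiber ((Y ↘ Spec (CommRingCat.of A)) y)).Modules,
      @RelCanon.IsDualizingSheaf ((Spec (CommRingCat.of A)).residueField ((Y ↘ Spec (CommRingCat.of A)) y)) _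
        ((Y ↘ Spec (CommRingCat.of A)).fiber ((Y ↘ Spec (CommRingCat.of A)) y))
        ⟨(Y ↘ Spec (CommRingCat.of A)).fiberToSpecResidueField ((Y ↘ Spec (CommRingCat.of A)) y)⟩ d ωt →
      RelCanon.IsQGorWithAt ωt ((Y ↘ Spec (CommRingCat.of A)).asFiber y)) :
    ∃ 𝔞 : Ideal A, ∀ (B : Type u) [CommRing B] [IsNoetherianRing B] [IsLocalRing B] (φ : A →+* B) [IsLocalHom φ]
      (Y' : Scheme.{u}) [Y'.Over (Spec (CommRingCat.of B))] (p : Y' ⟶ Y)
      (hp : IsPullback p (Y' ↘ Spec (CommRingCat.of B)) (Y ↘ Spec (CommRingCat.of A)) (Spec.map (CommRingCat.ofHom φ)))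
      (ω' : Y'.Modules) (hω' : RelCanon.IsDualizingSheaf B Y' d ω'),
      ((∀ y' : Y', p y' = y → (Y' ↘ Spec (CommRingCat.of B)) y' = closedPoint B →
          RelCanon.IsQGorMorWithAt (Y' ↘ Spec (CommRingCat.of B)) ω' y') ↔
        Ideal.map φ 𝔞 = ⊥) := by
  let f := Y ↘ Spec (CommRingCat.of A)
  haveI : Flat f := hS.1
  haveI : LocallyOfFinitePresentation f := GrothLib.LocProp.locallyOfFinitePresentation_of_isLocallyNoetherian f
  haveI : IsLocallyNoetherian Y := LocallyOfFiniteType.isLocallyNoetherian f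
  let t := f y
  let κ := (Spec (CommRingCat.of A)).residueField t
  letI : (f.fiber t).Over (Spec (CommRingCat.of κ)) := ⟨f.fiberToSpecResidueField t⟩
  have hsq₀ : IsPullback (f.fiberι t) ((f.fiber t) ↘ Spec (CommRingCat.of κ)) f
      ((Spec (CommRingCat.of A)).fromSpecResidueField t) := IsPullback.of_hasPullback _ _
  haveI : IsProper ((f.fiber t) ↘ Spec (CommRingCat.of κ)) :=
    MorphismProperty.of_isPullback hsq₀ (inferInstance : IsProper f)
  obtain ⟨ωy, hωy⟩ := exists_isDualizingSheaf (A := κ) (Y := f.fiber t) d fun s =>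
    GrothLib.FibPd.topologicalKrullDim_le_of_components fun Z hZ =>
      (GrothLib.CycFlat.hasRelDim_of_isPullback hsq₀ hd s Z hZ).le
  obtain ⟨r, hr, hinv⟩ := hQy ωy hωy
  choose 𝔞 h𝔞 using fun j : Fin (r + 1) => exists_ideal_relSkAt d hS hd ω hω hG y hy ((j : ℕ) : ℤ)
  refine ⟨⨆ j, 𝔞 j, fun B _ _ _ φ _ Y' _ p hp ω' hω' => ?_⟩
  rw [Ideal.map_iSup, iSup_eq_bot]
  constructor
  · intro H j
    refine (h𝔞 j B φ Y' p hp ω' hω').1 fun y' hy' hy'c => ?_
    obtain ⟨U, hyU, hU⟩ := H y' hy' hy'c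
    exact hU _ y' hyU
  · intro H y' hy' hy'c
    haveI : IsProper (Y' ↘ Spec (CommRingCat.of B)) := MorphismProperty.of_isPullback (P := @IsProper) hp inferInstance
    have hrel : ∀ j : ℕ, j ≤ r → RelCanon.RelSkAt (Y' ↘ Spec (CommRingCat.of B)) 2 (RelCanon.refPowZ ω' j) y' :=
      fun j hj => (h𝔞 ⟨j, by omega⟩ B φ Y' p hp ω' hω').2 (H ⟨j, by omega⟩) y' hy' hy'c
    haveI : IsLocallyNoetherian Y' := LocallyOfFiniteType.isLocallyNoetherian (Y' ↘ Spec (CommRingCat.of B))
    have hS' := isSkMor_of_isPullback hp hS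
    have hd' := GrothLib.CycFlat.hasRelDim_of_isPullback hp hd
    have hG' := gorLocus_codim_baseChange hp hG
    exact isQGorMorWithAt_of_finitely_many d hS' hd' ω' hω' hG' r hr y'
      (invertibleAt_of_relSkAt d hS' hd' ω' hω' hG' r y' (hrel r le_rfl)
        (invertibleAt_ddual_fibre_baseChange d hS hd ω hω hG y ωy hωy (r : ℤ) hinv B φ Y' p hp ω' hω' y' hy'))
      fun j hj => hrel j hj.le

end GrothLib.ArtCrit20

end
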