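import Groth.Agent.Lib.ArtCrit20.Crit
import Groth.Agent.Lib.Ref1.Push

/-!
# Invertibility of reflexive powers from the closed fibre
-/

set_option autoImplicit false
set_option linter.all false
set_option backward.isDefEq.respectTransparency false
set_option maxHeartbeats 1600000

universe u

open CategoryTheory CategoryTheory.Limits AlgebraicGeometry TopologicalSpace IsLocalRing
open scoped TensorProduct

noncomputable section

namespace GrothLib.ArtCrit20

open GrothLib.OX GrothLib.RightAdj22 GrothLib.DualFree20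

variable {A : Type u} [CommRing A] [IsNoetherianRing A] {Y : Scheme.{u}} [Y.Over (Spec (CommRingCat.of A))]
  [IsProper (Y ↘ Spec (CommRingCat.of A))]

/-- A reflexive power that is relatively `(S₂)` at a point and invertible on the fibre is invertible. -/
theorem invertibleAt_of_relSkAt (d : ℕ)
    (hS : RelCanon.IsSkMor (Y ↘ Spec (CommRingCat.of A)) 2) (hd : Cyc.HasRelDim (Y ↘ Spec (CommRingCat.of A)) d)
    (ω : Y.Modules) (hω : RelCanon.IsDualizingSheaf A Y d ω)
    (hG : ∀ y : Y, y ∉ RelCanon.gorLocus (Y ↘ Spec (CommRingCat.of A)) →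
      (2 : WithBot ℕ∞) ≤ ringKrullDim (((Y ↘ Spec (CommRingCat.of A)).fiber
        ((Y ↘ Spec (CommRingCat.of A)) y)).presheaf.stalk ((Y ↘ Spec (CommRingCat.of A)).asFiber y)))
    (m : ℕ) (y : Y) (h : RelCanon.RelSkAt (Y ↘ Spec (CommRingCat.of A)) 2 (RelCanon.refPowZ ω m) y)
    (hinv : RelCanon.InvertibleAt (RefHull.ddual ((Scheme.Modules.pullback
      ((Y ↘ Spec (CommRingCat.of A)).fiberι ((Y ↘ Spec (CommRingCat.of A)) y))).obj (RelCanon.refPowZ ω m)))
      ((Y ↘ Spec (CommRingCat.of A)).asFiber y)) :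
    RelCanon.InvertibleAt (RelCanon.refPowZ ω m) y := by
  let f := Y ↘ Spec (CommRingCat.of A)
  haveI : Flat f := hS.1
  haveI : LocallyOfFiniteType f := hS.2.1
  haveI : LocallyOfFinitePresentation f := GrothLib.LocProp.locallyOfFinitePresentation_of_isLocallyNoetherian f
  haveI : IsLocallyNoetherian Y := LocallyOfFiniteType.isLocallyNoetherian f
  obtain ⟨hGc, hdata⟩ := exists_local_data d hS hd ω hω hG y m
  rcases hdata with hi | ⟨J, hJ, hrefl, hFU, hcodim, hD⟩
  · exact hi
  let G := RelCanon.refPowZ ω (m : ℤ)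
  let R := (Spec (CommRingCat.of A)).presheaf.stalk (f y)
  let C := Y.presheaf.stalk y
  let F := G.presheaf.stalk y
  letI : Algebra R C := (f.stalkMap y).hom.toAlgebra
  haveI : IsLocalHom (algebraMap R C) := inferInstanceAs (IsLocalHom (f.stalkMap y).hom)
  haveI : Module.Flat R C := Flat.stalkMap f y
  haveI : Module.Finite C F := QuasiFlat.finite_stalk _ hGc y
  haveI := hrefl
  haveI hart : IsArtinianRing (R ⧸ maximalIdeal R) := by letI := Ideal.Quotient.field (maximalIdeal R); infer_instance
  haveI hloc : IsLocalRing (R ⧸ maximalIdeal R) := IsLocalRing.of_surjective' (Ideal.Quotient.mk _) Ideal.Quotient.mk_surjective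
  have hb := (@good_ddual_quot R C _ _ _ _ _ _ _ _ _ F _ _ _ _ J hJ hFU hD ((relSkAt_iff_good f hGc 2 y).1 h) (maximalIdeal R) hart hloc).2
  have gen : ∀ (x : Y) (z : f.fiber (f y)), f.fiberι (f y) z = x →
      Module.IsReflexive (Y.presheaf.stalk x ⧸ (maximalIdeal ((Spec (CommRingCat.of A)).presheaf.stalk (f x))).map (f.stalkMap x).hom)
        ((Y.presheaf.stalk x ⧸ (maximalIdeal ((Spec (CommRingCat.of A)).presheaf.stalk (f x))).map (f.stalkMap x).hom)
          ⊗[Y.presheaf.stalk x] G.presheaf.stalk x) →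
      FlatMod.IsFlatOverAt f G x →
      RelCanon.InvertibleAt (RefHull.ddual ((Scheme.Modules.pullback (f.fiberι (f y))).obj G)) z →
      RelCanon.InvertibleAt G x := by
    intro x z hx hrefl' hfl hz
    subst hx
    refine invertibleAt_of_fibre f hGc (f y) z hfl ?_
    let ι := f.fiberι (f y)
    obtain ⟨hsurj, hker⟩ := FibreFlat.fiberι_stalkMap f (f y) z
    let B := Y.presheaf.stalk (ι z)
    let I : Ideal B := (maximalIdeal ((Spec (CommRingCat.of A)).presheaf.stalk (f (ι z)))).map (f.stalkMap (ι z)).hom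
    let Q := (f.fiber (f y)).presheaf.stalk z
    letI : Algebra B Q := (ι.stalkMap z).hom.toAlgebra
    let θ : (B ⧸ I) ≃+* Q := (Ideal.quotEquivOfEq hker.symm).trans (RingHom.quotientKerEquivOfSurjective hsurj)
    have hθ : ∀ b : B, θ (Ideal.Quotient.mk I b) = algebraMap B Q b := fun b => rfl
    let θl : (B ⧸ I) ≃ₗ[B] Q :=
      { θ with
        map_smul' := fun b w => by
          obtain ⟨c, rfl⟩ := Ideal.Quotient.mk_surjective w
          show θ (Ideal.Quotient.mk I (b * c)) = b • θ (Ideal.Quotient.mk I c)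
          rw [hθ, hθ, map_mul, Algebra.smul_def] }
    let M := G.presheaf.stalk (ι z)
    let e := TensorProduct.congr θl (LinearEquiv.refl B M)
    haveI : Module.IsReflexive Q (Q ⊗[B] M) :=
      GrothLib.Ref1.isReflexive_of_semilinear θ.toRingHom e.toAddEquiv.toAddMonoidHom θ.bijective e.bijective
        fun c w => by
          obtain ⟨b, rfl⟩ := Ideal.Quotient.mk_surjective c
          show e (Ideal.Quotient.mk I b • w) = θ (Ideal.Quotient.mk I b) • e w
          rw [show Ideal.Quotient.mk I b • w = b • w from rfl, map_smul, hθ, algebraMap_smul]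
    let P := (Scheme.Modules.pullback ι).obj G
    haveI : LocallyOfFiniteType (f.fiberToSpecResidueField (f y)) :=
      MorphismProperty.pullback_snd _ _ (inferInstance : LocallyOfFiniteType f)
    haveI : IsLocallyNoetherian (f.fiber (f y)) :=
      LocallyOfFiniteType.isLocallyNoetherian (f.fiberToSpecResidueField (f y))
    have hPc : Coh.IsCoh P := ModDesc.isCoh_pullback ι _ hGc
    let el : P.presheaf.stalk z ≃ₗ[Q] Q ⊗[B] M := ((OX.pullStalkIso ι z).app G).toLinearEquiv
    obtain ⟨es⟩ := nonempty_ddual_stalk hPc z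
    obtain ⟨t⟩ := nonempty_stalk_equiv_of_invertibleAt hz
    exact invertibleAt_of_stalk hPc z
      (((el.trans (Module.evalEquiv Q (Q ⊗[B] M))).trans el.symm.dualMap.dualMap).trans (es.symm.trans t.symm))
  exact gen y (f.asFiber y) (f.fiberι_asFiber y) ⟨hb⟩ h.1 hinv

end GrothLib.ArtCrit20

end
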