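import Groth.Agent.Lib.ArtCrit20.Crit
import Groth.Agent.Lib.DualFree20.IndexLocal
import Groth.Agent.S18705

/-!
# Lifts of the reflexive powers of the canonical sheaf of a fibre
-/

set_option autoImplicit false
set_option linter.all false
set_option backward.isDefEq.respectTransparency false
set_option maxHeartbeats 1600000

universe u

open CategoryTheory CategoryTheory.Limits AlgebraicGeometry TopologicalSpace IsLocalRing
open scoped TensorProduct

noncomputable section

namespace GrothLib.ArtCrit20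

open GrothLib.OX GrothLib.RightAdj22 GrothLib.DualFree20

variable {X S : Scheme.{u}}

/-- Depth at a generisation is at least the depth along an ideal in its prime. -/
theorem le_depth_pt [IsLocallyNoetherian X] {G : X.Modules} (hG : Coh.IsCoh G) (y : X)
    (q : PrimeSpectrum (X.presheaf.stalk y)) (J : Ideal (X.presheaf.stalk y)) (hq : J ≤ q.asIdeal) :
    LocCoh.idealDepth J (G.presheaf.stalk y) ≤
      LocCoh.depth (X.presheaf.stalk (pt y q)) (G.presheaf.stalk (pt y q)) := by
  haveI := hG.1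
  obtain ⟨W, hW, hyW, -⟩ := exists_isAffineOpen_mem_and_subset (show y ∈ (⊤ : X.Opens) from trivial)
  let P : PrimeSpectrum Γ(X, W) := PrimeSpectrum.comap (X.presheaf.germ W y hyW).hom q
  have hxP : pt y q = hW.fromSpec P := by
    unfold pt
    rw [← hW.fromSpecStalk_eq_fromSpecStalk hyW]
    rfl
  let x := hW.fromSpec P
  have hxW : x ∈ W := WeakAss.fromSpec_mem hW P
  let Γ₀ := Γ(X, W)
  let C := X.presheaf.stalk y
  let O := X.presheaf.stalk x
  let M := G.presheaf.stalk y
  let T := Localization.AtPrime q.asIdeal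
  let MQ := LocalizedModule q.asIdeal.primeCompl M
  letI : Algebra Γ₀ C := X.presheaf.algebra_section_stalk ⟨y, hyW⟩
  letI : Module Γ₀ M := Module.compHom _ (X.presheaf.germ W y hyW).hom
  haveI : IsLocalization (WeakAss.primeAt y hyW).primeCompl C := GrothLib.FlatFP.isLocalization_stalk_primeAt hW hyW
  haveI : IsScalarTower Γ₀ C M := IsScalarTower.of_algebraMap_smul fun _ _ => rfl
  obtain ⟨g, hg, -⟩ := FlatFP.isLocalizedModule_germ G hW hyW
  haveI := hg
  letI : Algebra Γ₀ O := X.presheaf.algebra_section_stalk ⟨x, hxW⟩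
  letI : Module Γ₀ (G.presheaf.stalk x) := Module.compHom _ (X.presheaf.germ W x hxW).hom
  haveI : IsScalarTower Γ₀ O (G.presheaf.stalk x) := IsScalarTower.of_algebraMap_smul fun _ _ => rfl
  obtain ⟨gx, hgx, -⟩ := FlatFP.isLocalizedModule_germ G hW hxW
  haveI := hgx
  have hP : WeakAss.primeAt x hxW = q.asIdeal.comap (algebraMap Γ₀ C) := WeakAss.primeAt_fromSpec hW P hxW
  haveI : IsLocalization (WeakAss.primeAt x hxW).primeCompl O := GrothLib.FlatFP.isLocalization_stalk_primeAt hW hxW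
  haveI : IsLocalization.AtPrime T (q.asIdeal.comap (algebraMap Γ₀ C)) :=
    IsLocalization.isLocalization_isLocalization_atPrime_isLocalization (WeakAss.primeAt y hyW).primeCompl T q.asIdeal
  haveI : IsScalarTower Γ₀ T MQ := IsScalarTower.of_algebraMap_smul fun r m => by
    rw [IsScalarTower.algebraMap_apply Γ₀ C T, algebraMap_smul, algebraMap_smul]
  let f : Γ(G, W) →ₗ[Γ₀] MQ := (LocalizedModule.mkLinearMap q.asIdeal.primeCompl M).restrictScalars Γ₀ ∘ₗ g
  haveI : IsLocalizedModule (q.asIdeal.comap (algebraMap Γ₀ C)).primeCompl f := by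
    refine (isLocalizedModule_iff_isBaseChange _ T f).2 ?_
    exact (IsLocalizedModule.isBaseChange (WeakAss.primeAt y hyW).primeCompl C g).comp
      (IsLocalizedModule.isBaseChange q.asIdeal.primeCompl T _)
  haveI : IsLocalizedModule (q.asIdeal.comap (algebraMap Γ₀ C)).primeCompl gx :=
    (congrArg (fun (I : Submonoid Γ₀) => IsLocalizedModule I gx)
      (show (WeakAss.primeAt x hxW).primeCompl = (q.asIdeal.comap (algebraMap Γ₀ C)).primeCompl by
        ext a; show a ∉ WeakAss.primeAt x hxW ↔ a ∉ q.asIdeal.comap (algebraMap Γ₀ C); rw [hP])).mp hgx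
  haveI : IsLocalization (q.asIdeal.comap (algebraMap Γ₀ C)).primeCompl O :=
    (congrArg (fun (I : Submonoid Γ₀) => IsLocalization I O)
      (show (WeakAss.primeAt x hxW).primeCompl = (q.asIdeal.comap (algebraMap Γ₀ C)).primeCompl by
        ext a; show a ∉ WeakAss.primeAt x hxW ↔ a ∉ q.asIdeal.comap (algebraMap Γ₀ C); rw [hP])).mp inferInstance
  let S₀ := (q.asIdeal.comap (algebraMap Γ₀ C)).primeCompl
  let e : G.presheaf.stalk x ≃ₗ[Γ₀] MQ :=
    (IsLocalizedModule.iso S₀ gx).symm.trans (IsLocalizedModule.iso S₀ f)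
  let σ : O ≃ₐ[Γ₀] T := IsLocalization.algEquiv S₀ _ _
  have he : ∀ (r : O) (m : G.presheaf.stalk x), e (r • m) = σ r • e m := fun r m => by
    obtain ⟨a, s, rfl⟩ := IsLocalization.exists_mk'_eq S₀ r
    apply ((IsLocalization.map_units T s).smul_left_cancel).1
    have h1 : algebraMap Γ₀ O (s : Γ₀) * IsLocalization.mk' O a s = algebraMap Γ₀ O a := IsLocalization.mk'_spec' _ a s
    calc algebraMap Γ₀ T s • e (IsLocalization.mk' O a s • m)
        = (s : Γ₀) • e (IsLocalization.mk' O a s • m) := algebraMap_smul _ _ _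
      _ = e ((s : Γ₀) • IsLocalization.mk' O a s • m) := (e.map_smul _ _).symm
      _ = e (a • m) := by rw [← algebraMap_smul O (s : Γ₀) (IsLocalization.mk' O a s • m), smul_smul, h1,
            algebraMap_smul]
      _ = a • e m := e.map_smul _ _
      _ = σ (algebraMap Γ₀ O a) • e m := by rw [σ.commutes, algebraMap_smul]
      _ = _ := by rw [← h1, map_mul, σ.commutes, mul_smul]
  haveI : Module.Finite C M := QuasiFlat.finite_stalk G hG y
  rw [hxP]
  refine (GrothLib.Depth.idealDepth_le_localization _ q.asIdeal hq).trans (le_of_eq ?_)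
  exact (GrothLib.SkExt.depth_congr_semilinear σ.toRingEquiv e.toAddEquiv he).symm

/-- The reduction of a stalk is the stalk on the fibre. -/
theorem exists_fibre_stalk_equiv (f : X ⟶ S) (G : X.Modules) (s : S) (z : f.fiber s) :
    ∃ (θ : (X.presheaf.stalk (f.fiberι s z) ⧸ (maximalIdeal (S.presheaf.stalk (f (f.fiberι s z)))).map
          (f.stalkMap (f.fiberι s z)).hom) ≃+* (f.fiber s).presheaf.stalk z)
      (e : (G.presheaf.stalk (f.fiberι s z) ⧸ ((maximalIdeal (S.presheaf.stalk (f (f.fiberι s z)))).map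
          (f.stalkMap (f.fiberι s z)).hom • ⊤ : Submodule (X.presheaf.stalk (f.fiberι s z)) (G.presheaf.stalk (f.fiberι s z)))) ≃+
        ((Scheme.Modules.pullback (f.fiberι s)).obj G).presheaf.stalk z),
      ∀ b x, e (b • x) = θ b • e x := by
  obtain ⟨hsurj, hker⟩ := FibreFlat.fiberι_stalkMap f s z
  let B := X.presheaf.stalk (f.fiberι s z)
  let Q := (f.fiber s).presheaf.stalk z
  let M := G.presheaf.stalk (f.fiberι s z)
  let I : Ideal B := (maximalIdeal (S.presheaf.stalk (f (f.fiberι s z)))).map (f.stalkMap (f.fiberι s z)).hom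
  letI : Algebra B Q := ((f.fiberι s).stalkMap z).hom.toAlgebra
  let θ : (B ⧸ I) ≃+* Q := (Ideal.quotEquivOfEq hker.symm).trans (RingHom.quotientKerEquivOfSurjective hsurj)
  have hθ : ∀ b : B, θ (Ideal.Quotient.mk I b) = algebraMap B Q b := fun b => rfl
  let θl : (B ⧸ I) ≃ₗ[B] Q :=
    { θ with
      map_smul' := fun b w => by
        obtain ⟨c, rfl⟩ := Ideal.Quotient.mk_surjective w
        show θ (Ideal.Quotient.mk I (b * c)) = b • θ (Ideal.Quotient.mk I c)
        rw [hθ, hθ, map_mul, Algebra.smul_def] }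
  let el : ((Scheme.Modules.pullback (f.fiberι s)).obj G).presheaf.stalk z ≃ₗ[Q] Q ⊗[B] M :=
    ((OX.pullStalkIso (f.fiberι s) z).app G).toLinearEquiv
  let e : (M ⧸ (I • ⊤ : Submodule B M)) ≃ₗ[B] Q ⊗[B] M :=
    (TensorProduct.quotTensorEquivQuotSMul M I).symm.trans (TensorProduct.congr θl (LinearEquiv.refl B M))
  refine ⟨θ, e.toAddEquiv.trans el.symm.toAddEquiv, fun b x => ?_⟩
  obtain ⟨c, rfl⟩ := Ideal.Quotient.mk_surjective b
  show el.symm (e (c • x)) = θ (Ideal.Quotient.mk I c) • el.symm (e x)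
  rw [map_smul, hθ, ← map_smul el.symm, algebraMap_smul]

variable {A : Type u} [CommRing A] [IsNoetherianRing A] {Y : Scheme.{u}} [Y.Over (Spec (CommRingCat.of A))]
  [IsProper (Y ↘ Spec (CommRingCat.of A))]

/-- **Lifts of reflexive powers on a fibre give relative `(S₂)`.** -/
theorem relSkAt_of_lifts (d : ℕ)
    (hS : RelCanon.IsSkMor (Y ↘ Spec (CommRingCat.of A)) 2) (hd : Cyc.HasRelDim (Y ↘ Spec (CommRingCat.of A)) d)
    (ω : Y.Modules) (hω : RelCanon.IsDualizingSheaf A Y d ω)
    (Yo : Y.Opens) (hYo : (Yo : Set Y) = RelCanon.gorLocus (Y ↘ Spec (CommRingCat.of A)))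
    (y : Y)
    (ωy : ((Y ↘ Spec (CommRingCat.of A)).fiber ((Y ↘ Spec (CommRingCat.of A)) y)).Modules)
    (hωy : @RelCanon.IsDualizingSheaf ((Spec (CommRingCat.of A)).residueField ((Y ↘ Spec (CommRingCat.of A)) y)) _
      ((Y ↘ Spec (CommRingCat.of A)).fiber ((Y ↘ Spec (CommRingCat.of A)) y))
      ⟨(Y ↘ Spec (CommRingCat.of A)).fiberToSpecResidueField ((Y ↘ Spec (CommRingCat.of A)) y)⟩ d ωy)
    (hG1 : ∀ x : Y, (Y ↘ Spec (CommRingCat.of A)) x = (Y ↘ Spec (CommRingCat.of A)) y → x ∉ Yo →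
      (2 : WithBot ℕ∞) ≤ ringKrullDim (((Y ↘ Spec (CommRingCat.of A)).fiber
        ((Y ↘ Spec (CommRingCat.of A)) x)).presheaf.stalk ((Y ↘ Spec (CommRingCat.of A)).asFiber x)))
    (M : ℕ → Y.Modules) (hMc : ∀ m : ℕ, 1 ≤ m → Coh.IsCoh (M m))
    (hMt : ∀ m : ℕ, 1 ≤ m →
      Nonempty ((Scheme.Modules.pullback ((Y ↘ Spec (CommRingCat.of A)).fiberι ((Y ↘ Spec (CommRingCat.of A)) y))).obj (M m) ≅
        RelCanon.refPowZ ωy m))
    (hMo : ∀ m : ℕ, 1 ≤ m → Nonempty ((M m).restrict Yo.ι ≅ CohB1.tensorPow (ω.restrict Yo.ι) m))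
    (m : ℕ) : RelCanon.RelSkAt (Y ↘ Spec (CommRingCat.of A)) 2 (RelCanon.refPowZ ω m) y := by
  classical
  let f := Y ↘ Spec (CommRingCat.of A)
  haveI : Flat f := hS.1
  haveI : LocallyOfFiniteType f := hS.2.1
  haveI : IsLocallyNoetherian Y := LocallyOfFiniteType.isLocallyNoetherian f
  haveI : IsIso (Spec.map (CommRingCat.ofHom (RingHom.id A))) := by rw [CommRingCat.ofHom_id, Spec.map_id]; infer_instance
  obtain ⟨hωc, -, U, hbc, hU⟩ := exists_bcOn_gor d hS hd ω hω A (RingHom.id A) Y (𝟙 Y)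
    (IsPullback.of_horiz_isIso ⟨by simp⟩) ω hω
  have hYoi : PicF.IsInvertible (ω.restrict Yo.ι) := isInvertible_restrict_of_invertibleAt Yo fun x hx =>
    invertibleAt_of_restrict U hbc.1 x (hU x (by rw [← SetLike.mem_coe, hYo] at hx; exact hx))
  have hti := PerfLim10.isInvertible_tensorPow hYoi m
  obtain ⟨eG⟩ := nonempty_refPow_restrict Yo hYoi m
  let G := RelCanon.refPowZ ω (m : ℤ)
  have hGc : Coh.IsCoh G := isCoh_refPowZ hωc m
  have hGi : PicF.IsInvertible (G.restrict Yo.ι) := ParaPair.isInvertible_of_iso eG hti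
  by_cases hy : y ∈ Yo
  · exact relSkAt_of_invertibleAt f hS hGc (invertibleAt_of_restrict Yo hGi y hy)
  rcases Nat.eq_zero_or_pos m with hm0 | hm
  · subst hm0
    have hO : PicF.IsInvertible ((Coh.structureModule Y).restrict (⊤ : Y.Opens).ι) :=
      ParaPair.isInvertible_of_iso (DualRing.restrictStructureIso _) (isInvertible_structureModule _)
    obtain ⟨e0⟩ := nonempty_ddual_restrict (⊤ : Y.Opens) hO
    exact relSkAt_of_invertibleAt f hS hGc
      (invertibleAt_of_restrict ⊤ (ParaPair.isInvertible_of_iso e0 hO) y trivial)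
  let N := M m
  have hNc : Coh.IsCoh N := hMc m hm
  obtain ⟨eN⟩ := hMo m hm
  have hNi : PicF.IsInvertible (N.restrict Yo.ι) := ParaPair.isInvertible_of_iso eN hti
  let C := Y.presheaf.stalk y
  let R := (Spec (CommRingCat.of A)).presheaf.stalk (f y)
  letI : Algebra R C := (f.stalkMap y).hom.toAlgebra
  haveI : IsLocalHom (algebraMap R C) := inferInstanceAs (IsLocalHom (f.stalkMap y).hom)
  haveI : Module.Flat R C := Flat.stalkMap f y
  let Z : Set (PrimeSpectrum C) := {q | pt y q ∉ Yo}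
  have hZ : IsClosed Z := (Yo.isOpen.preimage (Y.fromSpecStalk y).continuous).isClosed_compl
  let J : Ideal C := PrimeSpectrum.vanishingIdeal Z
  have hJq : ∀ q : PrimeSpectrum C, J ≤ q.asIdeal → pt y q ∉ Yo := fun q hq => by
    have h : q ∈ PrimeSpectrum.zeroLocus (J : Set C) := hq
    rw [PrimeSpectrum.zeroLocus_vanishingIdeal_eq_closure, hZ.closure_eq] at h
    exact h
  have hJq' : ∀ q : PrimeSpectrum C, ¬ J ≤ q.asIdeal → pt y q ∈ Yo := fun q hq => by
    by_contra h
    exact hq fun c hc => (PrimeSpectrum.mem_vanishingIdeal _ _).1 hc q h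
  have hJtop : J ≠ ⊤ := fun h => by
    have hmem : (closedPoint C) ∈ Z := by
      show pt y (closedPoint C) ∉ Yo
      rwa [show pt y (closedPoint C) = y from Scheme.fromSpecStalk_closedPoint]
    exact (maximalIdeal.isMaximal C).ne_top (top_le_iff.1 (h ▸ fun c hc =>
      (PrimeSpectrum.mem_vanishingIdeal _ _).1 hc _ hmem))
  let I : Ideal C := (maximalIdeal R).map (algebraMap R C)
  obtain ⟨θ, -, hθ, -, -⟩ := exists_closed_equiv (C := C) C
  let X₀ := Localization.AtPrime (maximalIdeal C)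
  let θq : (C ⧸ I) ≃+* EGA4.FibLocRing R C (maximalIdeal C) := Ideal.quotientEquiv _ _ θ (by
      rw [Ideal.map_map, show (maximalIdeal C).comap (algebraMap R C) = maximalIdeal R from
        IsLocalRing.maximalIdeal_comap _, show (θ : C →+* X₀).comp (algebraMap R C) = algebraMap R X₀ from
        RingHom.ext fun r => (hθ _).trans (IsScalarTower.algebraMap_apply R C X₀ r).symm])
  have hS2 := hasSk_closedFibre f hS y
  have hcodim : ∀ r : PrimeSpectrum C, J ≤ r.asIdeal →
      r.asIdeal.comap (algebraMap R C) = (maximalIdeal C).comap (algebraMap R C) →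
      (2 : WithBot ℕ∞) ≤ ringKrullDim (EGA4.FibLocRing R C r.asIdeal) := fun r hr hrm => by
    have hfx : f (pt y r) = f y := by
      show f (Y.fromSpecStalk y r) = f y
      rw [← Scheme.Hom.comp_apply, ← Scheme.SpecMap_stalkMap_fromSpecStalk, Scheme.Hom.comp_apply,
        show Spec.map (f.stalkMap y) r = closedPoint R from
          PrimeSpectrum.ext (hrm.trans (IsLocalRing.maximalIdeal_comap _))]
      exact Scheme.fromSpecStalk_closedPoint
    exact (hG1 _ hfx (hJq r hr)).trans (ringKrullDim_fibLoc_stalk f y r).ge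
  have hD : 2 ≤ LocCoh.idealDepth (J.map (Ideal.Quotient.mk I)) (C ⧸ I) := by
    have h := GrothLib.FlatOff.two_le_depth_fibLocRing (A := R) J (maximalIdeal C)
      (GrothLib.SnFibres.hasSk_congr θq hS2) hcodim
    rw [GrothLib.FiniteQuot.idealDepth_congr θq θq.toAddEquiv (fun a b => map_mul θq a b) (J.map (Ideal.Quotient.mk I)),
      Ideal.map_map, show (θq : (C ⧸ I) →+* EGA4.FibLocRing R C (maximalIdeal C)).comp (Ideal.Quotient.mk I) =
        algebraMap C (EGA4.FibLocRing R C (maximalIdeal C)) from RingHom.ext fun c => by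
          show Ideal.Quotient.mk _ (θ c) = _
          rw [hθ]; rfl]
    exact h
  have hC2 : 2 ≤ LocCoh.idealDepth J C := two_le_depth_self_of_fibre J hJtop hD
  let F := N.presheaf.stalk y
  haveI : Module.Finite C F := QuasiFlat.finite_stalk N hNc y
  letI : Module R F := Module.compHom F (f.stalkMap y).hom
  haveI : IsScalarTower R C F := IsScalarTower.of_algebraMap_smul fun _ _ => rfl
  have hFU : ∀ q : PrimeSpectrum C, ¬ J ≤ q.asIdeal →
      Module.Free (Localization.AtPrime q.asIdeal) (LocalizedModule q.asIdeal.primeCompl F) :=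
    fun q hq => free_localized_stalk hNc y q (invertibleAt_of_restrict Yo hNi _ (hJq' q hq))
  have hfib : 2 ≤ LocCoh.idealDepth (J.map (Ideal.Quotient.mk I)) (F ⧸ (I • ⊤ : Submodule C F)) := by
    have gen : ∀ (x : Y) (z : f.fiber (f y)), f.fiberι (f y) z = x → ∀ J' : Ideal (Y.presheaf.stalk x),
        2 ≤ LocCoh.idealDepth (J'.map (Ideal.Quotient.mk ((maximalIdeal ((Spec (CommRingCat.of A)).presheaf.stalk (f x))).map
          (f.stalkMap x).hom))) (Y.presheaf.stalk x ⧸ (maximalIdeal ((Spec (CommRingCat.of A)).presheaf.stalk (f x))).map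
          (f.stalkMap x).hom) →
        2 ≤ LocCoh.idealDepth (J'.map (Ideal.Quotient.mk ((maximalIdeal ((Spec (CommRingCat.of A)).presheaf.stalk (f x))).map
          (f.stalkMap x).hom))) (N.presheaf.stalk x ⧸ ((maximalIdeal ((Spec (CommRingCat.of A)).presheaf.stalk (f x))).map
          (f.stalkMap x).hom • ⊤ : Submodule (Y.presheaf.stalk x) (N.presheaf.stalk x))) := by
      intro x z hx J' hD'
      subst hx
      obtain ⟨eM⟩ := hMt m hm
      let ι := f.fiberι (f y)
      haveI : LocallyOfFiniteType (f.fiberToSpecResidueField (f y)) :=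
        MorphismProperty.pullback_snd _ _ (inferInstance : LocallyOfFiniteType f)
      haveI : IsLocallyNoetherian (f.fiber (f y)) :=
        LocallyOfFiniteType.isLocallyNoetherian (f.fiberToSpecResidueField (f y))
      have hωyc : Coh.IsCoh ωy := by
        let κ := (Spec (CommRingCat.of A)).residueField (f y)
        letI : (f.fiber (f y)).Over (Spec (CommRingCat.of κ)) := ⟨f.fiberToSpecResidueField (f y)⟩
        let φ : CommRingCat.of A ⟶ κ := Spec.preimage ((Spec (CommRingCat.of A)).fromSpecResidueField (f y))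
        have hsq : IsPullback ι ((f.fiber (f y)) ↘ Spec (CommRingCat.of κ)) f (Spec.map (CommRingCat.ofHom φ.hom)) := by
          change IsPullback ι (f.fiberToSpecResidueField (f y)) f (Spec.map φ)
          rw [Spec.map_preimage]
          exact IsPullback.of_hasPullback _ _
        exact (exists_bcOn_gor d hS hd ω hω κ φ.hom (f.fiber (f y)) ι hsq ωy hωy).2.1
      obtain ⟨θ', e', he'⟩ := exists_fibre_stalk_equiv f N (f y) z
      obtain ⟨H, hH, he⟩ := exists_ddual_refPowZ hωyc (m : ℤ)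
      let Q := (f.fiber (f y)).presheaf.stalk z
      let P := (Scheme.Modules.pullback ι).obj N
      obtain ⟨ed⟩ := nonempty_dual_stalk (isCoh_dual' hH) z
      let eq : P.presheaf.stalk z ≃ₗ[Q] Module.Dual Q ((RefHull.dual H).presheaf.stalk z) :=
        (DualFree20.stalkIso (eM ≪≫ eqToIso he) z).trans ed
      haveI : IsNoetherianRing Q := GrothLib.DimCut.isNoetherianRing_stalk_fiber f _ _
      haveI : Module.Finite Q ((RefHull.dual H).presheaf.stalk z) := QuasiFlat.finite_stalk _ (isCoh_dual' hH) z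
      haveI := GrothLib.FlatOff.finite_dual (B := Q) ((RefHull.dual H).presheaf.stalk z)
      haveI : Module.Finite Q (P.presheaf.stalk z) := Module.Finite.equiv eq.symm
      rw [GrothLib.FiniteQuot.idealDepth_congr θ' e' he', GrothLib.Depth.idealDepth_eq_of_equiv _ eq]
      refine GrothLib.FlatOff.two_le_depth_dual _ ?_ _
      rw [← GrothLib.FiniteQuot.idealDepth_congr θ' θ'.toAddEquiv (fun a b => map_mul θ' a b)]
      exact hD'
    exact gen y (f.asFiber y) (f.fiberι_asFiber y) J hD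
  have hfibC : 2 ≤ LocCoh.idealDepth J (F ⧸ (I • ⊤ : Submodule C F)) := by
    rw [← GrothLib.Depth.idealDepth_map_eq (B := C ⧸ I)]
    exact hfib
  have hflU : ∀ q : PrimeSpectrum C, ¬ J ≤ q.asIdeal → FlatCA.FlatAt R q.asIdeal F := fun q hq => by
    haveI := hFU q hq
    haveI : Module.Flat R (Localization.AtPrime q.asIdeal) :=
      haveI : Module.Flat C (Localization.AtPrime q.asIdeal) := IsLocalization.flat _ q.asIdeal.primeCompl
      Module.Flat.trans R C _
    haveI : IsScalarTower R (Localization.AtPrime q.asIdeal) (LocalizedModule q.asIdeal.primeCompl F) :=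
      IsScalarTower.of_algebraMap_smul fun r w => by
        rw [IsScalarTower.algebraMap_apply R C (Localization.AtPrime q.asIdeal), algebraMap_smul, algebraMap_smul]
    exact Module.Flat.trans R (Localization.AtPrime q.asIdeal) _
  haveI hFflat : Module.Flat R F := Groth.Agent.S18705.result R C J F hflU
    ((one_le_two).trans (by exact_mod_cast hfibC))
  have hGood : Good 2 (f.stalkMap y).hom F := ⟨hFflat,
    GrothLib.FlatOff.hasSk_two_of_depth _ J (fun Q hQ hJQ => by
      haveI := hFU ⟨Q, hQ⟩ hJQ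
      obtain ⟨k, α, β, s, hs⟩ := GrothLib.FreeOff.exists_factor_of_free (B := C) F Q
      exact ⟨k, α, β, s, s.2, hs⟩) hS2 hfib⟩
  have hF2 : 2 ≤ LocCoh.idealDepth J F := by
    rcases subsingleton_or_nontrivial F with hs | hn
    · rw [LocCoh.idealDepth, if_pos (eq_top_iff.2 fun z _ => by rw [Subsingleton.elim z 0]; exact zero_mem _)]
      exact le_top
    have hle : I ≤ maximalIdeal C := Ideal.map_le_iff_le_comap.2 (IsLocalRing.maximalIdeal_comap (algebraMap R C)).ge
    have hjac : ∀ K : Ideal C, K ≠ ⊤ → K ≤ Ideal.jacobson ⊥ := fun K hK => by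
      rw [IsLocalRing.jacobson_eq_maximalIdeal ⊥ bot_ne_top]; exact IsLocalRing.le_maximalIdeal hK
    have hne' : J • (⊤ : Submodule C F) ≠ ⊤ := fun h => (bot_ne_top : (⊥ : Submodule C F) ≠ ⊤)
      (Submodule.eq_bot_of_le_smul_of_le_jacobson_bot J ⊤ (Module.Finite.fg_top (R := C) (M := F)) (by rw [h])
        (hjac J hJtop)).symm
    haveI : Nontrivial (F ⧸ (I • ⊤ : Submodule C F)) :=
      Submodule.Quotient.nontrivial_iff.2 fun h => (bot_ne_top : (⊥ : Submodule C F) ≠ ⊤)
        (Submodule.eq_bot_of_le_smul_of_le_jacobson_bot I ⊤ (Module.Finite.fg_top (R := C) (M := F)) (by rw [h])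
          (hjac I (ne_top_of_le_ne_top (maximalIdeal.isMaximal C).ne_top hle))).symm
    have hne : J • (⊤ : Submodule C (F ⧸ (I • ⊤ : Submodule C F))) ≠ ⊤ := fun h =>
      (bot_ne_top : (⊥ : Submodule C (F ⧸ (I • ⊤ : Submodule C F))) ≠ ⊤)
      (Submodule.eq_bot_of_le_smul_of_le_jacobson_bot J ⊤ (Module.Finite.fg_top (R := C)
        (M := F ⧸ (I • ⊤ : Submodule C F))) (by rw [h]) (hjac J hJtop)).symm
    obtain ⟨rs, hlen, hmem, hreg⟩ := (GrothLib.Depth.le_idealDepth_iff_exists J hne 2).1 (by exact_mod_cast hfibC)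
    exact (GrothLib.Depth.le_idealDepth_iff_exists J hne' 2).2 ⟨rs, hlen, hmem,
      GrothLib.DimCut.isWeaklyRegular_of_fibre (A := R) rs F hreg⟩
  have hG2 : 2 ≤ LocCoh.idealDepth J (G.presheaf.stalk y) := by
    obtain ⟨H, hH, he⟩ := exists_ddual_refPowZ hωc (m : ℤ)
    obtain ⟨ed⟩ := nonempty_dual_stalk (isCoh_dual' hH) y
    haveI : Module.Finite C ((RefHull.dual H).presheaf.stalk y) := QuasiFlat.finite_stalk _ (isCoh_dual' hH) y
    haveI := GrothLib.FlatOff.finite_dual (B := C) ((RefHull.dual H).presheaf.stalk y)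
    haveI : Module.Finite C (G.presheaf.stalk y) := QuasiFlat.finite_stalk G hGc y
    rw [GrothLib.Depth.idealDepth_eq_of_equiv _ ((DualFree20.stalkIso (eqToIso he) y).trans ed)]
    exact GrothLib.FlatOff.two_le_depth_dual _ hC2 _
  let j := Y.fromSpecStalk y
  haveI : IsLocallyNoetherian (Spec C) := inferInstance
  obtain ⟨pn⟩ := AlmostAmple24.nonempty_pullback_restrict j Yo N
  obtain ⟨pg⟩ := AlmostAmple24.nonempty_pullback_restrict j Yo G
  have hdep : ∀ (P : Y.Modules), Coh.IsCoh P → 2 ≤ LocCoh.idealDepth J (P.presheaf.stalk y) →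
      ∀ q : Spec C, q ∉ j ⁻¹ᵁ Yo → (2 : ℕ∞) ≤ LocCoh.depth ((Spec C).presheaf.stalk q)
        (((Scheme.Modules.pullback j).obj P).presheaf.stalk q) := by
    intro P hP h2 q hq
    letI := (j.stalkMap q).hom.toAlgebra
    haveI : Flat j := GrothLib.FFDesc.flat_fromSpecStalk' Y y
    rw [GrothLib.DepthAlong.depth_pullback_stalk j _ hP q]
    have hJ' : J ≤ (q : PrimeSpectrum C).asIdeal := fun c hc => (PrimeSpectrum.mem_vanishingIdeal _ _).1 hc q hq
    exact (h2.trans (le_depth_pt hP y q J hJ')).trans le_self_add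
  obtain ⟨eS⟩ := nonempty_iso_of_restrict (ModDesc.isCoh_pullback j _ hNc) (ModDesc.isCoh_pullback j _ hGc) (j ⁻¹ᵁ Yo)
    (hdep N hNc hF2) (hdep G hGc hG2)
    (pn ≪≫ (Scheme.Modules.pullback (j ∣_ Yo)).mapIso (eN ≪≫ eG.symm) ≪≫ pg.symm)
  have key : ∀ x : Y, j (closedPoint C) = x → ∀ π : Y.presheaf.stalk (j (closedPoint C)) →+* (Spec C).presheaf.stalk (closedPoint C),
      π = (j.stalkMap (closedPoint C)).hom →
      Nonempty (N.presheaf.stalk x ≃ₗ[Y.presheaf.stalk x] G.presheaf.stalk x) := by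
    intro x hx π hπ
    subst hx hπ
    let C₀ := Y.presheaf.stalk (j (closedPoint C))
    let C₁ := (Spec C).presheaf.stalk (closedPoint C)
    letI : Algebra C₀ C₁ := (j.stalkMap (closedPoint C)).hom.toAlgebra
    haveI : Flat j := GrothLib.FFDesc.flat_fromSpecStalk' Y y
    haveI : IsLocalHom (algebraMap C₀ C₁) := inferInstanceAs (IsLocalHom (j.stalkMap (closedPoint C)).hom)
    haveI : Module.Flat C₀ C₁ := Flat.stalkMap j _
    haveI : Module.FaithfullyFlat C₀ C₁ := Module.FaithfullyFlat.of_flat_of_isLocalHom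
    let β : C₀ ≃ₗ[C₀] C₁ := LinearEquiv.ofBijective (Algebra.linearMap C₀ C₁)
      ⟨FaithfulSMul.algebraMap_injective C₀ C₁, j.stalkMap_surjective _⟩
    let sN : ((Scheme.Modules.pullback j).obj N).presheaf.stalk (closedPoint C) ≃ₗ[C₁]
        C₁ ⊗[C₀] N.presheaf.stalk (j (closedPoint C)) := ((QCoh.stalkPullbackIso j (closedPoint C)).app N).toLinearEquiv
    let sG : ((Scheme.Modules.pullback j).obj G).presheaf.stalk (closedPoint C) ≃ₗ[C₁]
        C₁ ⊗[C₀] G.presheaf.stalk (j (closedPoint C)) := ((QCoh.stalkPullbackIso j (closedPoint C)).app G).toLinearEquiv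
    exact ⟨(TensorProduct.lid C₀ _).symm.trans ((TensorProduct.congr β (LinearEquiv.refl _ _)).trans
      ((((sN.symm.trans (DualFree20.stalkIso eS (closedPoint C))).trans sG).restrictScalars C₀).trans
        ((TensorProduct.congr β.symm (LinearEquiv.refl _ _)).trans (TensorProduct.lid C₀ _))))⟩
  obtain ⟨eNG⟩ := key y Scheme.fromSpecStalk_closedPoint _ rfl
  exact (relSkAt_iff_good f hGc 2 y).2 (Good.congr (RingEquiv.refl R) (RingEquiv.refl C) (fun _ => rfl)
    eNG.toAddEquiv (fun b x => eNG.map_smul b x) hGood)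

end GrothLib.ArtCrit20

end
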