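import Groth.Agent.Lib.FibPd.SkScheme
import Groth.Agent.Lib.FibPd.OpenScheme
import Groth.Agent.Lib.FlatFP.SheafFlat
import Groth.Agent.Lib.BCCoh.Flat
import Groth.Prelude.Def_RelCanon

/-!
# The relative `(S_k)` locus of a coherent module is open
-/

set_option autoImplicit false
set_option linter.all false
set_option maxHeartbeats 1000000
set_option backward.isDefEq.respectTransparency false
universe u

open TensorProduct Function IsLocalRing CategoryTheory AlgebraicGeometry Topology TopologicalSpace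

namespace GrothLib.ArtCrit20

open GrothLib.FibPd

variable {X Y : Scheme.{u}} (f : X ⟶ Y) [LocallyOfFinitePresentation f] (F : X.Modules)

/-- The relative `(S_k)` locus is open. -/
theorem isOpen_relSkAt (hF : CohB1.IsFP F) (k : ℕ) : IsOpen {x : X | RelCanon.RelSkAt f k F x} := by
  haveI := isQuasicoherent_of_isFP hF
  refine isOpen_iff_forall_mem_open.mpr fun x₀ hx₀ => ?_
  let U : X.Opens := ⟨{x : X | FlatMod.IsFlatOverAt f F x}, GrothLib.FlatFP.isOpen_flatLocus f F hF⟩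
  obtain ⟨V, hV, hxV, -⟩ := exists_isAffineOpen_mem_and_subset (show f x₀ ∈ (⊤ : Y.Opens) from trivial)
  obtain ⟨W, hW, hxW, hWU⟩ := exists_isAffineOpen_mem_and_subset (show x₀ ∈ U ⊓ f ⁻¹ᵁ V from ⟨hx₀.1, hxV⟩)
  have e : W ≤ f ⁻¹ᵁ V := fun w hw => (hWU hw).2
  obtain ⟨n, π, hπ, hπfg, hπA⟩ := exists_presentation f hV hW e
  letI : Algebra (Pol Γ(Y, V) n) Γ(X, W) := π.toAlgebra
  letI := polModule π Γ(F, W)
  haveI : IsScalarTower (Pol Γ(Y, V) n) Γ(X, W) Γ(F, W) := IsScalarTower.of_algebraMap_smul fun _ _ => rfl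
  haveI : Module.FinitePresentation (Pol Γ(Y, V) n) Γ(X, W) :=
    Module.finitePresentation_of_surjective (Algebra.linearMap (Pol Γ(Y, V) n) Γ(X, W)) hπ hπfg
  haveI := GrothLib.FlatFP.finitePresentation_sections F hF hW
  haveI : Module.FinitePresentation (Pol Γ(Y, V) n) Γ(F, W) :=
    Module.FinitePresentation.trans (Pol Γ(Y, V) n) Γ(F, W) Γ(X, W)
  letI : Algebra Γ(Y, V) Γ(X, W) := (f.appLE V W e).hom.toAlgebra
  letI : Module Γ(Y, V) Γ(F, W) := Module.compHom _ (f.appLE V W e).hom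
  haveI : IsScalarTower Γ(Y, V) Γ(X, W) Γ(F, W) := IsScalarTower.of_algebraMap_smul fun _ _ => rfl
  haveI : IsScalarTower Γ(Y, V) (Pol Γ(Y, V) n) Γ(F, W) := IsScalarTower.of_algebraMap_smul fun a m => by
    show π (algebraMap Γ(Y, V) (Pol Γ(Y, V) n) a) • m = (f.appLE V W e).hom a • m
    rw [MvPolynomial.algebraMap_eq, ← hπA]
    rfl
  haveI : Module.Flat Γ(Y, V) Γ(F, W) := by
    refine Module.flat_of_isLocalized_maximal Γ(X, W) Γ(F, W)
      (fun P _ => LocalizedModule P.primeCompl Γ(F, W)) (fun P _ => LocalizedModule.mkLinearMap _ _)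
      fun P hP => ?_
    obtain ⟨x, hx, hxP⟩ := AssPts.exists_point hW P hP.isPrime
    exact FlatFP.flat_localized_prime_congr hxP
      ((FlatFP.isFlatOverAt_iff f F hV hW e hx rfl).mp (hWU hx).1)
  refine ⟨_ ∩ (W : Set X), Set.inter_subset_left,
    isOpen_inter_chart hW π (isOpen_skGood (M := Γ(F, W)) k) fun x => ?_, hx₀, hxW⟩
  have hz : f.fiberι (f x.1) (f.asFiber x.1) ∈ W := by rw [f.fiberι_asFiber]; exact x.2
  have h1 := fibre_stalk_hasSk f hV hW e π hπ hπA Γ(F, W) _ _ hz _ (exists_isBaseChange_fibStalk f hW F _ _ hz) k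
  rw [chartPt_asFiber f hW π x hz] at h1
  rw [Set.mem_setOf_eq]
  exact Iff.trans (and_iff_right (hWU x.2).1) h1

end GrothLib.ArtCrit20
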