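import Groth.Agent.Lib.ArtCrit20.Dvr
import Groth.Agent.Lib.ArtCrit20.Invert
import Groth.Agent.Lib.ArtCrit20.SkOpen
import Groth.Agent.Lib.FMK22.SerreDual
import Groth.Agent.Lib.Ref1.Tensor
import Groth.Agent.Lib.DualFree20.IndexLocal
import Groth.Agent.Lib.FibReg5.Basic

/-!
# Periodicity of reflexive powers near an invertible one
-/

set_option autoImplicit false
set_option linter.all false
set_option backward.isDefEq.respectTransparency false
set_option maxHeartbeats 1600000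

universe u

open CategoryTheory CategoryTheory.Limits AlgebraicGeometry TopologicalSpace IsLocalRing
open scoped TensorProduct

noncomputable section

namespace GrothLib.ArtCrit20

open GrothLib.OX GrothLib.RightAdj22 GrothLib.DualFree20

section Inv

variable {X : Scheme.{u}} {L : X.Modules}

/-- Cancelling powers of the dual. -/
theorem nonempty_dualPow_tensor (hL : PicF.IsInvertible L) (L' : X.Modules)
    (h : Nonempty (CohB1.tensorMod L L' ≅ Coh.structureModule X)) (n c : ℕ) :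
    Nonempty (CohB1.tensorMod (CohB1.tensorPow L' n) (CohB1.tensorPow L (n + c)) ≅ CohB1.tensorPow L c) := by
  obtain ⟨hn, ⟨e⟩⟩ := GrothLib.FMK22.nonempty_tensorPow_inverse hL h n
  have hLn := Ample.isInvertible_tensorPow hL n
  have hLc := Ample.isInvertible_tensorPow hL c
  have hLnc := Ample.isInvertible_tensorPow hL (n + c)
  refine (Cube.clsMod_eq_iff (Ample.isInvertible_tensorMod hn hLnc) hLc).1 ?_
  have h1 : Cube.clsMod hLn * Cube.clsMod hn = 1 := by
    rw [← Cube.clsMod_tensorMod hLn hn]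
    exact (Cube.clsMod_eq_one_iff _).2 ⟨e⟩
  rw [Cube.clsMod_tensorMod hn hLnc, Cube.clsMod_tensorPow hL (n + c), pow_add, ← Cube.clsMod_tensorPow hL n,
    ← Cube.clsMod_tensorPow hL c, ← mul_assoc, mul_comm (Cube.clsMod hn), h1, one_mul]

end Inv

section Per

variable {A : Type u} [CommRing A] [IsNoetherianRing A] {Y : Scheme.{u}} [Y.Over (Spec (CommRingCat.of A))]
  [IsProper (Y ↘ Spec (CommRingCat.of A))]

/-- **Periodicity**: next to an invertible reflexive power the local rings see only finitely many powers. -/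
theorem nonempty_stalk_periodic (d : ℕ)
    (hS : RelCanon.IsSkMor (Y ↘ Spec (CommRingCat.of A)) 2) (hd : Cyc.HasRelDim (Y ↘ Spec (CommRingCat.of A)) d)
    (ω : Y.Modules) (hω : RelCanon.IsDualizingSheaf A Y d ω)
    (hG : ∀ y : Y, y ∉ RelCanon.gorLocus (Y ↘ Spec (CommRingCat.of A)) →
      (2 : WithBot ℕ∞) ≤ ringKrullDim (((Y ↘ Spec (CommRingCat.of A)).fiber
        ((Y ↘ Spec (CommRingCat.of A)) y)).presheaf.stalk ((Y ↘ Spec (CommRingCat.of A)).asFiber y)))
    (r : ℕ) (hr : 0 < r) (z : Y) (hz : RelCanon.InvertibleAt (RelCanon.refPowZ ω r) z) (m : ℤ) :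
    ∃ j : ℕ, j < r ∧ Nonempty ((RelCanon.refPowZ ω m).presheaf.stalk z ≃ₗ[Y.presheaf.stalk z]
      (RelCanon.refPowZ ω (j : ℤ)).presheaf.stalk z) := by
  let f := Y ↘ Spec (CommRingCat.of A)
  haveI : Flat f := hS.1
  haveI : LocallyOfFiniteType f := hS.2.1
  haveI : IsLocallyNoetherian Y := LocallyOfFiniteType.isLocallyNoetherian f
  haveI : IsIso (Spec.map (CommRingCat.ofHom (RingHom.id A))) := by rw [CommRingCat.ofHom_id, Spec.map_id]; infer_instance
  obtain ⟨hωc, -, U, hbc, hU2⟩ := exists_bcOn d hS hd ω hω hG A (RingHom.id A) Y (𝟙 Y)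
    (IsPullback.of_horiz_isIso ⟨by simp⟩) ω hω
  have hdep : ∀ x, x ∉ U → (2 : ℕ∞) ≤ LocCoh.depth (Y.presheaf.stalk x) (Y.presheaf.stalk x) := fun x hx =>
    two_le_depth_of_fibre f hS x (hU2 x hx)
  let G : ℤ → Y.Modules := fun k => RelCanon.refPowZ ω k
  have hGc : ∀ k, Coh.IsCoh (G k) := fun k => isCoh_refPowZ hωc k
  have hGi : ∀ k, PicF.IsInvertible ((G k).restrict U.ι) := fun k => (hbc.refPowZ hωc hωc k).1
  have hrefl : ∀ k, Module.IsReflexive (Y.presheaf.stalk z) ((G k).presheaf.stalk z) := by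
    intro k
    obtain ⟨-, hdata⟩ := exists_local_data_int d hS hd ω hω hG z k
    rcases hdata with hi | ⟨J, -, hrefl, -⟩
    · obtain ⟨t⟩ := nonempty_stalk_equiv_of_invertibleAt hi
      exact Module.equiv t
    · exact hrefl
  have step : ∀ a b c : ℤ,
      Nonempty (CohB1.tensorMod ((G a).restrict U.ι) ((G b).restrict U.ι) ≅ (G c).restrict U.ι) →
      Nonempty (Y.presheaf.stalk z ≃ₗ[Y.presheaf.stalk z] (G b).presheaf.stalk z) →
      Nonempty ((G c).presheaf.stalk z ≃ₗ[Y.presheaf.stalk z] (G a).presheaf.stalk z) := by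
    rintro a b c ⟨e⟩ ⟨t⟩
    let L := CohB1.tensorMod (G a) (G b)
    have hLc : Coh.IsCoh L := isCoh_tensorMod' (hGc a) (hGc b)
    let eL : L.restrict U.ι ≅ (G c).restrict U.ι :=
      (Scheme.Modules.restrictFunctorIsoPullback U.ι).app L ≪≫ OX.pullTensorIso U.ι (G a) (G b) ≪≫
        Ample.LineData.tensorModMapIso ((Scheme.Modules.restrictFunctorIsoPullback U.ι).app (G a)).symm
          ((Scheme.Modules.restrictFunctorIsoPullback U.ι).app (G b)).symm ≪≫ e
    obtain ⟨ed⟩ := nonempty_ddual_restrict U (ParaPair.isInvertible_of_iso eL (hGi c))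
    obtain ⟨H, hH, heH⟩ := exists_ddual_refPowZ hωc c
    obtain ⟨φ⟩ := nonempty_iso_of_restrict (isCoh_ddual' hLc) (hGc c) U (fun x hx => two_le_depth_ddual hLc x (hdep x hx))
      (fun x hx => by
        show (2 : ℕ∞) ≤ LocCoh.depth (Y.presheaf.stalk x) ((RelCanon.refPowZ ω c).presheaf.stalk x)
        rw [heH]; exact two_le_depth_ddual hH x (hdep x hx))
      (ed ≪≫ eL)
    obtain ⟨es⟩ := nonempty_ddual_stalk hLc z
    let τ : L.presheaf.stalk z ≃ₗ[Y.presheaf.stalk z] (G a).presheaf.stalk z :=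
      (GrothLib.Ref1.tensorStalk (G a) (G b) z).trans
        ((TensorProduct.congr (LinearEquiv.refl _ _) t.symm).trans (TensorProduct.rid _ _))
    haveI := hrefl a
    exact ⟨((DualFree20.stalkIso φ z).symm.trans es).trans (τ.dualMap.dualMap.trans (Module.evalEquiv _ _).symm)⟩
  have hωi : PicF.IsInvertible (ω.restrict U.ι) := hbc.1
  obtain ⟨t₀⟩ := nonempty_stalk_equiv_of_invertibleAt hz
  have hpos : ∀ a b : ℕ, Nonempty (CohB1.tensorMod ((G a).restrict U.ι) ((G b).restrict U.ι) ≅ (G (a + b : ℕ)).restrict U.ι) := by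
    intro a b
    obtain ⟨ea⟩ := nonempty_refPow_restrict U hωi a
    obtain ⟨eb⟩ := nonempty_refPow_restrict U hωi b
    obtain ⟨ec⟩ := nonempty_refPow_restrict U hωi (a + b)
    obtain ⟨sp⟩ := Snapper.nonempty_tensorPow_add (ω.restrict U.ι) a b
    exact ⟨Ample.LineData.tensorModMapIso ea eb ≪≫ sp.symm ≪≫ ec.symm⟩
  have hmult : ∀ k : ℕ, 0 < k → Nonempty (Y.presheaf.stalk z ≃ₗ[Y.presheaf.stalk z] (G (k * r : ℕ)).presheaf.stalk z) := by
    intro k hk
    induction k, hk using Nat.le_induction with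
    | base => rw [Nat.succ_eq_add_one, zero_add, one_mul]; exact ⟨t₀⟩
    | succ k _ ih =>
      obtain ⟨t⟩ := ih
      obtain ⟨s⟩ := step (k * r : ℕ) (r : ℕ) (k * r + r : ℕ) (hpos _ _) ⟨t₀⟩
      rw [Nat.succ_mul]
      exact ⟨t.trans s.symm⟩
  have hnat : ∀ n : ℕ, ∃ j, j < r ∧
      Nonempty ((G n).presheaf.stalk z ≃ₗ[Y.presheaf.stalk z] (G (j : ℤ)).presheaf.stalk z) := by
    intro n
    induction n using Nat.strong_induction_on with
    | _ n ih =>
      by_cases hn : n < r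
      · exact ⟨n, hn, ⟨LinearEquiv.refl _ _⟩⟩
      obtain ⟨a, rfl⟩ : ∃ a, n = a + r := ⟨n - r, by omega⟩
      obtain ⟨s⟩ := step (a : ℕ) (r : ℕ) (a + r : ℕ) (hpos _ _) ⟨t₀⟩
      obtain ⟨j, hj, ⟨s'⟩⟩ := ih a (by omega)
      exact ⟨j, hj, ⟨s.trans s'⟩⟩
  cases m with
  | ofNat n => exact hnat n
  | negSucc n =>
    obtain ⟨c, hc⟩ : ∃ c, (n + 1) * r = n + 1 + c := ⟨(n + 1) * r - (n + 1), by
      have : n + 1 ≤ (n + 1) * r := Nat.le_mul_of_pos_right _ hr
      omega⟩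
    obtain ⟨dω⟩ := nonempty_dual_restrict hωc U hωi
    have hdi : PicF.IsInvertible ((RefHull.dual ω).restrict U.ι) :=
      ParaPair.isInvertible_of_iso dω (isInvertible_dual_of hωi)
    obtain ⟨ea⟩ := nonempty_refPow_restrict U hdi (n + 1)
    obtain ⟨eb⟩ := nonempty_refPow_restrict U hωi (n + 1 + c)
    obtain ⟨ec⟩ := nonempty_refPow_restrict U hωi c
    obtain ⟨-, ⟨i⟩⟩ := PBDeg.exists_dual_inverse hωi
    obtain ⟨di⟩ := DualTensor11.nonempty_dual_iso_iHom (LocFreeHom.isFinLocFree_of_isInvertible hωi)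
    obtain ⟨q⟩ := nonempty_dualPow_tensor hωi ((RefHull.dual ω).restrict U.ι)
      ⟨Ample.LineData.tensorModMapIso (Iso.refl _) (dω ≪≫ di) ≪≫ i⟩ (n + 1) c
    obtain ⟨t⟩ := hmult (n + 1) (by omega)
    rw [hc] at t
    obtain ⟨s⟩ := step (Int.negSucc n) (n + 1 + c : ℕ) (c : ℕ)
      ⟨Ample.LineData.tensorModMapIso ea eb ≪≫ q ≪≫ ec.symm⟩ ⟨t⟩
    obtain ⟨j, hj, ⟨s'⟩⟩ := hnat c
    exact ⟨j, hj, ⟨s.symm.trans s'⟩⟩

/-- All reflexive powers are relatively `(S_2)` near a point as soon as finitely many of them are. -/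
theorem isQGorMorWithAt_of_finitely_many (d : ℕ)
    (hS : RelCanon.IsSkMor (Y ↘ Spec (CommRingCat.of A)) 2) (hd : Cyc.HasRelDim (Y ↘ Spec (CommRingCat.of A)) d)
    (ω : Y.Modules) (hω : RelCanon.IsDualizingSheaf A Y d ω)
    (hG : ∀ y : Y, y ∉ RelCanon.gorLocus (Y ↘ Spec (CommRingCat.of A)) →
      (2 : WithBot ℕ∞) ≤ ringKrullDim (((Y ↘ Spec (CommRingCat.of A)).fiber
        ((Y ↘ Spec (CommRingCat.of A)) y)).presheaf.stalk ((Y ↘ Spec (CommRingCat.of A)).asFiber y)))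
    (r : ℕ) (hr : 0 < r) (y : Y) (hy : RelCanon.InvertibleAt (RelCanon.refPowZ ω r) y)
    (h : ∀ j : ℕ, j < r → RelCanon.RelSkAt (Y ↘ Spec (CommRingCat.of A)) 2 (RelCanon.refPowZ ω j) y) :
    RelCanon.IsQGorMorWithAt (Y ↘ Spec (CommRingCat.of A)) ω y := by
  let f := Y ↘ Spec (CommRingCat.of A)
  haveI : LocallyOfFiniteType f := hS.2.1
  haveI : LocallyOfFinitePresentation f := GrothLib.LocProp.locallyOfFinitePresentation_of_isLocallyNoetherian f
  haveI : IsLocallyNoetherian Y := LocallyOfFiniteType.isLocallyNoetherian f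
  haveI : IsIso (Spec.map (CommRingCat.ofHom (RingHom.id A))) := by rw [CommRingCat.ofHom_id, Spec.map_id]; infer_instance
  obtain ⟨hωc, -, -⟩ := exists_bcOn d hS hd ω hω hG A (RingHom.id A) Y (𝟙 Y)
    (IsPullback.of_horiz_isIso ⟨by simp⟩) ω hω
  obtain ⟨W, hyW, hW⟩ := hy
  let S : ℕ → Set Y := fun j => {x | RelCanon.RelSkAt f 2 (RelCanon.refPowZ ω j) x}
  have hSo : IsOpen (⋂ j ∈ Set.Iio r, S j) := (Set.finite_Iio r).isOpen_biInter fun j _ =>
    isOpen_relSkAt f _ (GrothLib.FibReg5.isFP_of_isCoh (isCoh_refPowZ hωc j)) 2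
  refine ⟨W ⊓ ⟨_, hSo⟩, ⟨hyW, Set.mem_iInter₂.2 fun j hj => h j hj⟩, fun m z hz => ?_⟩
  obtain ⟨j, hj, ⟨s⟩⟩ := nonempty_stalk_periodic d hS hd ω hω hG r hr z ⟨W, hz.1, hW⟩ m
  haveI : Module.Finite (Y.presheaf.stalk z) ((RelCanon.refPowZ ω (j : ℤ)).presheaf.stalk z) :=
    QuasiFlat.finite_stalk _ (isCoh_refPowZ hωc j) z
  exact (relSkAt_iff_good f (isCoh_refPowZ hωc m) 2 z).2 (Good.congr (RingEquiv.refl _) (RingEquiv.refl _) (fun _ => rfl)
    s.symm.toAddEquiv (fun b x => s.symm.map_smul b x)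
    ((relSkAt_iff_good f (isCoh_refPowZ hωc j) 2 z).1 (Set.mem_iInter₂.1 hz.2 j hj)))

end Per

end GrothLib.ArtCrit20

end
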