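import Groth.Agent.Lib.ArtCrit20.RootGeo

/-!
# Roots of a trivial reflexive power with trivial reduction
-/

set_option autoImplicit false
set_option linter.all false
set_option backward.isDefEq.respectTransparency false
set_option maxHeartbeats 8000000

universe u

open CategoryTheory CategoryTheory.Limits AlgebraicGeometry TopologicalSpace IsLocalRing Function
open scoped TensorProduct

noncomputable section

namespace GrothLib.ArtCrit20

open GrothLib.OX GrothLib.RightAdj22 GrothLib.DualFree20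

variable {X S : Scheme.{u}}

/-- A rank one sheaf trivial on the fibre with an invertible reflexive power prime to the characteristic is invertible. -/
theorem invertibleAt_of_root (f : X ⟶ S) [Flat f] [LocallyOfFinitePresentation f] [IsLocallyNoetherian X]
    [IsLocallyNoetherian S] (hS : RelCanon.IsSkMor f 2) (W₁ : X.Modules) (hωc : Coh.IsCoh W₁) (U : X.Opens)
    (hWU : PicF.IsInvertible (W₁.restrict U.ι)) (t : S) (z₀ : f.fiber t)
    (hG1 : ∀ x : X, f x = t → x ∉ U → (2 : WithBot ℕ∞) ≤ ringKrullDim ((f.fiber (f x)).presheaf.stalk (f.asFiber x)))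
    (hDi : RelCanon.InvertibleAt (RefHull.ddual ((Scheme.Modules.pullback (f.fiberι t)).obj W₁)) z₀)
    (r₀ : ℕ) (hrk : ((r₀ + 1 : ℕ) : S.residueField t) ≠ 0)
    (hinv : RelCanon.InvertibleAt (RelCanon.refPowZ W₁ ((r₀ + 1 : ℕ) : ℤ)) (f.fiberι t z₀)) :
    RelCanon.InvertibleAt (RelCanon.refPowZ W₁ ((1 : ℕ) : ℤ)) (f.fiberι t z₀) := by
  classical
  let ι := f.fiberι t
  let y := ι z₀
  by_cases hy : y ∈ U
  · obtain ⟨e⟩ := nonempty_refPow_restrict U hWU 1
    exact invertibleAt_of_restrict U (ParaPair.isInvertible_of_iso e (PerfLim10.isInvertible_tensorPow hWU 1)) y hy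
  have hfy : f y = t := (f.range_fiberι t ▸ Set.mem_range_self z₀ : f.fiberι t z₀ ∈ f ⁻¹' {t})
  haveI : IsNoetherianRing ((f.fiber (f y)).presheaf.stalk (f.asFiber y)) :=
    GrothLib.DimCut.isNoetherianRing_stalk_fiber f _ _
  haveI : Module.Finite ((f.fiber (f y)).presheaf.stalk (f.asFiber y))
      ((Coh.structureModule (f.fiber (f y))).presheaf.stalk (f.asFiber y)) :=
    Module.Finite.equiv (GrothLib.HomSh.unitStalk (X := f.fiber (f y)) (f.asFiber y))
  obtain ⟨V, -, hyV, -, -, hcV⟩ := GrothLib.SkNhd1.exists_nhd f 2 le_rfl y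
    (GrothLib.SkExt.hasSk_congr (GrothLib.HomSh.unitStalk (X := f.fiber (f y)) (f.asFiber y)).symm (hS.2.2 y)) U 2
    (fun w hw hwU _ => hG1 w (hw.trans hfy) hwU)
  -- the local data at the point
  let C := X.presheaf.stalk y
  let R := S.presheaf.stalk (f y)
  letI : Algebra R C := (f.stalkMap y).hom.toAlgebra
  haveI : IsLocalHom (algebraMap R C) := inferInstanceAs (IsLocalHom (f.stalkMap y).hom)
  haveI : Module.Flat R C := Flat.stalkMap f y
  let Z : Set (PrimeSpectrum C) := {q | pt y q ∉ U}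
  have hZ : IsClosed Z := (U.isOpen.preimage (X.fromSpecStalk y).continuous).isClosed_compl
  let J : Ideal C := PrimeSpectrum.vanishingIdeal Z
  have hJq : ∀ q : PrimeSpectrum C, J ≤ q.asIdeal → pt y q ∉ U := fun q hq => by
    have h : q ∈ PrimeSpectrum.zeroLocus (J : Set C) := hq
    rw [PrimeSpectrum.zeroLocus_vanishingIdeal_eq_closure, hZ.closure_eq] at h
    exact h
  have hJq' : ∀ q : PrimeSpectrum C, ¬ J ≤ q.asIdeal → pt y q ∈ U := fun q hq => by
    by_contra h
    exact hq fun c hc => (PrimeSpectrum.mem_vanishingIdeal _ _).1 hc q h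
  have hJtop : J ≠ ⊤ := fun h => by
    have hmem : (closedPoint C) ∈ Z := by
      show pt y (closedPoint C) ∉ U
      rwa [show pt y (closedPoint C) = y from Scheme.fromSpecStalk_closedPoint]
    exact (maximalIdeal.isMaximal C).ne_top (top_le_iff.1 (h ▸ fun c hc =>
      (PrimeSpectrum.mem_vanishingIdeal _ _).1 hc _ hmem))
  have hgenV : ∀ q : PrimeSpectrum C, pt y q ∈ V := fun q => by
    have h : pt y q ∈ Set.range (X.fromSpecStalk y) := ⟨q, rfl⟩
    rw [Scheme.range_fromSpecStalk] at h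
    exact Specializes.mem_open h V.2 hyV
  have hcodim : ∀ q : PrimeSpectrum C, J ≤ q.asIdeal →
      (2 : WithBot ℕ∞) ≤ ringKrullDim (EGA4.FibLocRing R C q.asIdeal) := fun q hq =>
    (hcV _ (hgenV q) (hJq q hq)).trans (ringKrullDim_fibLoc_stalk f y q).ge
  let I : Ideal C := (maximalIdeal R).map (algebraMap R C)
  obtain ⟨θ, -, hθ, -, -⟩ := exists_closed_equiv (C := C) C
  let X₀ := Localization.AtPrime (maximalIdeal C)
  let θq : (C ⧸ I) ≃+* EGA4.FibLocRing R C (maximalIdeal C) := Ideal.quotientEquiv _ _ θ (by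
      rw [Ideal.map_map, show (maximalIdeal C).comap (algebraMap R C) = maximalIdeal R from
        IsLocalRing.maximalIdeal_comap _, show (θ : C →+* X₀).comp (algebraMap R C) = algebraMap R X₀ from
        RingHom.ext fun r => (hθ _).trans (IsScalarTower.algebraMap_apply R C X₀ r).symm])
  have hS2 := hasSk_closedFibre f hS y
  have hD : 2 ≤ LocCoh.idealDepth (J.map (Ideal.Quotient.mk I)) (C ⧸ I) := by
    have h := GrothLib.FlatOff.two_le_depth_fibLocRing (A := R) J (maximalIdeal C)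
      (GrothLib.SnFibres.hasSk_congr θq hS2) (fun q hq _ => hcodim q hq)
    rw [GrothLib.FiniteQuot.idealDepth_congr θq θq.toAddEquiv (fun a b => map_mul θq a b) (J.map (Ideal.Quotient.mk I)),
      Ideal.map_map, show (θq : (C ⧸ I) →+* EGA4.FibLocRing R C (maximalIdeal C)).comp (Ideal.Quotient.mk I) =
        algebraMap C (EGA4.FibLocRing R C (maximalIdeal C)) from RingHom.ext fun c => by
          show Ideal.Quotient.mk _ (θ c) = _
          rw [hθ]; rfl]
    exact h
  have hC2 : 2 ≤ LocCoh.idealDepth J C := two_le_depth_self_of_fibre J hJtop hD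
  -- a regular pair in `J`
  have hIm : I ≤ maximalIdeal C := Ideal.map_le_iff_le_comap.2 (IsLocalRing.maximalIdeal_comap (algebraMap R C)).ge
  have hJm : J ≤ maximalIdeal C := IsLocalRing.le_maximalIdeal hJtop
  haveI : Nontrivial (C ⧸ I) := Ideal.Quotient.nontrivial_iff.2 fun h => (maximalIdeal.isMaximal C).ne_top
    (top_le_iff.1 (h ▸ hIm))
  obtain ⟨x, x', hxJ, hx'J, hreg⟩ : ∃ x x' : C, x ∈ J ∧ x' ∈ J ∧
      RingTheory.Sequence.IsWeaklyRegular (C ⧸ I) [x, x'] := by
    have h : ((2 : ℕ) : ℕ∞) ≤ LocCoh.idealDepth J (C ⧸ I) := by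
      rw [← GrothLib.Depth.idealDepth_map_eq (B := C ⧸ I)]; exact_mod_cast hD
    have hne : J • (⊤ : Submodule C (C ⧸ I)) ≠ ⊤ := fun h => by
      refine (bot_ne_top : (⊥ : Submodule C (C ⧸ I)) ≠ ⊤) (Submodule.eq_bot_of_le_smul_of_le_jacobson_bot J ⊤
        (Module.Finite.fg_top (R := C) (M := C ⧸ I)) (by rw [h]) ?_).symm
      rw [IsLocalRing.jacobson_eq_maximalIdeal ⊥ bot_ne_top]
      exact hJm
    obtain ⟨rs, hlen, hmem, hreg⟩ := (GrothLib.Depth.le_idealDepth_iff_exists J hne 2).1 h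
    obtain ⟨a, b, rfl⟩ := List.length_eq_two.1 hlen
    exact ⟨a, b, hmem a (by simp), hmem b (by simp), hreg⟩
  -- the sheaves
  let G := RelCanon.refPowZ W₁ ((1 : ℕ) : ℤ)
  have hGc : Coh.IsCoh G := isCoh_refPowZ hωc _
  let F := G.presheaf.stalk y
  haveI : Module.Finite C F := QuasiFlat.finite_stalk _ hGc y
  have hinvG : ∀ q : PrimeSpectrum C, ¬ J ≤ q.asIdeal → RelCanon.InvertibleAt G (pt y q) := fun q hq =>
    invertibleAt_of_restrict U (ParaPair.isInvertible_of_iso (nonempty_refPow_restrict U hWU 1).some (PerfLim10.isInvertible_tensorPow hWU 1)) _ (hJq' q hq)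
  have hFU : ∀ q : PrimeSpectrum C, ¬ J ≤ q.asIdeal →
      Module.Free (Localization.AtPrime q.asIdeal) (LocalizedModule q.asIdeal.primeCompl F) :=
    fun q hq => free_localized_stalk hGc y q (hinvG q hq)
  let T₁ := CohB1.tensorPow W₁ 1
  have hT₁c : Coh.IsCoh T₁ := isCoh_tensorPow' hωc 1
  let W := W₁.presheaf.stalk y
  haveI : Module.Finite C W := QuasiFlat.finite_stalk _ hωc y
  have hWfree : ∀ q : PrimeSpectrum C, ¬ J ≤ q.asIdeal →
      Module.Free (Localization.AtPrime q.asIdeal) (LocalizedModule q.asIdeal.primeCompl W) :=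
    fun q hq => free_localized_stalk hωc y q (invertibleAt_of_restrict U hWU _ (hJq' q hq))
  haveI hFrefl : Module.IsReflexive C F := by
    obtain ⟨eT⟩ := nonempty_tensorPow_restrict U hWU 1
    have hTi : PicF.IsInvertible (T₁.restrict U.ι) :=
      ParaPair.isInvertible_of_iso eT (PerfLim10.isInvertible_tensorPow hWU 1)
    obtain ⟨eD⟩ := nonempty_dual_restrict hT₁c U hTi
    have hDi : PicF.IsInvertible ((RefHull.dual T₁).restrict U.ι) :=
      ParaPair.isInvertible_of_iso eD (isInvertible_dual_of hTi)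
    haveI : Module.Finite C ((RefHull.dual T₁).presheaf.stalk y) := QuasiFlat.finite_stalk _ (isCoh_dual' hT₁c) y
    obtain ⟨e⟩ := nonempty_dual_stalk (isCoh_dual' hT₁c) y
    haveI := isReflexive_dual J hC2 ((RefHull.dual T₁).presheaf.stalk y)
      fun q hq => free_localized_stalk (isCoh_dual' hT₁c) y q (invertibleAt_of_restrict U hDi _ (hJq' q hq))
    exact Module.equiv e.symm
  obtain ⟨eF⟩ : Nonempty (F ≃ₗ[C] Module.Dual C (Module.Dual C W)) := by
    obtain ⟨e⟩ := nonempty_ddual_stalk hT₁c y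
    exact ⟨e.trans (DualFree20.stalkIso (OX.tensorUnitLeftIso W₁) y).symm.dualMap.dualMap.symm⟩
  let η : W →ₗ[C] F := eF.symm.toLinearMap.comp (Module.Dual.eval C W)
  have hη : ∀ a : C, a ∈ J → ∃ (k : ℕ) (σ : F →ₗ[C] W), (∀ w, σ (η w) = a ^ k • w) ∧ ∀ v, η (σ v) = a ^ k • v := by
    intro a ha
    obtain ⟨k, σ, h₁, h₂⟩ := GrothLib.FlatOff.exists_pseudoInverse_eval J W hWfree a ha
    refine ⟨k, σ.comp eF.toLinearMap, fun w => ?_, fun v => ?_⟩
    · show σ (eF (eF.symm (Module.Dual.eval C W w))) = _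
      rw [eF.apply_symm_apply, h₁]
    · show eF.symm (Module.Dual.eval C W (σ (eF v))) = _
      rw [h₂, map_smul, eF.symm_apply_apply]
  -- the `r`-th power
  let T := CohB1.tensorPow W₁ (r₀ + 1)
  have hTc : Coh.IsCoh T := isCoh_tensorPow' hωc _
  haveI : Module.Finite C (T.presheaf.stalk y) := QuasiFlat.finite_stalk _ hTc y
  have hTU : ∀ q : PrimeSpectrum C, ¬ J ≤ q.asIdeal →
      Module.Free (Localization.AtPrime q.asIdeal) (LocalizedModule q.asIdeal.primeCompl (T.presheaf.stalk y)) := by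
    obtain ⟨eT⟩ := nonempty_tensorPow_restrict U hWU (r₀ + 1)
    exact fun q hq => free_localized_stalk hTc y q (invertibleAt_of_restrict U
      (ParaPair.isInvertible_of_iso eT (PerfLim10.isInvertible_tensorPow hWU _)) _ (hJq' q hq))
  obtain ⟨er⟩ := nonempty_stalk_equiv_of_invertibleAt hinv
  obtain ⟨es⟩ := nonempty_ddual_stalk hTc y
  let eC : Module.Dual C (Module.Dual C (T.presheaf.stalk y)) ≃ₗ[C] C := es.symm.trans er.symm
  let Φ : T.presheaf.stalk y →ₗ[C] C := eC.toLinearMap.comp (Module.Dual.eval C _)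
  let Q : W → C := fun w => Φ (powStalk W₁ y (r₀ + 1) w)
  have hQh : ∀ (c : C) w, Q (c • w) = c ^ (r₀ + 1) * Q w := fun c w => by
    show Φ _ = _
    rw [powStalk_smul, map_smul]; rfl
  have hQc : ∀ (K : Ideal C) w w', w - w' ∈ (K • ⊤ : Submodule C W) → Q w - Q w' ∈ K := fun K w w' h => by
    show Φ _ - Φ _ ∈ K
    rw [← map_sub]
    have := (Submodule.map_le_iff_le_comap.1 (Submodule.map_smul'' K ⊤ Φ).le) (powStalk_congr W₁ y K w w' h (r₀ + 1))
    exact Submodule.smul_le.2 (fun a ha b _ => Ideal.mul_mem_right b K ha) this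
  let ψ : W → (W →ₗ[C] C) := fun e =>
    Φ.comp (Ref1.tmulStalk (CohB1.tensorPow W₁ r₀) W₁ y (powStalk W₁ y r₀ e))
  -- the fibre
  let Xt := f.fiber t
  haveI : LocallyOfFiniteType (f.fiberToSpecResidueField t) :=
    MorphismProperty.pullback_snd _ _ (inferInstance : LocallyOfFiniteType f)
  haveI : IsLocallyNoetherian Xt := LocallyOfFiniteType.isLocallyNoetherian (f.fiberToSpecResidueField t)
  let P := (Scheme.Modules.pullback ι).obj W₁
  have hPc : Coh.IsCoh P := ModDesc.isCoh_pullback ι _ hωc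
  obtain ⟨hsurj, hker⟩ := FibreFlat.fiberι_stalkMap f t z₀
  obtain ⟨θ', e', hθ', he'⟩ := exists_fibre_stalk_equiv_map f W₁ t z₀
  let Qr := Xt.presheaf.stalk z₀
  let π : C →+* Qr := (ι.stalkMap z₀).hom
  haveI : Module.Finite Qr (P.presheaf.stalk z₀) := QuasiFlat.finite_stalk _ hPc z₀
  obtain ⟨ts⟩ := nonempty_stalk_equiv_of_invertibleAt hDi
  obtain ⟨ep⟩ := nonempty_ddual_stalk hPc z₀
  let Ψ : Module.Dual Qr (Module.Dual Qr (P.presheaf.stalk z₀)) ≃ₗ[Qr] Qr := ep.symm.trans ts.symm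
  have he : ∀ (c : C) (w : W ⧸ (I • ⊤ : Submodule C W)), e' (c • w) = π c • e' w := fun c w => by
    rw [← hθ' c]
    obtain ⟨w, rfl⟩ := Submodule.Quotient.mk_surjective _ w
    exact he' (Ideal.Quotient.mk _ c) (Submodule.Quotient.mk w)
  let red₀ : W →ₗ[C] C ⧸ I :=
    { toFun := fun w => θ'.symm (Ψ (Module.Dual.eval Qr _ (e' (Submodule.Quotient.mk w))))
      map_add' := fun a b => by rw [Submodule.Quotient.mk_add, map_add, map_add, map_add, map_add]
      map_smul' := fun c w => by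
        rw [Submodule.Quotient.mk_smul, he, map_smul, map_smul, smul_eq_mul, map_mul, ← hθ' c,
          θ'.symm_apply_apply]
        rfl }
  have hPU : ∀ q : PrimeSpectrum Qr, ¬ J.map π ≤ q.asIdeal →
      Module.Free (Localization.AtPrime q.asIdeal) (LocalizedModule q.asIdeal.primeCompl (P.presheaf.stalk z₀)) :=
    fun q hq => free_localized_stalk hPc z₀ q (invertibleAt_pullback ι _ (invertibleAt_of_restrict U hWU _ (by
      rw [map_pt]
      exact hJq' _ fun h => hq (Ideal.map_le_iff_le_comap.2 h))))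
  have hker₀ : ∀ a ∈ J, ∀ w, red₀ w = 0 → ∃ l : ℕ, a ^ l • w ∈ (I • ⊤ : Submodule C W) := fun a ha w hw => by
    obtain ⟨k, σ, hσ, -⟩ := GrothLib.FlatOff.exists_pseudoInverse_eval (J.map π) (P.presheaf.stalk z₀) hPU (π a)
      (Ideal.mem_map_of_mem π ha)
    refine ⟨k, (Submodule.Quotient.mk_eq_zero _).1 (e'.map_eq_zero_iff.1 ?_)⟩
    have h0 : Module.Dual.eval Qr _ (e' (Submodule.Quotient.mk w)) = 0 :=
      Ψ.map_eq_zero_iff.1 (θ'.symm.map_eq_zero_iff.1 hw)
    rw [Submodule.Quotient.mk_smul, he, map_pow, ← hσ, h0, map_zero]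
  have hcok₀ : ∀ a ∈ J, ∃ (k : ℕ) (e : W), red₀ e = Ideal.Quotient.mk I (a ^ k) := fun a ha => by
    obtain ⟨k, σ, -, hσ⟩ := GrothLib.FlatOff.exists_pseudoInverse_eval (J.map π) (P.presheaf.stalk z₀) hPU (π a)
      (Ideal.mem_map_of_mem π ha)
    obtain ⟨w, hw⟩ := Submodule.Quotient.mk_surjective _ (e'.symm (σ (Ψ.symm 1)))
    refine ⟨k, w, ?_⟩
    show θ'.symm (Ψ (Module.Dual.eval Qr _ (e' (Submodule.Quotient.mk w)))) = _
    rw [hw, e'.apply_symm_apply, hσ, map_smul, Ψ.apply_symm_apply, smul_eq_mul, mul_one, ← map_pow, ← hθ' (a ^ k),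
      θ'.symm_apply_apply]
    rfl
  -- `r` is a unit
  have hrC : IsUnit ((r₀ + 1 : ℕ) : C) := by
    have gen : ∀ s, s = t → IsUnit (((r₀ + 1 : ℕ)) : S.presheaf.stalk s) := by
      rintro s rfl
      refine (IsLocalRing.residue_ne_zero_iff_isUnit _).1 fun h => hrk ?_
      rw [map_natCast] at h
      exact h
    have := (gen _ hfy).map (algebraMap R C)
    rwa [map_natCast] at this
  -- every Artinian test
  have hfunc := fun (K : Ideal R) (_ : IsArtinianRing (R ⧸ K)) (_ : IsLocalRing (R ⧸ K)) =>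
    nonempty_ddual_equiv_of_root (R := R) J hJm x x' hxJ hx'J hreg η hη (r₀ + 1) hrC Q hQh hQc ψ (fun _ => rfl)
      (fun z hz L e hgen => by
        obtain ⟨k, σ, -, hσ⟩ := GrothLib.FlatOff.exists_pseudoInverse_eval J (T.presheaf.stalk y) hTU z hz
        let v := σ (eC.symm 1)
        obtain ⟨l, c, hc⟩ := powStalk_gen W₁ y _ z e hgen (r₀ + 1) v
        refine ⟨l + k, c, ?_⟩
        have h := (Submodule.map_le_iff_le_comap.1 (Submodule.map_smul'' L ⊤ Φ).le) hc
        have hv : Φ v = z ^ k := by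
          show eC (Module.Dual.eval C _ (σ (eC.symm 1))) = _
          rw [hσ, map_smul, eC.apply_symm_apply, smul_eq_mul, mul_one]
        rw [Submodule.mem_comap, map_sub, map_smul, map_smul, hv, smul_eq_mul, smul_eq_mul, ← pow_add] at h
        exact Submodule.smul_le.2 (fun a ha b _ => Ideal.mul_mem_right b _ ha) h)
      red₀ hker₀ hcok₀ K
  have hgoodC : Good 2 (f.stalkMap y).hom C := ⟨Flat.stalkMap f y, by
    let e : (C ⧸ I) ≃ₗ[C] C ⧸ (I • ⊤ : Submodule C C) :=
      Submodule.quotEquivOfEq _ _ (by rw [smul_eq_mul, Ideal.mul_top])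
    exact hasSk_semilinear (RingEquiv.refl _) e.toAddEquiv (fun b x => by
      obtain ⟨c, rfl⟩ := Ideal.Quotient.mk_surjective b
      exact e.map_smul c x) hS2⟩
  have hgood : Good 2 (algebraMap R C) F := by
    refine good_of_artinian F J hFU hS2 hcodim fun K _ _ => ?_
    obtain ⟨e⟩ := hfunc K inferInstance inferInstance
    have hC := (good_ddual_quot C J hJtop (fun q _ => inferInstance) hD hgoodC K).1
    let C' := C ⧸ K.map (algebraMap R C)
    let eC' : Module.Dual C' (Module.Dual C' (C' ⊗[C] C)) ≃ₗ[C'] C' :=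
      (TensorProduct.AlgebraTensorModule.rid C C' C').dualMap.symm.dualMap.symm.trans (Module.evalEquiv C' C').symm
    let E := eC'.trans e.symm
    exact Good.congr (RingEquiv.refl _) (RingEquiv.refl C') (fun _ => rfl) E.toAddEquiv
      (fun b x => E.map_smul b x) hC
  -- conclusion
  have hb : Nonempty ((F ⧸ (I • ⊤ : Submodule C F)) ≃ₗ[C] (C ⧸ I)) := by
    haveI : IsArtinianRing (R ⧸ maximalIdeal R) := by letI := Ideal.Quotient.field (maximalIdeal R); infer_instance
    haveI : IsLocalRing (R ⧸ maximalIdeal R) := IsLocalRing.of_surjective' (Ideal.Quotient.mk _) Ideal.Quotient.mk_surjective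
    obtain ⟨e⟩ := hfunc (maximalIdeal R) inferInstance inferInstance
    have hev := (good_ddual_quot F J hJtop hFU hD hgood (maximalIdeal R)).2
    exact ⟨(TensorProduct.quotTensorEquivQuotSMul F I).symm.trans
      (((LinearEquiv.ofBijective _ hev).trans e).restrictScalars C)⟩
  obtain ⟨eb⟩ := hb
  have hGy : RelCanon.InvertibleAt G y := by
    obtain ⟨θG, eG, hθG, heG⟩ := exists_fibre_stalk_equiv_map f G t z₀
    let PG := (Scheme.Modules.pullback ι).obj G
    refine invertibleAt_of_fibre f hGc t z₀ ?_ (invertibleAt_of_stalk (ModDesc.isCoh_pullback ι _ hGc) z₀ ?_)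
    · exact ((relSkAt_iff_good f hGc 2 y).2 hgood).1
    · exact (LinearEquiv.symm
        { (θG.symm.toAddEquiv.trans (eb.symm.toAddEquiv.trans eG)) with
          map_smul' := fun a b => by
            obtain ⟨a, rfl⟩ := θG.surjective a
            obtain ⟨c, rfl⟩ := Ideal.Quotient.mk_surjective a
            show eG (eb.symm (θG.symm (θG (Ideal.Quotient.mk _ c) * b))) = θG (Ideal.Quotient.mk _ c) • eG (eb.symm (θG.symm b))
            rw [← heG, map_mul, θG.symm_apply_apply]
            congr 1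
            generalize θG.symm b = v
            exact eb.symm.map_smul c v })
  exact hGy

end GrothLib.ArtCrit20

end
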