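import Groth.Agent.Lib.ArtCrit20.Lifts
import Groth.Agent.Lib.ArtCrit20.Dvr
import Groth.Agent.Lib.DepthExt20.Basic
import Groth.Agent.Lib.ZClos.DepthS2
import Groth.Agent.S18726

/-!
# Reflexive powers with `(S₃)` on a fibre Gorenstein in codimension two
-/

set_option autoImplicit false
set_option linter.all false
set_option backward.isDefEq.respectTransparency false
set_option maxHeartbeats 2000000

universe u

open CategoryTheory CategoryTheory.Limits AlgebraicGeometry TopologicalSpace IsLocalRing Function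
open scoped TensorProduct

noncomputable section

namespace GrothLib.ArtCrit20

open GrothLib.OX GrothLib.RightAdj22 GrothLib.DualFree20

section General

variable {X S : Scheme.{u}}

/-- The stalk at a generisation as a localisation. -/
theorem exists_pt_equiv [IsLocallyNoetherian X] {G : X.Modules} (hG : Coh.IsCoh G) (y : X)
    (q : PrimeSpectrum (X.presheaf.stalk y)) :
    ∃ (σ : X.presheaf.stalk (pt y q) ≃+* Localization.AtPrime q.asIdeal)
      (e : G.presheaf.stalk (pt y q) ≃+ LocalizedModule q.asIdeal.primeCompl (G.presheaf.stalk y)),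
      ∀ r m, e (r • m) = σ r • e m := by
  haveI := hG.1
  obtain ⟨W, hW, hyW, -⟩ := exists_isAffineOpen_mem_and_subset (show y ∈ (⊤ : X.Opens) from trivial)
  let P : PrimeSpectrum Γ(X, W) := PrimeSpectrum.comap (X.presheaf.germ W y hyW).hom q
  have hxP : pt y q = hW.fromSpec P := by
    unfold pt
    rw [← hW.fromSpecStalk_eq_fromSpecStalk hyW]
    rfl
  let x := hW.fromSpec P
  have hxW : x ∈ W := WeakAss.fromSpec_mem hW P
  let Γ₀ := Γ(X, W)
  let C := X.presheaf.stalk y
  let O := X.presheaf.stalk x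
  let M := G.presheaf.stalk y
  let T := Localization.AtPrime q.asIdeal
  let MQ := LocalizedModule q.asIdeal.primeCompl M
  letI : Algebra Γ₀ C := X.presheaf.algebra_section_stalk ⟨y, hyW⟩
  letI : Module Γ₀ M := Module.compHom _ (X.presheaf.germ W y hyW).hom
  haveI : IsLocalization (WeakAss.primeAt y hyW).primeCompl C := GrothLib.FlatFP.isLocalization_stalk_primeAt hW hyW
  haveI : IsScalarTower Γ₀ C M := IsScalarTower.of_algebraMap_smul fun _ _ => rfl
  obtain ⟨g, hg, -⟩ := FlatFP.isLocalizedModule_germ G hW hyW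
  haveI := hg
  letI : Algebra Γ₀ O := X.presheaf.algebra_section_stalk ⟨x, hxW⟩
  letI : Module Γ₀ (G.presheaf.stalk x) := Module.compHom _ (X.presheaf.germ W x hxW).hom
  haveI : IsScalarTower Γ₀ O (G.presheaf.stalk x) := IsScalarTower.of_algebraMap_smul fun _ _ => rfl
  obtain ⟨gx, hgx, -⟩ := FlatFP.isLocalizedModule_germ G hW hxW
  haveI := hgx
  have hP : WeakAss.primeAt x hxW = q.asIdeal.comap (algebraMap Γ₀ C) := WeakAss.primeAt_fromSpec hW P hxW
  haveI : IsLocalization (WeakAss.primeAt x hxW).primeCompl O := GrothLib.FlatFP.isLocalization_stalk_primeAt hW hxW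
  haveI : IsLocalization.AtPrime T (q.asIdeal.comap (algebraMap Γ₀ C)) :=
    IsLocalization.isLocalization_isLocalization_atPrime_isLocalization (WeakAss.primeAt y hyW).primeCompl T q.asIdeal
  haveI : IsScalarTower Γ₀ T MQ := IsScalarTower.of_algebraMap_smul fun r m => by
    rw [IsScalarTower.algebraMap_apply Γ₀ C T, algebraMap_smul, algebraMap_smul]
  let f : Γ(G, W) →ₗ[Γ₀] MQ := (LocalizedModule.mkLinearMap q.asIdeal.primeCompl M).restrictScalars Γ₀ ∘ₗ g
  haveI : IsLocalizedModule (q.asIdeal.comap (algebraMap Γ₀ C)).primeCompl f := by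
    refine (isLocalizedModule_iff_isBaseChange _ T f).2 ?_
    exact (IsLocalizedModule.isBaseChange (WeakAss.primeAt y hyW).primeCompl C g).comp
      (IsLocalizedModule.isBaseChange q.asIdeal.primeCompl T _)
  haveI : IsLocalizedModule (q.asIdeal.comap (algebraMap Γ₀ C)).primeCompl gx :=
    (congrArg (fun (I : Submonoid Γ₀) => IsLocalizedModule I gx)
      (show (WeakAss.primeAt x hxW).primeCompl = (q.asIdeal.comap (algebraMap Γ₀ C)).primeCompl by
        ext a; show a ∉ WeakAss.primeAt x hxW ↔ a ∉ q.asIdeal.comap (algebraMap Γ₀ C); rw [hP])).mp hgx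
  haveI : IsLocalization (q.asIdeal.comap (algebraMap Γ₀ C)).primeCompl O :=
    (congrArg (fun (I : Submonoid Γ₀) => IsLocalization I O)
      (show (WeakAss.primeAt x hxW).primeCompl = (q.asIdeal.comap (algebraMap Γ₀ C)).primeCompl by
        ext a; show a ∉ WeakAss.primeAt x hxW ↔ a ∉ q.asIdeal.comap (algebraMap Γ₀ C); rw [hP])).mp inferInstance
  let S₀ := (q.asIdeal.comap (algebraMap Γ₀ C)).primeCompl
  let e : G.presheaf.stalk x ≃ₗ[Γ₀] MQ :=
    (IsLocalizedModule.iso S₀ gx).symm.trans (IsLocalizedModule.iso S₀ f)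
  let σ : O ≃ₐ[Γ₀] T := IsLocalization.algEquiv S₀ _ _
  have he : ∀ (r : O) (m : G.presheaf.stalk x), e (r • m) = σ r • e m := fun r m => by
    obtain ⟨a, s, rfl⟩ := IsLocalization.exists_mk'_eq S₀ r
    apply ((IsLocalization.map_units T s).smul_left_cancel).1
    have h1 : algebraMap Γ₀ O (s : Γ₀) * IsLocalization.mk' O a s = algebraMap Γ₀ O a := IsLocalization.mk'_spec' _ a s
    calc algebraMap Γ₀ T s • e (IsLocalization.mk' O a s • m)
        = (s : Γ₀) • e (IsLocalization.mk' O a s • m) := algebraMap_smul _ _ _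
      _ = e ((s : Γ₀) • IsLocalization.mk' O a s • m) := (e.map_smul _ _).symm
      _ = e (a • m) := by rw [← algebraMap_smul O (s : Γ₀) (IsLocalization.mk' O a s • m), smul_smul, h1,
            algebraMap_smul]
      _ = a • e m := e.map_smul _ _
      _ = σ (algebraMap Γ₀ O a) • e m := by rw [σ.commutes, algebraMap_smul]
      _ = _ := by rw [← h1, map_mul, σ.commutes, mul_smul]
  rw [hxP]
  exact ⟨σ.toRingEquiv, e.toAddEquiv, he⟩

/-- A morphism on the generisations of a point. -/
theorem map_pt (g : X ⟶ S) (z : X) (q : PrimeSpectrum (X.presheaf.stalk z)) :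
    g (pt z q) = pt (g z) (PrimeSpectrum.comap (g.stalkMap z).hom q) := by
  show g (X.fromSpecStalk z q) = S.fromSpecStalk (g z) (Spec.map (g.stalkMap z) q)
  rw [← Scheme.Hom.comp_apply, ← Scheme.Hom.comp_apply, Scheme.SpecMap_stalkMap_fromSpecStalk]

/-- The dimension of a point of a fibre. -/
theorem dim_fibre_point (f : X ⟶ S) (s : S) (w : f.fiber s) :
    ringKrullDim ((f.fiber s).presheaf.stalk w) =
      ringKrullDim ((f.fiber (f (f.fiberι s w))).presheaf.stalk (f.asFiber (f.fiberι s w))) := by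
  have key : ∀ (y : X) (s : S) (w : f.fiber s), f.fiberι s w = y → f y = s →
      ringKrullDim ((f.fiber s).presheaf.stalk w) = ringKrullDim ((f.fiber (f y)).presheaf.stalk (f.asFiber y)) := by
    intro y s w hw hy
    subst hy
    rw [show w = f.asFiber y from (f.fiberι (f y)).isEmbedding.injective (hw.trans (f.fiberι_asFiber y).symm)]
  exact key _ s w rfl (f.range_fiberι s ▸ Set.mem_range_self w : f.fiberι s w ∈ f ⁻¹' {s})

/-- Depth along an ideal from Serre's condition at the generisations. -/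
theorem le_idealDepth_stalk [IsLocallyNoetherian X] {N : X.Modules} (hN : Coh.IsCoh N) (k : ℕ)
    (hS : RelCanon.HasSk k N) (z : X) (J : Ideal (X.presheaf.stalk z))
    (hdim : ∀ q : PrimeSpectrum (X.presheaf.stalk z), J ≤ q.asIdeal →
      (k : WithBot ℕ∞) ≤ ringKrullDim (X.presheaf.stalk (pt z q)))
    (hgen : ∀ x : X, ringKrullDim (X.presheaf.stalk x) = 0 → Nontrivial (N.presheaf.stalk x)) :
    (k : ℕ∞) ≤ LocCoh.idealDepth J (N.presheaf.stalk z) := by
  haveI := hN.1
  have hnt : ∀ x : X, Nontrivial (N.presheaf.stalk x) := fun x => by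
    obtain ⟨Q, hQ, -⟩ := Ideal.exists_minimalPrimes_le (bot_le : ⊥ ≤ maximalIdeal (X.presheaf.stalk x))
    haveI : Q.IsPrime := hQ.1.1
    obtain ⟨σ, e, -⟩ := exists_pt_equiv hN x ⟨Q, inferInstance⟩
    have h0 : ringKrullDim (X.presheaf.stalk (pt x ⟨Q, inferInstance⟩)) = 0 := by
      rw [ringKrullDim_eq_of_ringEquiv σ, IsLocalization.AtPrime.ringKrullDim_eq_height Q,
        (Ideal.height_eq_zero_iff).2 hQ]
      rfl
    haveI := hgen _ h0
    by_contra hs
    rw [not_nontrivial_iff_subsingleton] at hs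
    haveI : Subsingleton (LocalizedModule Q.primeCompl (N.presheaf.stalk x)) :=
      LocalizedModule.subsingleton_iff.2 fun m => ⟨1, Q.primeCompl.one_mem, Subsingleton.elim _ _⟩
    exact not_subsingleton (N.presheaf.stalk (pt x ⟨Q, inferInstance⟩)) e.toEquiv.subsingleton
  haveI : Module.Finite (X.presheaf.stalk z) (N.presheaf.stalk z) := QuasiFlat.finite_stalk N hN z
  refine GrothLib.DepthExt20.le_idealDepth_of_forall_depth J fun q hq => ?_
  obtain ⟨σ, e, he⟩ := exists_pt_equiv hN z q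
  let O := X.presheaf.stalk (pt z q)
  haveI : Module.Finite O (N.presheaf.stalk (pt z q)) := QuasiFlat.finite_stalk N hN _
  have h := hS (pt z q) (maximalIdeal O)
  obtain ⟨θ, e₀, -, -, he₀⟩ := exists_closed_equiv (C := O) (N.presheaf.stalk (pt z q))
  haveI : IsNoetherianRing (Localization.AtPrime (maximalIdeal O)) :=
    IsLocalization.isNoetherianRing (maximalIdeal O).primeCompl _ inferInstance
  rw [← GrothLib.SkExt.depth_congr_semilinear θ e₀ he₀, ← GrothLib.SkExt.supportDim_congr_semilinear θ e₀ he₀,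
    GrothLib.ZClosure.supportDim_stalk_eq N hN hnt (pt z q), min_eq_left (hdim q hq),
    GrothLib.SkExt.depth_congr_semilinear σ e he] at h
  exact_mod_cast h

/-- The reduction of a stalk is the stalk on the fibre. -/
theorem exists_fibre_stalk_equiv_map (f : X ⟶ S) (G : X.Modules) (s : S) (z : f.fiber s) :
    ∃ (θ : (X.presheaf.stalk (f.fiberι s z) ⧸ (maximalIdeal (S.presheaf.stalk (f (f.fiberι s z)))).map
          (f.stalkMap (f.fiberι s z)).hom) ≃+* (f.fiber s).presheaf.stalk z)
      (e : (G.presheaf.stalk (f.fiberι s z) ⧸ ((maximalIdeal (S.presheaf.stalk (f (f.fiberι s z)))).map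
          (f.stalkMap (f.fiberι s z)).hom • ⊤ : Submodule (X.presheaf.stalk (f.fiberι s z)) (G.presheaf.stalk (f.fiberι s z)))) ≃+
        ((Scheme.Modules.pullback (f.fiberι s)).obj G).presheaf.stalk z),
      (∀ b, θ (Ideal.Quotient.mk _ b) = ((f.fiberι s).stalkMap z).hom b) ∧ ∀ b x, e (b • x) = θ b • e x := by
  obtain ⟨hsurj, hker⟩ := FibreFlat.fiberι_stalkMap f s z
  let B := X.presheaf.stalk (f.fiberι s z)
  let Q := (f.fiber s).presheaf.stalk z
  let M := G.presheaf.stalk (f.fiberι s z)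
  let I : Ideal B := (maximalIdeal (S.presheaf.stalk (f (f.fiberι s z)))).map (f.stalkMap (f.fiberι s z)).hom
  letI : Algebra B Q := ((f.fiberι s).stalkMap z).hom.toAlgebra
  let θ : (B ⧸ I) ≃+* Q := (Ideal.quotEquivOfEq hker.symm).trans (RingHom.quotientKerEquivOfSurjective hsurj)
  have hθ : ∀ b : B, θ (Ideal.Quotient.mk I b) = algebraMap B Q b := fun b => rfl
  let θl : (B ⧸ I) ≃ₗ[B] Q :=
    { θ with
      map_smul' := fun b w => by
        obtain ⟨c, rfl⟩ := Ideal.Quotient.mk_surjective w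
        show θ (Ideal.Quotient.mk I (b * c)) = b • θ (Ideal.Quotient.mk I c)
        rw [hθ, hθ, map_mul, Algebra.smul_def] }
  let el : ((Scheme.Modules.pullback (f.fiberι s)).obj G).presheaf.stalk z ≃ₗ[Q] Q ⊗[B] M :=
    ((OX.pullStalkIso (f.fiberι s) z).app G).toLinearEquiv
  let e : (M ⧸ (I • ⊤ : Submodule B M)) ≃ₗ[B] Q ⊗[B] M :=
    (TensorProduct.quotTensorEquivQuotSMul M I).symm.trans (TensorProduct.congr θl (LinearEquiv.refl B M))
  refine ⟨θ, e.toAddEquiv.trans el.symm.toAddEquiv, hθ, fun b x => ?_⟩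
  obtain ⟨c, rfl⟩ := Ideal.Quotient.mk_surjective b
  show el.symm (e (c • x)) = θ (Ideal.Quotient.mk I c) • el.symm (e x)
  rw [map_smul, hθ, ← map_smul el.symm, algebraMap_smul]

end General

/-- `H²` along `J` of a module that agrees off `V(J)` with one of depth at least three. -/
theorem subsingleton_H_two {B : Type u} [CommRing B] [IsNoetherianRing B] (J : Ideal B)
    {M N : Type u} [AddCommGroup M] [Module B M] [AddCommGroup N] [Module B N] [Module.Finite B N] (a : M →ₗ[B] N)
    (hker : ∀ z, a z = 0 → ∀ x ∈ J, ∃ n : ℕ, x ^ n • z = 0)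
    (hcoker : ∀ y, ∀ x ∈ J, ∃ n : ℕ, x ^ n • y ∈ LinearMap.range a)
    (hN : ((3 : ℕ) : ℕ∞) ≤ LocCoh.idealDepth J N) :
    Subsingleton (LocCoh.H J 2 M) := by
  let S₁ : ShortComplex (ModuleCat.{u} B) := ShortComplex.mk
    (ModuleCat.ofHom (LinearMap.ker a).subtype) (ModuleCat.ofHom a.rangeRestrict)
    (ModuleCat.hom_ext (LinearMap.ext fun z => Subtype.ext z.2))
  have hS₁ : S₁.ShortExact :=
    { exact := (ShortComplex.moduleCat_exact_iff _).2 fun x hx => ⟨⟨x, congrArg Subtype.val hx⟩, rfl⟩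
      mono_f := (ModuleCat.mono_iff_injective _).2 (LinearMap.ker a).injective_subtype
      epi_g := (ModuleCat.epi_iff_surjective _).2 a.surjective_rangeRestrict }
  have h1 : LocCoh.IsPowerTorsion J S₁.X₁ := GrothLib.FlatOff.isPowerTorsion_of_forall J fun z x hx => by
    obtain ⟨n, hn⟩ := hker z.1 z.2 x hx
    exact ⟨n, Subtype.ext hn⟩
  have hR : Subsingleton ((localCohomology J (1 + 1)).obj (ModuleCat.of B (LinearMap.range a))) :=
    GrothLib.LC.subsingleton₁ J (GrothLib.LC.subQuot_shortExact (M := ModuleCat.of B N) (LinearMap.range a)) 1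
      ((GrothLib.Depth.le_idealDepth_iff_H J 3).1 hN 2 (by omega))
      (GrothLib.LC.subsingleton_of_isPowerTorsion J 0 _ (GrothLib.FlatOff.isPowerTorsion_of_forall J fun z x hx => by
        obtain ⟨y, rfl⟩ := Submodule.Quotient.mk_surjective _ z
        obtain ⟨n, hn⟩ := hcoker y x hx
        exact ⟨n, (Submodule.Quotient.mk_smul _ _ _).symm.trans ((Submodule.Quotient.mk_eq_zero _).2 hn)⟩))
  haveI := hR
  exact (GrothLib.LC.map_bijective_of_torsion J hS₁ h1 1).1.subsingleton

variable {A : Type u} [CommRing A] [IsNoetherianRing A] {Y : Scheme.{u}} [Y.Over (Spec (CommRingCat.of A))]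
  [IsProper (Y ↘ Spec (CommRingCat.of A))]

/-- **`(S₃)` and Gorenstein in codimension two on a fibre give relative `(S₂)` along it.** -/
theorem relSkAt_of_fibre_S3 (d : ℕ)
    (hS : RelCanon.IsSkMor (Y ↘ Spec (CommRingCat.of A)) 2) (hd : Cyc.HasRelDim (Y ↘ Spec (CommRingCat.of A)) d)
    (ω : Y.Modules) (hω : RelCanon.IsDualizingSheaf A Y d ω)
    (hG : ∀ y : Y, y ∉ RelCanon.gorLocus (Y ↘ Spec (CommRingCat.of A)) →
      (2 : WithBot ℕ∞) ≤ ringKrullDim (((Y ↘ Spec (CommRingCat.of A)).fiber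
        ((Y ↘ Spec (CommRingCat.of A)) y)).presheaf.stalk ((Y ↘ Spec (CommRingCat.of A)).asFiber y)))
    (t : (Spec (CommRingCat.of A))) (ωt : ((Y ↘ Spec (CommRingCat.of A)).fiber t).Modules)
    (hωt : @RelCanon.IsDualizingSheaf ((Spec (CommRingCat.of A)).residueField t) _
      ((Y ↘ Spec (CommRingCat.of A)).fiber t) ⟨(Y ↘ Spec (CommRingCat.of A)).fiberToSpecResidueField t⟩ d ωt)
    (h2 : ∀ y : Y, (Y ↘ Spec (CommRingCat.of A)) y = t → y ∉ RelCanon.gorLocus (Y ↘ Spec (CommRingCat.of A)) →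
      (3 : WithBot ℕ∞) ≤ ringKrullDim (((Y ↘ Spec (CommRingCat.of A)).fiber
        ((Y ↘ Spec (CommRingCat.of A)) y)).presheaf.stalk ((Y ↘ Spec (CommRingCat.of A)).asFiber y)))
    (m : ℤ) (h3 : RelCanon.HasSk 3 (RelCanon.refPowZ ωt m))
    (z : (Y ↘ Spec (CommRingCat.of A)).fiber t) :
    RelCanon.RelSkAt (Y ↘ Spec (CommRingCat.of A)) 2 (RelCanon.refPowZ ω m)
      ((Y ↘ Spec (CommRingCat.of A)).fiberι t z) := by
  classical
  let f := Y ↘ Spec (CommRingCat.of A)
  haveI : Flat f := hS.1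
  haveI : LocallyOfFiniteType f := hS.2.1
  haveI : IsLocallyNoetherian Y := LocallyOfFiniteType.isLocallyNoetherian f
  haveI : IsIso (Spec.map (CommRingCat.ofHom (RingHom.id A))) := by rw [CommRingCat.ofHom_id, Spec.map_id]; infer_instance
  obtain ⟨hωc, -, U, hbc, hUg⟩ := exists_bcOn_gor d hS hd ω hω A (RingHom.id A) Y (𝟙 Y)
    (IsPullback.of_horiz_isIso ⟨by simp⟩) ω hω
  let ι := f.fiberι t
  let y := ι z
  let G := RelCanon.refPowZ ω m
  have hinv : ∀ x, x ∈ U → RelCanon.InvertibleAt G x :=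
    fun x hx => invertibleAt_of_restrict U (hbc.refPowZ hωc hωc m).1 x hx
  obtain ⟨hGc, hdata⟩ := exists_local_data_int d hS hd ω hω hG y m
  by_cases hy : y ∈ U
  · exact relSkAt_of_invertibleAt f hS hGc (hinv y hy)
  rcases hdata with hi | ⟨J₀, -, hrefl, -, -, -⟩
  · exact relSkAt_of_invertibleAt f hS hGc hi
  haveI := hrefl
  let C := Y.presheaf.stalk y
  let R := (Spec (CommRingCat.of A)).presheaf.stalk (f y)
  letI : Algebra R C := (f.stalkMap y).hom.toAlgebra
  haveI : IsLocalHom (algebraMap R C) := inferInstanceAs (IsLocalHom (f.stalkMap y).hom)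
  haveI : Module.Flat R C := Flat.stalkMap f y
  let F := G.presheaf.stalk y
  haveI : Module.Finite C F := QuasiFlat.finite_stalk _ hGc y
  letI : Module R F := Module.compHom F (f.stalkMap y).hom
  haveI : IsScalarTower R C F := IsScalarTower.of_algebraMap_smul fun _ _ => rfl
  let Z : Set (PrimeSpectrum C) := {q | pt y q ∉ U}
  have hZ : IsClosed Z := (U.isOpen.preimage (Y.fromSpecStalk y).continuous).isClosed_compl
  let J : Ideal C := PrimeSpectrum.vanishingIdeal Z
  have hJq : ∀ q : PrimeSpectrum C, J ≤ q.asIdeal → pt y q ∉ U := fun q hq => by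
    have h : q ∈ PrimeSpectrum.zeroLocus (J : Set C) := hq
    rw [PrimeSpectrum.zeroLocus_vanishingIdeal_eq_closure, hZ.closure_eq] at h
    exact h
  have hJq' : ∀ q : PrimeSpectrum C, ¬ J ≤ q.asIdeal → pt y q ∈ U := fun q hq => by
    by_contra h
    exact hq fun c hc => (PrimeSpectrum.mem_vanishingIdeal _ _).1 hc q h
  have hFU : ∀ q : PrimeSpectrum C, ¬ J ≤ q.asIdeal →
      Module.Free (Localization.AtPrime q.asIdeal) (LocalizedModule q.asIdeal.primeCompl F) :=
    fun q hq => free_localized_stalk hGc y q (hinv _ (hJq' q hq))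
  have hJtop : J ≠ ⊤ := fun h => by
    have hmem : (closedPoint C) ∈ Z := by
      show pt y (closedPoint C) ∉ U
      rwa [show pt y (closedPoint C) = y from Scheme.fromSpecStalk_closedPoint]
    exact (maximalIdeal.isMaximal C).ne_top (top_le_iff.1 (h ▸ fun c hc =>
      (PrimeSpectrum.mem_vanishingIdeal _ _).1 hc _ hmem))
  let I : Ideal C := (maximalIdeal R).map (algebraMap R C)
  obtain ⟨θ, -, hθ, -, -⟩ := exists_closed_equiv (C := C) C
  let X₀ := Localization.AtPrime (maximalIdeal C)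
  let θq : (C ⧸ I) ≃+* EGA4.FibLocRing R C (maximalIdeal C) := Ideal.quotientEquiv _ _ θ (by
      rw [Ideal.map_map, show (maximalIdeal C).comap (algebraMap R C) = maximalIdeal R from
        IsLocalRing.maximalIdeal_comap _, show (θ : C →+* X₀).comp (algebraMap R C) = algebraMap R X₀ from
        RingHom.ext fun r => (hθ _).trans (IsScalarTower.algebraMap_apply R C X₀ r).symm])
  have hS2 := hasSk_closedFibre f hS y
  have hcodim : ∀ r : PrimeSpectrum C, J ≤ r.asIdeal →
      r.asIdeal.comap (algebraMap R C) = (maximalIdeal C).comap (algebraMap R C) →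
      (2 : WithBot ℕ∞) ≤ ringKrullDim (EGA4.FibLocRing R C r.asIdeal) := fun r hr hrm => by
    have hfx : f (pt y r) = f y := by
      show f (Y.fromSpecStalk y r) = f y
      rw [← Scheme.Hom.comp_apply, ← Scheme.SpecMap_stalkMap_fromSpecStalk, Scheme.Hom.comp_apply,
        show Spec.map (f.stalkMap y) r = closedPoint R from
          PrimeSpectrum.ext (hrm.trans (IsLocalRing.maximalIdeal_comap _))]
      exact Scheme.fromSpecStalk_closedPoint
    exact (hG _ fun hg => hJq r hr (hUg _ hg)).trans (ringKrullDim_fibLoc_stalk f y r).ge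
  have hD : 2 ≤ LocCoh.idealDepth (J.map (Ideal.Quotient.mk I)) (C ⧸ I) := by
    have h := GrothLib.FlatOff.two_le_depth_fibLocRing (A := R) J (maximalIdeal C)
      (GrothLib.SnFibres.hasSk_congr θq hS2) hcodim
    rw [GrothLib.FiniteQuot.idealDepth_congr θq θq.toAddEquiv (fun a b => map_mul θq a b) (J.map (Ideal.Quotient.mk I)),
      Ideal.map_map, show (θq : (C ⧸ I) →+* EGA4.FibLocRing R C (maximalIdeal C)).comp (Ideal.Quotient.mk I) =
        algebraMap C (EGA4.FibLocRing R C (maximalIdeal C)) from RingHom.ext fun c => by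
          show Ideal.Quotient.mk _ (θ c) = _
          rw [hθ]; rfl]
    exact h
  have hC2 : 2 ≤ LocCoh.idealDepth J C := two_le_depth_self_of_fibre J hJtop hD
  let κ := (Spec (CommRingCat.of A)).residueField t
  let Xt := f.fiber t
  letI : Xt.Over (Spec (CommRingCat.of κ)) := ⟨f.fiberToSpecResidueField t⟩
  let φ : CommRingCat.of A ⟶ κ := Spec.preimage ((Spec (CommRingCat.of A)).fromSpecResidueField t)
  have hsq : IsPullback ι (Xt ↘ Spec (CommRingCat.of κ)) f (Spec.map (CommRingCat.ofHom φ.hom)) := by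
    change IsPullback ι (f.fiberToSpecResidueField t) f (Spec.map φ)
    rw [Spec.map_preimage]
    exact IsPullback.of_hasPullback _ _
  haveI : LocallyOfFiniteType (f.fiberToSpecResidueField t) :=
    MorphismProperty.pullback_snd _ _ (inferInstance : LocallyOfFiniteType f)
  haveI : IsLocallyNoetherian Xt := LocallyOfFiniteType.isLocallyNoetherian (f.fiberToSpecResidueField t)
  obtain ⟨⟨eDD⟩, -⟩ := refPowZ_baseChange d hS hd ω hω hG κ φ.hom Xt ι hsq ωt hωt m
  have hωtc : Coh.IsCoh ωt := (exists_bcOn_gor d hS hd ω hω κ φ.hom Xt ι hsq ωt hωt).2.1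
  let Nm := RelCanon.refPowZ ωt m
  have hNc : Coh.IsCoh Nm := isCoh_refPowZ hωtc m
  let P := (Scheme.Modules.pullback ι).obj G
  have hPc : Coh.IsCoh P := ModDesc.isCoh_pullback ι _ hGc
  let Q := Xt.presheaf.stalk z
  let π : C →+* Q := (ι.stalkMap z).hom
  let J' : Ideal Q := J.map π
  have hmem : ∀ w : Xt, f (ι w) = t := fun w =>
    (f.range_fiberι t ▸ Set.mem_range_self w : f.fiberι t w ∈ f ⁻¹' {t})
  have hN3' : ((3 : ℕ) : ℕ∞) ≤ LocCoh.idealDepth J' (Nm.presheaf.stalk z) := by
    refine le_idealDepth_stalk hNc 3 h3 z J' (fun q hq => ?_) fun x hx => ?_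
    · refine (h2 _ (hmem (pt z q)) fun hg => ?_).trans (dim_fibre_point f t (pt z q)).ge
      have h := hUg _ hg
      rw [map_pt] at h
      exact hJq _ (Ideal.map_le_iff_le_comap.1 hq) h
    · have hxU : ι x ∈ U := by
        by_contra hn
        have h := (hG _ fun hg => hn (hUg _ hg)).trans (dim_fibre_point f t x).ge
        rw [hx] at h
        exact absurd h (by decide)
      obtain ⟨e⟩ := nonempty_stalk_equiv_of_invertibleAt
        (invertibleAt_of_iso eDD.symm (invertibleAt_ddual_pullback ι x (hinv _ hxU)))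
      exact e.toEquiv.symm.nontrivial
  obtain ⟨θ', e', hθ', he'⟩ := exists_fibre_stalk_equiv_map f G t z
  obtain ⟨es⟩ := nonempty_ddual_stalk hPc z
  let Φ : Nm.presheaf.stalk z ≃ₗ[Q] Module.Dual Q (Module.Dual Q (P.presheaf.stalk z)) :=
    (DualFree20.stalkIso eDD.symm z).trans es
  haveI : Module.Finite Q (P.presheaf.stalk z) := QuasiFlat.finite_stalk _ hPc z
  haveI : Module.Finite Q (Nm.presheaf.stalk z) := QuasiFlat.finite_stalk _ hNc z
  have hPU : ∀ q : PrimeSpectrum Q, ¬ J' ≤ q.asIdeal →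
      Module.Free (Localization.AtPrime q.asIdeal) (LocalizedModule q.asIdeal.primeCompl (P.presheaf.stalk z)) :=
    fun q hq => free_localized_stalk hPc z q (invertibleAt_pullback ι _ (hinv _ (by
      rw [map_pt]
      exact hJq' _ fun h => hq (Ideal.map_le_iff_le_comap.2 h))))
  letI : Algebra C Q := π.toAlgebra
  haveI : Module.Finite C Q := Module.Finite.of_surjective (Algebra.linearMap C Q) (FibreFlat.fiberι_stalkMap f t z).1
  letI : Module C (Nm.presheaf.stalk z) := Module.compHom (Nm.presheaf.stalk z) π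
  haveI : IsScalarTower C Q (Nm.presheaf.stalk z) := IsScalarTower.of_algebraMap_smul fun _ _ => rfl
  haveI : Module.Finite C (Nm.presheaf.stalk z) := Module.Finite.trans Q _
  have hN3 : ((3 : ℕ) : ℕ∞) ≤ LocCoh.idealDepth J (Nm.presheaf.stalk z) := by
    rw [← GrothLib.Depth.idealDepth_map_eq (B := Q)]
    exact hN3'
  let M := EGA4.FibMod R C F
  have he : ∀ (c : C) (x : M), e' (c • x) = π c • e' x := fun c x => by
    rw [← hθ' c]
    obtain ⟨w, rfl⟩ := Submodule.Quotient.mk_surjective _ x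
    exact he' (Ideal.Quotient.mk _ c) (Submodule.Quotient.mk w)
  let a : M →ₗ[C] Nm.presheaf.stalk z :=
    { toFun := fun x => Φ.symm (Module.Dual.eval Q _ (e' x))
      map_add' := fun x x' => by rw [map_add, map_add, map_add]
      map_smul' := fun c x => by
        rw [he, map_smul, map_smul]
        rfl }
  have hH2 : Subsingleton (LocCoh.H J 2 M) := by
    refine subsingleton_H_two J a (fun w hw x hx => ?_) (fun n x hx => ?_) hN3
    · obtain ⟨k, σ, hσ, -⟩ := GrothLib.FlatOff.exists_pseudoInverse_eval J' (P.presheaf.stalk z) hPU (π x)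
        (Ideal.mem_map_of_mem π hx)
      have h0 : Module.Dual.eval Q _ (e' w) = 0 := Φ.symm.map_eq_zero_iff.1 hw
      refine ⟨k, e'.map_eq_zero_iff.1 ?_⟩
      rw [he, map_pow, ← hσ, h0, map_zero]
    · obtain ⟨k, σ, -, hσ⟩ := GrothLib.FlatOff.exists_pseudoInverse_eval J' (P.presheaf.stalk z) hPU (π x)
        (Ideal.mem_map_of_mem π hx)
      refine ⟨k, e'.symm (σ (Φ n)), ?_⟩
      show Φ.symm (Module.Dual.eval Q _ (e' (e'.symm (σ (Φ n))))) = π (x ^ k) • n
      rw [e'.apply_symm_apply, hσ, map_smul, Φ.symm_apply_apply, map_pow]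
  obtain ⟨N₀, N₁, g, h, hg, hgh, hfree⟩ := GrothLib.FreeOff.exists_presentation (B := C) F
  let Gc := (Fin N₁ → C) ⧸ LinearMap.range h
  have hGU : ∀ q : PrimeSpectrum C, ¬ J ≤ q.asIdeal → FlatCA.FlatAt R q.asIdeal Gc := fun q hq => by
    haveI := hfree q.asIdeal (hFU q hq)
    haveI : Module.Flat R (Localization.AtPrime q.asIdeal) :=
      haveI : Module.Flat C (Localization.AtPrime q.asIdeal) := IsLocalization.flat _ q.asIdeal.primeCompl
      Module.Flat.trans R C _
    haveI : IsScalarTower R (Localization.AtPrime q.asIdeal) (LocalizedModule q.asIdeal.primeCompl Gc) :=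
      IsScalarTower.of_algebraMap_smul fun r w => by
        rw [IsScalarTower.algebraMap_apply R C (Localization.AtPrime q.asIdeal), algebraMap_smul, algebraMap_smul]
    exact Module.Flat.trans R (Localization.AtPrime q.asIdeal) _
  have hDC : ((2 : ℕ) : ℕ∞) ≤ LocCoh.idealDepth J (C ⧸ I) := by
    rw [← GrothLib.Depth.idealDepth_map_eq (B := C ⧸ I)]
    exact_mod_cast hD
  have hfr : ∀ k : ℕ, ((2 : ℕ) : ℕ∞) ≤ LocCoh.idealDepth J (EGA4.FibMod R C (Fin k → C)) := fun k => by
    let e : EGA4.FibMod R C (Fin k → C) ≃ₗ[C] (Fin k → C ⧸ I) :=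
      (TensorProduct.quotTensorEquivQuotSMul (Fin k → C) I).symm.trans (TensorProduct.piScalarRight C C (C ⧸ I) (Fin k))
    rw [GrothLib.Depth.idealDepth_eq_of_equiv _ e]
    exact GrothLib.DepthKer.le_idealDepth_pi _ _ hDC k
  haveI : Module.Flat R (Fin N₀ → C) := Module.Flat.trans R C _
  haveI : Module.Flat R (Fin N₁ → C) := Module.Flat.trans R C _
  obtain ⟨hFflat, -, hfib⟩ := Groth.Agent.S18726.result R C J F (Fin N₀ → C) (Fin N₁ → C) Gc g h
    (LinearMap.range h).mkQ hg hgh (LinearMap.exact_map_mkQ_range h) (Submodule.mkQ_surjective _) hGU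
    (by exact_mod_cast hfr N₀) ((one_le_two).trans (by exact_mod_cast hfr N₁)) hH2
  have hfib' : 2 ≤ LocCoh.idealDepth (J.map (Ideal.Quotient.mk I)) (F ⧸ (I • ⊤ : Submodule C F)) := by
    haveI : Module.Finite (C ⧸ I) (F ⧸ (I • ⊤ : Submodule C F)) := Module.Finite.of_restrictScalars_finite C _ _
    show 2 ≤ LocCoh.idealDepth (J.map (algebraMap C (C ⧸ I))) _
    rw [GrothLib.Depth.idealDepth_map_eq (B := C ⧸ I)]
    exact hfib
  exact (relSkAt_iff_good f hGc 2 y).2 ⟨hFflat,
    GrothLib.FlatOff.hasSk_two_of_depth _ J (fun Q' hQ hJQ => by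
      haveI := hFU ⟨Q', hQ⟩ hJQ
      obtain ⟨k, α, β, s, hs⟩ := GrothLib.FreeOff.exists_factor_of_free (B := C) F Q'
      exact ⟨k, α, β, s, s.2, hs⟩) hS2 hfib'⟩

end GrothLib.ArtCrit20

end
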