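import Groth.Agent.Lib.ArtCrit20.RootGlue
import Groth.Agent.Lib.ArtCrit20.S3Fibre
import Groth.Agent.Lib.FPGen24.Stalk
import Groth.Agent.Lib.SkNhd1.Basic

/-!
# Quasi-Gorenstein fibres and a root of a trivial power
-/

set_option autoImplicit false
set_option linter.all false
set_option backward.isDefEq.respectTransparency false
set_option maxHeartbeats 2000000

universe u

open CategoryTheory CategoryTheory.Limits AlgebraicGeometry TopologicalSpace IsLocalRing Function
open scoped TensorProduct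

noncomputable section

namespace GrothLib.ArtCrit20

open GrothLib.OX GrothLib.RightAdj22 GrothLib.DualFree20

section Stalks

variable {X : Scheme.{u}} (L : X.Modules) (x : X)

/-- The power of a germ. -/
def powStalk : ∀ k : ℕ, L.presheaf.stalk x → (CohB1.tensorPow L k).presheaf.stalk x
  | 0 => fun _ => (FPGen24.scal x).symm 1
  | k + 1 => fun w => Ref1.tmulStalk (CohB1.tensorPow L k) L x (powStalk k w) w

theorem powStalk_smul (c : X.presheaf.stalk x) (w : L.presheaf.stalk x) :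
    ∀ k : ℕ, powStalk L x k (c • w) = c ^ k • powStalk L x k w
  | 0 => by simp [powStalk]
  | k + 1 => by
    show Ref1.tmulStalk _ L x (powStalk L x k (c • w)) (c • w) = _
    rw [powStalk_smul c w k, map_smul, LinearMap.map_smul, LinearMap.smul_apply, smul_smul, ← pow_succ']
    rfl

theorem powStalk_congr (K : Ideal (X.presheaf.stalk x)) (w w' : L.presheaf.stalk x)
    (h : w - w' ∈ (K • ⊤ : Submodule (X.presheaf.stalk x) (L.presheaf.stalk x))) :
    ∀ k : ℕ, powStalk L x k w - powStalk L x k w' ∈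
      (K • ⊤ : Submodule (X.presheaf.stalk x) ((CohB1.tensorPow L k).presheaf.stalk x))
  | 0 => by simp [powStalk]
  | k + 1 => by
    let t := Ref1.tmulStalk (CohB1.tensorPow L k) L x
    show t (powStalk L x k w) w - t (powStalk L x k w') w' ∈
      (K • ⊤ : Submodule (X.presheaf.stalk x) ((CohB1.tensorMod (CohB1.tensorPow L k) L).presheaf.stalk x))
    rw [show t (powStalk L x k w) w - t (powStalk L x k w') w' =
      t (powStalk L x k w - powStalk L x k w') w + t (powStalk L x k w') (w - w') by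
        rw [map_sub, LinearMap.sub_apply, map_sub]; abel]
    refine add_mem ?_ ?_
    · exact (Submodule.map_le_iff_le_comap.1 ((Submodule.map_smul'' K ⊤ (t.flip w)).le.trans
        (Submodule.smul_mono le_rfl le_top))) (powStalk_congr K w w' h k)
    · exact (Submodule.map_le_iff_le_comap.1 ((Submodule.map_smul'' K ⊤ (t (powStalk L x k w'))).le.trans
        (Submodule.smul_mono le_rfl le_top))) h

theorem powStalk_gen (K : Ideal (X.presheaf.stalk x)) (z : X.presheaf.stalk x) (e : L.presheaf.stalk x)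
    (h : ∀ w : L.presheaf.stalk x, ∃ (l : ℕ) (c : X.presheaf.stalk x),
      z ^ l • w - c • e ∈ (K • ⊤ : Submodule (X.presheaf.stalk x) (L.presheaf.stalk x))) :
    ∀ (k : ℕ) (v : (CohB1.tensorPow L k).presheaf.stalk x), ∃ (l : ℕ) (c : X.presheaf.stalk x),
      z ^ l • v - c • powStalk L x k e ∈
        (K • ⊤ : Submodule (X.presheaf.stalk x) ((CohB1.tensorPow L k).presheaf.stalk x)) := by
  intro k
  induction k with
  | zero =>
    show ∀ v : (Coh.structureModule X).presheaf.stalk x, ∃ (l : ℕ) (c : X.presheaf.stalk x),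
      z ^ l • v - c • (FPGen24.scal x).symm 1 ∈
        (K • ⊤ : Submodule (X.presheaf.stalk x) ((Coh.structureModule X).presheaf.stalk x))
    intro v
    refine ⟨0, FPGen24.scal x v, ?_⟩
    rw [pow_zero, one_smul]
    rw [← map_smul, smul_eq_mul, mul_one, LinearEquiv.symm_apply_apply, sub_self]
    exact zero_mem _
  | succ k ih =>
    let t := Ref1.tmulStalk (CohB1.tensorPow L k) L x
    show ∀ v : (CohB1.tensorMod (CohB1.tensorPow L k) L).presheaf.stalk x, ∃ (l : ℕ) (c : X.presheaf.stalk x),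
      z ^ l • v - c • t (powStalk L x k e) e ∈
        (K • ⊤ : Submodule (X.presheaf.stalk x) ((CohB1.tensorMod (CohB1.tensorPow L k) L).presheaf.stalk x))
    intro v
    refine FPGen24.tens_induction (P := fun v => ∃ (l : ℕ) (c : X.presheaf.stalk x),
      z ^ l • v - c • t (powStalk L x k e) e ∈ (K • ⊤ : Submodule (X.presheaf.stalk x) _)) ⟨0, 0, by simp⟩ ?_ ?_ v
    · intro a b
      obtain ⟨l, c, hc⟩ := ih a
      obtain ⟨l', c', hc'⟩ := h b
      refine ⟨l + l', c * c', ?_⟩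
      let p := powStalk L x k e
      rw [show z ^ (l + l') • t a b - (c * c') • t p e = t (z ^ l • a - c • p) (z ^ l' • b) + c • t p (z ^ l' • b - c' • e) by
        simp only [map_sub, LinearMap.sub_apply, map_smul, LinearMap.smul_apply, pow_add]
        module]
      refine add_mem ?_ (Submodule.smul_mem _ _ ?_)
      · exact (Submodule.map_le_iff_le_comap.1 ((Submodule.map_smul'' K ⊤ (t.flip (z ^ l' • b))).le.trans
          (Submodule.smul_mono le_rfl le_top))) hc
      · exact (Submodule.map_le_iff_le_comap.1 ((Submodule.map_smul'' K ⊤ (t p)).le.trans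
          (Submodule.smul_mono le_rfl le_top))) hc'
    · rintro u v ⟨l, c, hc⟩ ⟨l', c', hc'⟩
      refine ⟨l + l', z ^ l' * c + z ^ l * c', ?_⟩
      have := add_mem (Submodule.smul_mem _ (z ^ l') hc) (Submodule.smul_mem _ (z ^ l) hc')
      convert this using 1
      simp only [pow_add, smul_add, smul_sub, add_smul, mul_smul, smul_comm (z ^ l) (z ^ l')]
      abel

end Stalks

/-- Functionals of a module and of one agreeing with it off a regular pair. -/
theorem bijective_comp_of_pseudo {C C' : Type u} [CommRing C] [CommRing C'] [Algebra C C'] (x y : C)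
    (hp : RegPair C' (algebraMap C C' x) (algebraMap C C' y))
    {W F : Type u} [AddCommGroup W] [Module C W] [AddCommGroup F] [Module C F] (η : W →ₗ[C] F)
    (hx : ∃ (k : ℕ) (σ : F →ₗ[C] W), (∀ w, σ (η w) = x ^ k • w) ∧ ∀ f, η (σ f) = x ^ k • f)
    (hy : ∃ (k : ℕ) (σ : F →ₗ[C] W), (∀ w, σ (η w) = y ^ k • w) ∧ ∀ f, η (σ f) = y ^ k • f) :
    Bijective (fun g : F →ₗ[C] C' => g.comp η) := by
  obtain ⟨k, σ, hσ, hσ'⟩ := hx
  obtain ⟨m, τ, hτ, hτ'⟩ := hy
  let X := algebraMap C C' x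
  let Y := algebraMap C C' y
  have hsm : ∀ (a : C) (j : ℕ) (v : C'), a ^ j • v = algebraMap C C' a ^ j * v := fun a j v => by
    rw [Algebra.smul_def, map_pow]
  refine ⟨fun g g' hg => LinearMap.ext fun f => sub_eq_zero.1 (hp.left_pow k _ ?_), fun h => ?_⟩
  · rw [mul_sub, ← hsm, ← hsm, ← map_smul g, ← map_smul g', ← hσ']
    exact sub_eq_zero.2 (LinearMap.congr_fun hg (σ f))
  have hrel : ∀ f, Y ^ m * h (σ f) = X ^ k * h (τ f) := fun f => by
    rw [← hsm, ← hsm, ← map_smul h, ← map_smul h, ← hτ (σ f), hσ', map_smul]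
  choose g hg using fun f => hp.div_pow k m _ _ (hrel f)
  refine ⟨⟨⟨g, fun f f' => ?_⟩, fun c f => ?_⟩, LinearMap.ext fun w => ?_⟩
  · refine sub_eq_zero.1 (hp.left_pow k _ ?_)
    rw [mul_sub, mul_add, ← hg, ← hg, ← hg, map_add, map_add, sub_self]
  · refine sub_eq_zero.1 (hp.left_pow k _ ?_)
    rw [RingHom.id_apply, mul_sub, ← hg, mul_smul_comm, ← hg, map_smul, map_smul, sub_self]
  · refine sub_eq_zero.1 (hp.left_pow k _ ?_)
    show X ^ k * (g (η w) - h w) = 0
    rw [mul_sub, ← hg, hσ, map_smul, hsm, sub_self]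

section Test

variable {R C : Type u} [CommRing R] [IsLocalRing R] [IsNoetherianRing R] [CommRing C] [IsLocalRing C]
  [IsNoetherianRing C] [Algebra R C] [IsLocalHom (algebraMap R C)] [Module.Flat R C]

/-- The double dual on an Artinian test is trivial. -/
theorem nonempty_ddual_equiv_of_root (J : Ideal C) (hJm : J ≤ maximalIdeal C) (x x' : C) (hxJ : x ∈ J) (hx'J : x' ∈ J)
    (hreg : RingTheory.Sequence.IsWeaklyRegular (C ⧸ (maximalIdeal R).map (algebraMap R C)) [x, x'])
    {W F : Type u} [AddCommGroup W] [Module C W] [AddCommGroup F] [Module C F] [Module.Finite C F] (η : W →ₗ[C] F)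
    (hη : ∀ a : C, a ∈ J → ∃ (k : ℕ) (σ : F →ₗ[C] W), (∀ w, σ (η w) = a ^ k • w) ∧ ∀ v, η (σ v) = a ^ k • v)
    (r : ℕ) (hr : IsUnit (r : C)) (Q : W → C) (hQh : ∀ (c : C) w, Q (c • w) = c ^ r * Q w)
    (hQc : ∀ (K : Ideal C) w w', w - w' ∈ (K • ⊤ : Submodule C W) → Q w - Q w' ∈ K)
    (ψ : W → (W →ₗ[C] C)) (hψ : ∀ e, ψ e e = Q e)
    (hQgen : ∀ z ∈ J, ∀ (L : Ideal C) (e : W),
      (∀ w, ∃ (l : ℕ) (c : C), z ^ l • w - c • e ∈ (L • ⊤ : Submodule C W)) →
      ∃ (l : ℕ) (c : C), z ^ l - c * Q e ∈ L)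
    (red₀ : W →ₗ[C] C ⧸ (maximalIdeal R).map (algebraMap R C))
    (hker₀ : ∀ a ∈ J, ∀ w, red₀ w = 0 → ∃ l : ℕ, a ^ l • w ∈ ((maximalIdeal R).map (algebraMap R C) • ⊤ : Submodule C W))
    (hcok₀ : ∀ a ∈ J, ∃ (k : ℕ) (e : W), red₀ e = Ideal.Quotient.mk _ (a ^ k))
    (K : Ideal R) [IsArtinianRing (R ⧸ K)] [IsLocalRing (R ⧸ K)] :
    Nonempty (Module.Dual (C ⧸ K.map (algebraMap R C))
      (Module.Dual (C ⧸ K.map (algebraMap R C)) ((C ⧸ K.map (algebraMap R C)) ⊗[C] F)) ≃ₗ[C ⧸ K.map (algebraMap R C)]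
      (C ⧸ K.map (algebraMap R C))) := by
  classical
  let I : Ideal C := (maximalIdeal R).map (algebraMap R C)
  have hIm : I ≤ maximalIdeal C := Ideal.map_le_iff_le_comap.2 (IsLocalRing.maximalIdeal_comap (algebraMap R C)).ge
  let C' := C ⧸ K.map (algebraMap R C)
  have hKle : K ≤ maximalIdeal R := IsLocalRing.le_maximalIdeal fun h => by
    subst h
    exact false_of_nontrivial_of_subsingleton (R ⧸ (⊤ : Ideal R))
  have hKI : K.map (algebraMap R C) ≤ I := Ideal.map_mono hKle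
  have hsC : Surjective (algebraMap C C') := Ideal.Quotient.mk_surjective
  haveI : Nontrivial C' := Ideal.Quotient.nontrivial_iff.2 fun h => (maximalIdeal.isMaximal C).ne_top
    (top_le_iff.1 (h ▸ hKI.trans hIm))
  haveI : IsLocalRing C' := IsLocalRing.of_surjective' _ hsC
  haveI : IsLocalHom (algebraMap C C') := IsLocalHom.of_surjective _ hsC
  have hkerC : RingHom.ker (algebraMap C C') = K.map (algebraMap R C) := Ideal.mk_ker
  obtain ⟨n, hn⟩ : ∃ n, maximalIdeal (R ⧸ K) ^ n = ⊥ := IsArtinianRing.isNilpotent_jacobson_bot.imp fun n hn => by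
    rw [IsLocalRing.jacobson_eq_maximalIdeal (⊥ : Ideal (R ⧸ K)) bot_ne_top] at hn
    exact hn
  have hn' : I ^ n ≤ RingHom.ker (algebraMap C C') := by
    rw [hkerC, ← Ideal.map_pow]
    refine Ideal.map_mono ?_
    rw [← Ideal.mk_ker (I := K), ← Ideal.map_eq_bot_iff_le_ker, Ideal.map_pow,
      IsLocalRing.map_maximalIdeal_of_surjective _ Ideal.Quotient.mk_surjective]
    exact hn
  haveI : Module.Flat (R ⧸ K) C' := by
    let e : (R ⧸ K) ⊗[R] C ≃ₗ[R] C' := (TensorProduct.quotTensorEquivQuotSMul C K).trans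
      ((Submodule.quotEquivOfEq _ _ (Ideal.smul_top_eq_map K)).trans
        (Submodule.Quotient.restrictScalarsEquiv R (K.map (algebraMap R C))))
    exact Module.Flat.of_linearEquiv (LinearEquiv.extendScalarsOfSurjective Ideal.Quotient.mk_surjective e).symm
  haveI : IsLocalHom (algebraMap (R ⧸ K) C') := ⟨fun a ha => by
    obtain ⟨a, rfl⟩ := Ideal.Quotient.mk_surjective a
    have h : IsUnit (algebraMap C C' (algebraMap R C a)) := ha
    exact ((isUnit_of_map_unit _ _ (isUnit_of_map_unit _ _ h))).map _⟩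
  let N' : Ideal C' := I.map (algebraMap C C')
  have hN' : (maximalIdeal (R ⧸ K)).map (algebraMap (R ⧸ K) C') = N' := by
    rw [← IsLocalRing.map_maximalIdeal_of_surjective (Ideal.Quotient.mk K) Ideal.Quotient.mk_surjective, Ideal.map_map,
      show N' = (maximalIdeal R).map ((algebraMap C C').comp (algebraMap R C)) from Ideal.map_map _ _]
    rfl
  let e₀ : (C ⧸ I) ≃ₗ[C] (C' ⧸ N') := LinearEquiv.ofBijective
    (Submodule.mapQ I (N'.restrictScalars C) (Algebra.linearMap C C') fun a ha => Ideal.mem_map_of_mem _ ha) (by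
      refine ⟨?_, ?_⟩
      · rw [injective_iff_map_eq_zero]
        intro v hv
        obtain ⟨a, rfl⟩ := Submodule.Quotient.mk_surjective _ v
        have : algebraMap C C' a ∈ N' := (Submodule.Quotient.mk_eq_zero _).1 hv
        rw [← Ideal.mem_comap, Ideal.comap_map_of_surjective _ hsC, ← RingHom.ker_eq_comap_bot,
          sup_eq_left.2 (hkerC.le.trans hKI)] at this
        exact (Submodule.Quotient.mk_eq_zero _).2 this
      · intro v
        obtain ⟨b, rfl⟩ := Submodule.Quotient.mk_surjective _ v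
        obtain ⟨a, rfl⟩ := hsC b
        exact ⟨Submodule.Quotient.mk a, rfl⟩)
  have hreg' : RingTheory.Sequence.IsWeaklyRegular (C' ⧸ N') [x, x'] := (e₀.isWeaklyRegular_congr _).1 hreg
  haveI : Nontrivial (C ⧸ I) := Ideal.Quotient.nontrivial_iff.2 fun h => (maximalIdeal.isMaximal C).ne_top
    (top_le_iff.1 (h ▸ hIm))
  haveI : Nontrivial (C' ⧸ N') := e₀.injective.nontrivial
  haveI : IsLocalRing (C' ⧸ N') := IsLocalRing.of_surjective' (Ideal.Quotient.mk N') Ideal.Quotient.mk_surjective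
  haveI : IsLocalHom (Ideal.Quotient.mk N') := IsLocalHom.of_surjective _ Ideal.Quotient.mk_surjective
  have hmx : ∀ {a : C}, a ∈ J → algebraMap C C' a ∈ maximalIdeal C' := fun ha => by
    rw [← IsLocalRing.map_maximalIdeal_of_surjective (algebraMap C C') hsC]
    exact Ideal.mem_map_of_mem _ (hJm ha)
  have hregC' : RingTheory.Sequence.IsWeaklyRegular C' [algebraMap C C' x, algebraMap C C' x'] := by
    refine GrothLib.DimCut.isWeaklyRegular_of_fibre (A := R ⧸ K) _ C' ?_
    rw [hN']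
    refine ((Submodule.quotEquivOfEq (N' • ⊤ : Submodule C' C') N' (by rw [smul_eq_mul, Ideal.mul_top])).isWeaklyRegular_congr _).2 ?_
    exact (RingTheory.Sequence.isWeaklyRegular_map_algebraMap_iff C' (C' ⧸ N') [x, x']).2 hreg'
  have hp : RegPair C' (algebraMap C C' x) (algebraMap C C' x') := RegPair.of_isWeaklyRegular (hmx hxJ) hregC'
  have hp₀ : RegPair (C' ⧸ N') (Ideal.Quotient.mk N' (algebraMap C C' x)) (Ideal.Quotient.mk N' (algebraMap C C' x')) := by
    refine RegPair.of_isWeaklyRegular ?_ ?_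
    · rw [← IsLocalRing.map_maximalIdeal_of_surjective (Ideal.Quotient.mk N') Ideal.Quotient.mk_surjective]
      exact Ideal.mem_map_of_mem _ (hmx hxJ)
    · exact (RingTheory.Sequence.isWeaklyRegular_map_algebraMap_iff (C' ⧸ N') (C' ⧸ N') [x, x']).2 hreg'
  let red : W →ₗ[C] C' ⧸ N' := e₀.toLinearMap.comp red₀
  have hz : ∀ {z : C}, (z = x ∨ z = x') → z ∈ J := fun h => h.elim (fun h => h ▸ hxJ) (fun h => h ▸ hx'J)
  obtain ⟨φ₁, hφ₁⟩ := exists_generator_functionals hsC I n hn' (hkerC.le.trans hKI) r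
    (by have := hr.map (algebraMap C C'); rwa [map_natCast] at this) x x' hp hp₀ Q hQh hQc ψ hψ
    (fun z hz' e hgen => hQgen z (hz hz') _ e hgen)
    red (fun z hz' w hw => hker₀ z (hz hz') w (e₀.map_eq_zero_iff.1 hw))
    (fun z hz' => by
      obtain ⟨k, e, hk⟩ := hcok₀ z (hz hz')
      exact ⟨k, e, by show e₀ (red₀ e) = _; rw [hk]; rfl⟩)
  let mkφ : C' →ₗ[C'] (W →ₗ[C] C') := LinearMap.toSpanSingleton C' _ φ₁
  let eW : C' ≃ₗ[C'] (W →ₗ[C] C') := LinearEquiv.ofBijective mkφ hφ₁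
  let pre : (F →ₗ[C] C') →ₗ[C'] (W →ₗ[C] C') :=
    { toFun := fun g => g.comp η
      map_add' := fun _ _ => rfl
      map_smul' := fun _ _ => rfl }
  let eP : (F →ₗ[C] C') ≃ₗ[C'] (W →ₗ[C] C') :=
    LinearEquiv.ofBijective pre (bijective_comp_of_pseudo x x' hp η (hη x hxJ) (hη x' hx'J))
  let eD : Module.Dual C' (C' ⊗[C] F) ≃ₗ[C'] C' :=
    (LinearMap.liftBaseChangeEquiv C').symm.trans (eP.trans eW.symm)
  exact ⟨eD.symm.dualMap.trans (LinearMap.ringLmapEquivSelf C' C' C')⟩

end Test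

variable {A : Type u} [CommRing A] [IsNoetherianRing A] {Y : Scheme.{u}} [Y.Over (Spec (CommRingCat.of A))]
  [IsProper (Y ↘ Spec (CommRingCat.of A))]

-- an invertible power prime to the characteristic and a quasi-Gorenstein fibre give invertibility
set_option maxHeartbeats 8000000 in
theorem invertibleAt_refPowZ_of_root (d : ℕ)
    (hS : RelCanon.IsSkMor (Y ↘ Spec (CommRingCat.of A)) 2) (hd : Cyc.HasRelDim (Y ↘ Spec (CommRingCat.of A)) d)
    (ω : Y.Modules) (hω : RelCanon.IsDualizingSheaf A Y d ω)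
    (t : (Spec (CommRingCat.of A)))
    (hG1 : ∀ y : Y, (Y ↘ Spec (CommRingCat.of A)) y = t → y ∉ RelCanon.gorLocus (Y ↘ Spec (CommRingCat.of A)) →
      (2 : WithBot ℕ∞) ≤ ringKrullDim (((Y ↘ Spec (CommRingCat.of A)).fiber
        ((Y ↘ Spec (CommRingCat.of A)) y)).presheaf.stalk ((Y ↘ Spec (CommRingCat.of A)).asFiber y)))
    (hqg : ∀ ωt : ((Y ↘ Spec (CommRingCat.of A)).fiber t).Modules,
      @RelCanon.IsDualizingSheaf ((Spec (CommRingCat.of A)).residueField t) _ ((Y ↘ Spec (CommRingCat.of A)).fiber t)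
        ⟨(Y ↘ Spec (CommRingCat.of A)).fiberToSpecResidueField t⟩ d ωt → PicF.IsInvertible ωt)
    (r₀ : ℕ) (hrk : ((r₀ + 1 : ℕ) : (Spec (CommRingCat.of A)).residueField t) ≠ 0)
    (z₀ : (Y ↘ Spec (CommRingCat.of A)).fiber t)
    (hinv : RelCanon.InvertibleAt (RelCanon.refPowZ ω ((r₀ + 1 : ℕ) : ℤ)) ((Y ↘ Spec (CommRingCat.of A)).fiberι t z₀))
    (m : ℤ) : RelCanon.InvertibleAt (RelCanon.refPowZ ω m) ((Y ↘ Spec (CommRingCat.of A)).fiberι t z₀) := by
  classical
  let f := Y ↘ Spec (CommRingCat.of A)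
  haveI : Flat f := hS.1
  haveI : LocallyOfFiniteType f := hS.2.1
  haveI : LocallyOfFinitePresentation f := GrothLib.LocProp.locallyOfFinitePresentation_of_isLocallyNoetherian f
  haveI : IsLocallyNoetherian Y := LocallyOfFiniteType.isLocallyNoetherian f
  haveI : IsIso (Spec.map (CommRingCat.ofHom (RingHom.id A))) := by rw [CommRingCat.ofHom_id, Spec.map_id]; infer_instance
  obtain ⟨hωc, -, U, hbc, hUg⟩ := exists_bcOn_gor d hS hd ω hω A (RingHom.id A) Y (𝟙 Y)
    (IsPullback.of_horiz_isIso ⟨by simp⟩) ω hω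
  let ι := f.fiberι t
  let y := ι z₀
  by_cases hy : y ∈ U
  · exact invertibleAt_of_restrict U (hbc.refPowZ hωc hωc m).1 y hy
  have hfy : f y = t := (f.range_fiberι t ▸ Set.mem_range_self z₀ : f.fiberι t z₀ ∈ f ⁻¹' {t})
  haveI : IsNoetherianRing ((f.fiber (f y)).presheaf.stalk (f.asFiber y)) :=
    GrothLib.DimCut.isNoetherianRing_stalk_fiber f _ _
  haveI : Module.Finite ((f.fiber (f y)).presheaf.stalk (f.asFiber y))
      ((Coh.structureModule (f.fiber (f y))).presheaf.stalk (f.asFiber y)) :=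
    Module.Finite.equiv (GrothLib.HomSh.unitStalk (X := f.fiber (f y)) (f.asFiber y))
  obtain ⟨V, -, hyV, -, -, hcV⟩ := GrothLib.SkNhd1.exists_nhd f 2 le_rfl y
    (GrothLib.SkExt.hasSk_congr (GrothLib.HomSh.unitStalk (X := f.fiber (f y)) (f.asFiber y)).symm (hS.2.2 y)) U 2
    (fun w hw hwU _ => hG1 w (hw.trans hfy) fun hg => hwU (hUg _ hg))
  -- the local data at the point
  let C := Y.presheaf.stalk y
  let R := (Spec (CommRingCat.of A)).presheaf.stalk (f y)
  letI : Algebra R C := (f.stalkMap y).hom.toAlgebra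
  haveI : IsLocalHom (algebraMap R C) := inferInstanceAs (IsLocalHom (f.stalkMap y).hom)
  haveI : Module.Flat R C := Flat.stalkMap f y
  let Z : Set (PrimeSpectrum C) := {q | pt y q ∉ U}
  have hZ : IsClosed Z := (U.isOpen.preimage (Y.fromSpecStalk y).continuous).isClosed_compl
  let J : Ideal C := PrimeSpectrum.vanishingIdeal Z
  have hJq : ∀ q : PrimeSpectrum C, J ≤ q.asIdeal → pt y q ∉ U := fun q hq => by
    have h : q ∈ PrimeSpectrum.zeroLocus (J : Set C) := hq
    rw [PrimeSpectrum.zeroLocus_vanishingIdeal_eq_closure, hZ.closure_eq] at h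
    exact h
  have hJq' : ∀ q : PrimeSpectrum C, ¬ J ≤ q.asIdeal → pt y q ∈ U := fun q hq => by
    by_contra h
    exact hq fun c hc => (PrimeSpectrum.mem_vanishingIdeal _ _).1 hc q h
  have hJtop : J ≠ ⊤ := fun h => by
    have hmem : (closedPoint C) ∈ Z := by
      show pt y (closedPoint C) ∉ U
      rwa [show pt y (closedPoint C) = y from Scheme.fromSpecStalk_closedPoint]
    exact (maximalIdeal.isMaximal C).ne_top (top_le_iff.1 (h ▸ fun c hc =>
      (PrimeSpectrum.mem_vanishingIdeal _ _).1 hc _ hmem))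
  have hgenV : ∀ q : PrimeSpectrum C, pt y q ∈ V := fun q => by
    have h : pt y q ∈ Set.range (Y.fromSpecStalk y) := ⟨q, rfl⟩
    rw [Scheme.range_fromSpecStalk] at h
    exact Specializes.mem_open h V.2 hyV
  have hcodim : ∀ q : PrimeSpectrum C, J ≤ q.asIdeal →
      (2 : WithBot ℕ∞) ≤ ringKrullDim (EGA4.FibLocRing R C q.asIdeal) := fun q hq =>
    (hcV _ (hgenV q) (hJq q hq)).trans (ringKrullDim_fibLoc_stalk f y q).ge
  let I : Ideal C := (maximalIdeal R).map (algebraMap R C)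
  obtain ⟨θ, -, hθ, -, -⟩ := exists_closed_equiv (C := C) C
  let X₀ := Localization.AtPrime (maximalIdeal C)
  let θq : (C ⧸ I) ≃+* EGA4.FibLocRing R C (maximalIdeal C) := Ideal.quotientEquiv _ _ θ (by
      rw [Ideal.map_map, show (maximalIdeal C).comap (algebraMap R C) = maximalIdeal R from
        IsLocalRing.maximalIdeal_comap _, show (θ : C →+* X₀).comp (algebraMap R C) = algebraMap R X₀ from
        RingHom.ext fun r => (hθ _).trans (IsScalarTower.algebraMap_apply R C X₀ r).symm])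
  have hS2 := hasSk_closedFibre f hS y
  have hD : 2 ≤ LocCoh.idealDepth (J.map (Ideal.Quotient.mk I)) (C ⧸ I) := by
    have h := GrothLib.FlatOff.two_le_depth_fibLocRing (A := R) J (maximalIdeal C)
      (GrothLib.SnFibres.hasSk_congr θq hS2) (fun q hq _ => hcodim q hq)
    rw [GrothLib.FiniteQuot.idealDepth_congr θq θq.toAddEquiv (fun a b => map_mul θq a b) (J.map (Ideal.Quotient.mk I)),
      Ideal.map_map, show (θq : (C ⧸ I) →+* EGA4.FibLocRing R C (maximalIdeal C)).comp (Ideal.Quotient.mk I) =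
        algebraMap C (EGA4.FibLocRing R C (maximalIdeal C)) from RingHom.ext fun c => by
          show Ideal.Quotient.mk _ (θ c) = _
          rw [hθ]; rfl]
    exact h
  have hC2 : 2 ≤ LocCoh.idealDepth J C := two_le_depth_self_of_fibre J hJtop hD
  -- a regular pair in `J`
  have hIm : I ≤ maximalIdeal C := Ideal.map_le_iff_le_comap.2 (IsLocalRing.maximalIdeal_comap (algebraMap R C)).ge
  have hJm : J ≤ maximalIdeal C := IsLocalRing.le_maximalIdeal hJtop
  haveI : Nontrivial (C ⧸ I) := Ideal.Quotient.nontrivial_iff.2 fun h => (maximalIdeal.isMaximal C).ne_top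
    (top_le_iff.1 (h ▸ hIm))
  obtain ⟨x, x', hxJ, hx'J, hreg⟩ : ∃ x x' : C, x ∈ J ∧ x' ∈ J ∧
      RingTheory.Sequence.IsWeaklyRegular (C ⧸ I) [x, x'] := by
    have h : ((2 : ℕ) : ℕ∞) ≤ LocCoh.idealDepth J (C ⧸ I) := by
      rw [← GrothLib.Depth.idealDepth_map_eq (B := C ⧸ I)]; exact_mod_cast hD
    have hne : J • (⊤ : Submodule C (C ⧸ I)) ≠ ⊤ := fun h => by
      refine (bot_ne_top : (⊥ : Submodule C (C ⧸ I)) ≠ ⊤) (Submodule.eq_bot_of_le_smul_of_le_jacobson_bot J ⊤
        (Module.Finite.fg_top (R := C) (M := C ⧸ I)) (by rw [h]) ?_).symm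
      rw [IsLocalRing.jacobson_eq_maximalIdeal ⊥ bot_ne_top]
      exact hJm
    obtain ⟨rs, hlen, hmem, hreg⟩ := (GrothLib.Depth.le_idealDepth_iff_exists J hne 2).1 h
    obtain ⟨a, b, rfl⟩ := List.length_eq_two.1 hlen
    exact ⟨a, b, hmem a (by simp), hmem b (by simp), hreg⟩
  -- the sheaves
  let G := RelCanon.refPowZ ω ((1 : ℕ) : ℤ)
  have hGc : Coh.IsCoh G := isCoh_refPowZ hωc _
  have hGU : BCOn (𝟙 Y) U ω G := by
    obtain ⟨e⟩ := hbc.2
    obtain ⟨e₁⟩ := nonempty_refPow_restrict ((𝟙 Y) ⁻¹ᵁ U) hbc.invertible 1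
    exact ⟨hbc.1, ⟨e₁ ≪≫ OX.tensorUnitLeftIso (ω.restrict ((𝟙 Y) ⁻¹ᵁ U).ι) ≪≫ e⟩⟩
  let F := G.presheaf.stalk y
  haveI : Module.Finite C F := QuasiFlat.finite_stalk _ hGc y
  have hinvG : ∀ q : PrimeSpectrum C, ¬ J ≤ q.asIdeal → RelCanon.InvertibleAt G (pt y q) := fun q hq =>
    invertibleAt_of_restrict U (hGU.invertible) _ (hJq' q hq)
  have hFU : ∀ q : PrimeSpectrum C, ¬ J ≤ q.asIdeal →
      Module.Free (Localization.AtPrime q.asIdeal) (LocalizedModule q.asIdeal.primeCompl F) :=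
    fun q hq => free_localized_stalk hGc y q (hinvG q hq)
  let T₁ := CohB1.tensorPow ω 1
  have hT₁c : Coh.IsCoh T₁ := isCoh_tensorPow' hωc 1
  let W := ω.presheaf.stalk y
  haveI : Module.Finite C W := QuasiFlat.finite_stalk _ hωc y
  have hWU : ∀ q : PrimeSpectrum C, ¬ J ≤ q.asIdeal →
      Module.Free (Localization.AtPrime q.asIdeal) (LocalizedModule q.asIdeal.primeCompl W) :=
    fun q hq => free_localized_stalk hωc y q (invertibleAt_of_restrict U hbc.1 _ (hJq' q hq))
  haveI hFrefl : Module.IsReflexive C F := by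
    obtain ⟨eT⟩ := nonempty_tensorPow_restrict U hbc.1 1
    have hTi : PicF.IsInvertible (T₁.restrict U.ι) :=
      ParaPair.isInvertible_of_iso eT (PerfLim10.isInvertible_tensorPow hbc.1 1)
    obtain ⟨eD⟩ := nonempty_dual_restrict hT₁c U hTi
    have hDi : PicF.IsInvertible ((RefHull.dual T₁).restrict U.ι) :=
      ParaPair.isInvertible_of_iso eD (isInvertible_dual_of hTi)
    haveI : Module.Finite C ((RefHull.dual T₁).presheaf.stalk y) := QuasiFlat.finite_stalk _ (isCoh_dual' hT₁c) y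
    obtain ⟨e⟩ := nonempty_dual_stalk (isCoh_dual' hT₁c) y
    haveI := isReflexive_dual J hC2 ((RefHull.dual T₁).presheaf.stalk y)
      fun q hq => free_localized_stalk (isCoh_dual' hT₁c) y q (invertibleAt_of_restrict U hDi _ (hJq' q hq))
    exact Module.equiv e.symm
  obtain ⟨eF⟩ : Nonempty (F ≃ₗ[C] Module.Dual C (Module.Dual C W)) := by
    obtain ⟨e⟩ := nonempty_ddual_stalk hT₁c y
    exact ⟨e.trans (DualFree20.stalkIso (OX.tensorUnitLeftIso ω) y).symm.dualMap.dualMap.symm⟩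
  let η : W →ₗ[C] F := eF.symm.toLinearMap.comp (Module.Dual.eval C W)
  have hη : ∀ a : C, a ∈ J → ∃ (k : ℕ) (σ : F →ₗ[C] W), (∀ w, σ (η w) = a ^ k • w) ∧ ∀ v, η (σ v) = a ^ k • v := by
    intro a ha
    obtain ⟨k, σ, h₁, h₂⟩ := GrothLib.FlatOff.exists_pseudoInverse_eval J W hWU a ha
    refine ⟨k, σ.comp eF.toLinearMap, fun w => ?_, fun v => ?_⟩
    · show σ (eF (eF.symm (Module.Dual.eval C W w))) = _
      rw [eF.apply_symm_apply, h₁]
    · show eF.symm (Module.Dual.eval C W (σ (eF v))) = _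
      rw [h₂, map_smul, eF.symm_apply_apply]
  -- the `r`-th power
  let T := CohB1.tensorPow ω (r₀ + 1)
  have hTc : Coh.IsCoh T := isCoh_tensorPow' hωc _
  haveI : Module.Finite C (T.presheaf.stalk y) := QuasiFlat.finite_stalk _ hTc y
  have hTU : ∀ q : PrimeSpectrum C, ¬ J ≤ q.asIdeal →
      Module.Free (Localization.AtPrime q.asIdeal) (LocalizedModule q.asIdeal.primeCompl (T.presheaf.stalk y)) := by
    obtain ⟨eT⟩ := nonempty_tensorPow_restrict U hbc.1 (r₀ + 1)
    exact fun q hq => free_localized_stalk hTc y q (invertibleAt_of_restrict U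
      (ParaPair.isInvertible_of_iso eT (PerfLim10.isInvertible_tensorPow hbc.1 _)) _ (hJq' q hq))
  obtain ⟨er⟩ := nonempty_stalk_equiv_of_invertibleAt hinv
  obtain ⟨es⟩ := nonempty_ddual_stalk hTc y
  let eC : Module.Dual C (Module.Dual C (T.presheaf.stalk y)) ≃ₗ[C] C := es.symm.trans er.symm
  let Φ : T.presheaf.stalk y →ₗ[C] C := eC.toLinearMap.comp (Module.Dual.eval C _)
  let Q : W → C := fun w => Φ (powStalk ω y (r₀ + 1) w)
  have hQh : ∀ (c : C) w, Q (c • w) = c ^ (r₀ + 1) * Q w := fun c w => by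
    show Φ _ = _
    rw [powStalk_smul, map_smul]; rfl
  have hQc : ∀ (K : Ideal C) w w', w - w' ∈ (K • ⊤ : Submodule C W) → Q w - Q w' ∈ K := fun K w w' h => by
    show Φ _ - Φ _ ∈ K
    rw [← map_sub]
    have := (Submodule.map_le_iff_le_comap.1 (Submodule.map_smul'' K ⊤ Φ).le) (powStalk_congr ω y K w w' h (r₀ + 1))
    exact Submodule.smul_le.2 (fun a ha b _ => Ideal.mul_mem_right b K ha) this
  let ψ : W → (W →ₗ[C] C) := fun e =>
    Φ.comp (Ref1.tmulStalk (CohB1.tensorPow ω r₀) ω y (powStalk ω y r₀ e))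
  -- the fibre
  let Xt := f.fiber t
  let κ := (Spec (CommRingCat.of A)).residueField t
  letI : Xt.Over (Spec (CommRingCat.of κ)) := ⟨f.fiberToSpecResidueField t⟩
  let φ : CommRingCat.of A ⟶ κ := Spec.preimage ((Spec (CommRingCat.of A)).fromSpecResidueField t)
  have hsq : IsPullback ι (Xt ↘ Spec (CommRingCat.of κ)) f (Spec.map (CommRingCat.ofHom φ.hom)) := by
    change IsPullback ι (f.fiberToSpecResidueField t) f (Spec.map φ)
    rw [Spec.map_preimage]
    exact IsPullback.of_hasPullback _ _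
  haveI : LocallyOfFiniteType (f.fiberToSpecResidueField t) :=
    MorphismProperty.pullback_snd _ _ (inferInstance : LocallyOfFiniteType f)
  haveI : IsLocallyNoetherian Xt := LocallyOfFiniteType.isLocallyNoetherian (f.fiberToSpecResidueField t)
  haveI : IsProper (Xt ↘ Spec (CommRingCat.of κ)) := MorphismProperty.of_isPullback (P := @IsProper) hsq inferInstance
  obtain ⟨ωt, hωt⟩ := exists_isDualizingSheaf (A := κ) (Y := Xt) d fun s =>
    (GrothLib.FibreBC.topologicalKrullDim_fiber hsq s).le.trans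
      (GrothLib.FibPd.topologicalKrullDim_le_of_components fun Z hZ => (hd _ Z hZ).le)
  obtain ⟨-, hωtc, U₁, hbc₁, hU₁⟩ := exists_bcOn_gor d hS hd ω hω κ φ.hom Xt ι hsq ωt hωt
  have hωti : PicF.IsInvertible ωt := hqg ωt hωt
  let P := (Scheme.Modules.pullback ι).obj ω
  have hPc : Coh.IsCoh P := ModDesc.isCoh_pullback ι _ hωc
  have hS' : RelCanon.IsSkMor (Xt ↘ Spec (CommRingCat.of κ)) 2 := isSkMor_of_isPullback hsq hS
  have hdep : ∀ w : Xt, w ∉ ι ⁻¹ᵁ U₁ → (2 : ℕ∞) ≤ LocCoh.depth (Xt.presheaf.stalk w) (Xt.presheaf.stalk w) :=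
    fun w hw => two_le_depth_of_fibre (Xt ↘ Spec (CommRingCat.of κ)) hS' w
      ((hG1 (ι w) (f.range_fiberι t ▸ Set.mem_range_self w : f.fiberι t w ∈ f ⁻¹' {t})
        fun hg => hw (hU₁ _ hg)).trans (ringKrullDim_fibre_le hsq w))
  obtain ⟨eDt⟩ : Nonempty (RefHull.ddual P ≅ RefHull.ddual ωt) := by
    obtain ⟨eb⟩ := hbc₁.2
    obtain ⟨pr⟩ := AlmostAmple24.nonempty_pullback_restrict ι U₁ ω
    have hi' : PicF.IsInvertible (P.restrict (ι ⁻¹ᵁ U₁).ι) :=
      ParaPair.isInvertible_of_iso pr (RelProjK.isInvertible_pullback (ι ∣_ U₁) hbc₁.1)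
    obtain ⟨e₁⟩ := nonempty_ddual_restrict (ι ⁻¹ᵁ U₁) hi'
    obtain ⟨e₂⟩ := nonempty_ddual_restrict (ι ⁻¹ᵁ U₁) hbc₁.invertible
    exact nonempty_iso_of_restrict (isCoh_ddual' hPc) (isCoh_ddual' hωtc) (ι ⁻¹ᵁ U₁)
      (fun w hw => two_le_depth_ddual hPc w (hdep w hw)) (fun w hw => two_le_depth_ddual hωtc w (hdep w hw))
      (e₁ ≪≫ pr ≪≫ eb.symm ≪≫ e₂.symm)
  have hDi : RelCanon.InvertibleAt (RefHull.ddual P) z₀ := by
    have h : RelCanon.InvertibleAt (RefHull.ddual ωt) z₀ := by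
      have h0 : PicF.IsInvertible (ωt.restrict (⊤ : Xt.Opens).ι) := ParaPair.isInvertible_of_iso
        ((Scheme.Modules.restrictFunctorIsoPullback _).app ωt) (RelProjK.isInvertible_pullback _ hωti)
      obtain ⟨e⟩ := nonempty_ddual_restrict ⊤ h0
      exact invertibleAt_of_restrict ⊤ (ParaPair.isInvertible_of_iso e h0) z₀ trivial
    exact invertibleAt_of_iso eDt h
  obtain ⟨hsurj, hker⟩ := FibreFlat.fiberι_stalkMap f t z₀
  obtain ⟨θ', e', hθ', he'⟩ := exists_fibre_stalk_equiv_map f ω t z₀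
  let Qr := Xt.presheaf.stalk z₀
  let π : C →+* Qr := (ι.stalkMap z₀).hom
  haveI : Module.Finite Qr (P.presheaf.stalk z₀) := QuasiFlat.finite_stalk _ hPc z₀
  obtain ⟨ts⟩ := nonempty_stalk_equiv_of_invertibleAt hDi
  obtain ⟨ep⟩ := nonempty_ddual_stalk hPc z₀
  let Ψ : Module.Dual Qr (Module.Dual Qr (P.presheaf.stalk z₀)) ≃ₗ[Qr] Qr := ep.symm.trans ts.symm
  have he : ∀ (c : C) (w : W ⧸ (I • ⊤ : Submodule C W)), e' (c • w) = π c • e' w := fun c w => by
    rw [← hθ' c]
    obtain ⟨w, rfl⟩ := Submodule.Quotient.mk_surjective _ w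
    exact he' (Ideal.Quotient.mk _ c) (Submodule.Quotient.mk w)
  let red₀ : W →ₗ[C] C ⧸ I :=
    { toFun := fun w => θ'.symm (Ψ (Module.Dual.eval Qr _ (e' (Submodule.Quotient.mk w))))
      map_add' := fun a b => by rw [Submodule.Quotient.mk_add, map_add, map_add, map_add, map_add]
      map_smul' := fun c w => by
        rw [Submodule.Quotient.mk_smul, he, map_smul, map_smul, smul_eq_mul, map_mul, ← hθ' c,
          θ'.symm_apply_apply]
        rfl }
  have hPU : ∀ q : PrimeSpectrum Qr, ¬ J.map π ≤ q.asIdeal →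
      Module.Free (Localization.AtPrime q.asIdeal) (LocalizedModule q.asIdeal.primeCompl (P.presheaf.stalk z₀)) :=
    fun q hq => free_localized_stalk hPc z₀ q (invertibleAt_pullback ι _ (invertibleAt_of_restrict U hbc.1 _ (by
      rw [map_pt]
      exact hJq' _ fun h => hq (Ideal.map_le_iff_le_comap.2 h))))
  have hker₀ : ∀ a ∈ J, ∀ w, red₀ w = 0 → ∃ l : ℕ, a ^ l • w ∈ (I • ⊤ : Submodule C W) := fun a ha w hw => by
    obtain ⟨k, σ, hσ, -⟩ := GrothLib.FlatOff.exists_pseudoInverse_eval (J.map π) (P.presheaf.stalk z₀) hPU (π a)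
      (Ideal.mem_map_of_mem π ha)
    refine ⟨k, (Submodule.Quotient.mk_eq_zero _).1 (e'.map_eq_zero_iff.1 ?_)⟩
    have h0 : Module.Dual.eval Qr _ (e' (Submodule.Quotient.mk w)) = 0 :=
      Ψ.map_eq_zero_iff.1 (θ'.symm.map_eq_zero_iff.1 hw)
    rw [Submodule.Quotient.mk_smul, he, map_pow, ← hσ, h0, map_zero]
  have hcok₀ : ∀ a ∈ J, ∃ (k : ℕ) (e : W), red₀ e = Ideal.Quotient.mk I (a ^ k) := fun a ha => by
    obtain ⟨k, σ, -, hσ⟩ := GrothLib.FlatOff.exists_pseudoInverse_eval (J.map π) (P.presheaf.stalk z₀) hPU (π a)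
      (Ideal.mem_map_of_mem π ha)
    obtain ⟨w, hw⟩ := Submodule.Quotient.mk_surjective _ (e'.symm (σ (Ψ.symm 1)))
    refine ⟨k, w, ?_⟩
    show θ'.symm (Ψ (Module.Dual.eval Qr _ (e' (Submodule.Quotient.mk w)))) = _
    rw [hw, e'.apply_symm_apply, hσ, map_smul, Ψ.apply_symm_apply, smul_eq_mul, mul_one, ← map_pow, ← hθ' (a ^ k),
      θ'.symm_apply_apply]
    rfl
  -- `r` is a unit
  have hrC : IsUnit ((r₀ + 1 : ℕ) : C) := by
    have gen : ∀ s, s = t → IsUnit (((r₀ + 1 : ℕ)) : (Spec (CommRingCat.of A)).presheaf.stalk s) := by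
      rintro s rfl
      refine (IsLocalRing.residue_ne_zero_iff_isUnit _).1 fun h => hrk ?_
      rw [map_natCast] at h
      exact h
    have := (gen _ hfy).map (algebraMap R C)
    rwa [map_natCast] at this
  -- every Artinian test
  have hfunc := fun (K : Ideal R) (_ : IsArtinianRing (R ⧸ K)) (_ : IsLocalRing (R ⧸ K)) =>
    nonempty_ddual_equiv_of_root (R := R) J hJm x x' hxJ hx'J hreg η hη (r₀ + 1) hrC Q hQh hQc ψ (fun _ => rfl)
      (fun z hz L e hgen => by
        obtain ⟨k, σ, -, hσ⟩ := GrothLib.FlatOff.exists_pseudoInverse_eval J (T.presheaf.stalk y) hTU z hz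
        let v := σ (eC.symm 1)
        obtain ⟨l, c, hc⟩ := powStalk_gen ω y _ z e hgen (r₀ + 1) v
        refine ⟨l + k, c, ?_⟩
        have h := (Submodule.map_le_iff_le_comap.1 (Submodule.map_smul'' L ⊤ Φ).le) hc
        have hv : Φ v = z ^ k := by
          show eC (Module.Dual.eval C _ (σ (eC.symm 1))) = _
          rw [hσ, map_smul, eC.apply_symm_apply, smul_eq_mul, mul_one]
        rw [Submodule.mem_comap, map_sub, map_smul, map_smul, hv, smul_eq_mul, smul_eq_mul, ← pow_add] at h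
        exact Submodule.smul_le.2 (fun a ha b _ => Ideal.mul_mem_right b _ ha) h)
      red₀ hker₀ hcok₀ K
  have hgoodC : Good 2 (f.stalkMap y).hom C := ⟨Flat.stalkMap f y, by
    let e : (C ⧸ I) ≃ₗ[C] C ⧸ (I • ⊤ : Submodule C C) :=
      Submodule.quotEquivOfEq _ _ (by rw [smul_eq_mul, Ideal.mul_top])
    exact hasSk_semilinear (RingEquiv.refl _) e.toAddEquiv (fun b x => by
      obtain ⟨c, rfl⟩ := Ideal.Quotient.mk_surjective b
      exact e.map_smul c x) hS2⟩
  have hgood : Good 2 (algebraMap R C) F := by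
    refine good_of_artinian F J hFU hS2 hcodim fun K _ _ => ?_
    obtain ⟨e⟩ := hfunc K inferInstance inferInstance
    have hC := (good_ddual_quot C J hJtop (fun q _ => inferInstance) hD hgoodC K).1
    let C' := C ⧸ K.map (algebraMap R C)
    let eC' : Module.Dual C' (Module.Dual C' (C' ⊗[C] C)) ≃ₗ[C'] C' :=
      (TensorProduct.AlgebraTensorModule.rid C C' C').dualMap.symm.dualMap.symm.trans (Module.evalEquiv C' C').symm
    let E := eC'.trans e.symm
    exact Good.congr (RingEquiv.refl _) (RingEquiv.refl C') (fun _ => rfl) E.toAddEquiv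
      (fun b x => E.map_smul b x) hC
  -- conclusion
  have hb : Nonempty ((F ⧸ (I • ⊤ : Submodule C F)) ≃ₗ[C] (C ⧸ I)) := by
    haveI : IsArtinianRing (R ⧸ maximalIdeal R) := by letI := Ideal.Quotient.field (maximalIdeal R); infer_instance
    haveI : IsLocalRing (R ⧸ maximalIdeal R) := IsLocalRing.of_surjective' (Ideal.Quotient.mk _) Ideal.Quotient.mk_surjective
    obtain ⟨e⟩ := hfunc (maximalIdeal R) inferInstance inferInstance
    have hev := (good_ddual_quot F J hJtop hFU hD hgood (maximalIdeal R)).2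
    exact ⟨(TensorProduct.quotTensorEquivQuotSMul F I).symm.trans
      (((LinearEquiv.ofBijective _ hev).trans e).restrictScalars C)⟩
  obtain ⟨eb⟩ := hb
  have hGy : RelCanon.InvertibleAt G y := by
    obtain ⟨θG, eG, hθG, heG⟩ := exists_fibre_stalk_equiv_map f G t z₀
    let PG := (Scheme.Modules.pullback ι).obj G
    refine invertibleAt_of_fibre f hGc t z₀ ?_ (invertibleAt_of_stalk (ModDesc.isCoh_pullback ι _ hGc) z₀ ?_)
    · exact ((relSkAt_iff_good f hGc 2 y).2 hgood).1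
    · exact (LinearEquiv.symm
        { (θG.symm.toAddEquiv.trans (eb.symm.toAddEquiv.trans eG)) with
          map_smul' := fun a b => by
            obtain ⟨a, rfl⟩ := θG.surjective a
            obtain ⟨c, rfl⟩ := Ideal.Quotient.mk_surjective a
            show eG (eb.symm (θG.symm (θG (Ideal.Quotient.mk _ c) * b))) = θG (Ideal.Quotient.mk _ c) • eG (eb.symm (θG.symm b))
            rw [← heG, map_mul, θG.symm_apply_apply]
            congr 1
            generalize θG.symm b = v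
            exact eb.symm.map_smul c v })
  obtain ⟨W₀, hyW₀, ⟨u⟩⟩ := hGy
  have hGi : PicF.IsInvertible (G.restrict W₀.ι) := ParaPair.isInvertible_of_iso u (isInvertible_structureModule _)
  have hGm : RelCanon.InvertibleAt (RelCanon.refPowZ G m) y := by
    cases m with
    | ofNat k =>
      obtain ⟨a⟩ := nonempty_refPow_restrict W₀ hGi k
      exact invertibleAt_of_restrict W₀ (ParaPair.isInvertible_of_iso a (PerfLim10.isInvertible_tensorPow hGi k)) y hyW₀
    | negSucc k =>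
      obtain ⟨dd⟩ := nonempty_dual_restrict hGc W₀ hGi
      have hdi : PicF.IsInvertible ((RefHull.dual G).restrict W₀.ι) :=
        ParaPair.isInvertible_of_iso dd (isInvertible_dual_of hGi)
      obtain ⟨a⟩ := nonempty_refPow_restrict W₀ hdi (k + 1)
      exact invertibleAt_of_restrict W₀ (ParaPair.isInvertible_of_iso a (PerfLim10.isInvertible_tensorPow hdi _)) y hyW₀
  obtain ⟨e₁⟩ := (hGU.refPowZ hωc hGc m).2
  obtain ⟨e₂⟩ := (hbc.refPowZ hωc hωc m).2
  obtain ⟨H₁, hH₁, h₁⟩ := exists_ddual_refPowZ hGc m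
  obtain ⟨H₂, hH₂, h₂⟩ := exists_ddual_refPowZ hωc m
  exact invertibleAt_of_agree hH₁ hH₂ h₁ h₂ ((𝟙 Y) ⁻¹ᵁ U) V
    (fun x hx hxU => two_le_depth_of_fibre f hS x (hcV x hx hxU)) (e₁ ≪≫ e₂.symm) hyV hGm

end GrothLib.ArtCrit20

end
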