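import Mathlib

/-!
# Gluing of unique roots along a regular pair
-/

set_option autoImplicit false
set_option linter.all false
set_option backward.isDefEq.respectTransparency false
set_option maxHeartbeats 1000000

universe u

open IsLocalRing Function

noncomputable section

namespace GrothLib.ArtCrit20

/-- A regular pair, in both orders. -/
structure RegPair (S : Type u) [CommRing S] (x y : S) : Prop where
  left : ∀ z, x * z = 0 → z = 0
  right : ∀ z, y * z = 0 → z = 0
  div : ∀ a b, y * a = x * b → ∃ c, a = x * c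

namespace RegPair

variable {S : Type u} [CommRing S] {x y : S}

theorem left_pow (h : RegPair S x y) (k : ℕ) : ∀ z, x ^ k * z = 0 → z = 0 := by
  induction k with
  | zero => simp
  | succ k ih => intro z hz; exact h.left z (ih _ (by rw [← mul_assoc, ← pow_succ]; exact hz))

theorem right_pow (h : RegPair S x y) (k : ℕ) : ∀ z, y ^ k * z = 0 → z = 0 := by
  induction k with
  | zero => simp
  | succ k ih => intro z hz; exact h.right z (ih _ (by rw [← mul_assoc, ← pow_succ]; exact hz))

theorem div_right (h : RegPair S x y) (l : ℕ) : ∀ a b, y ^ l * a = x * b → ∃ c, a = x * c := by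
  induction l with
  | zero => intro a b hab; exact ⟨b, by simpa using hab⟩
  | succ l ih =>
    intro a b hab
    obtain ⟨c, hc⟩ := ih (y * a) b (by rw [← mul_assoc, ← pow_succ]; exact hab)
    exact h.div a c hc

theorem div_pow (h : RegPair S x y) (j : ℕ) : ∀ (l : ℕ) a b, y ^ l * a = x ^ j * b → ∃ c, a = x ^ j * c := by
  induction j with
  | zero => intro l a b _; exact ⟨a, by simp⟩
  | succ j ih =>
    intro l a b hab
    obtain ⟨a', rfl⟩ := h.div_right l a (x ^ j * b) (by rw [hab]; ring)
    have h' : x * (y ^ l * a' - x ^ j * b) = 0 := by linear_combination hab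
    obtain ⟨c, rfl⟩ := ih l a' b (sub_eq_zero.1 (h.left _ h'))
    exact ⟨c, by ring⟩

theorem of_isWeaklyRegular [IsNoetherianRing S] [IsLocalRing S] (hx : x ∈ maximalIdeal S)
    (h : RingTheory.Sequence.IsWeaklyRegular S [x, y]) : RegPair S x y := by
  obtain ⟨hr, hy⟩ := (RingTheory.Sequence.isWeaklyRegular_cons_iff S x [y]).1 h
  have hy' : IsSMulRegular (QuotSMulTop x S) y := ((RingTheory.Sequence.isWeaklyRegular_cons_iff _ y []).1 hy).1
  have hdiv : ∀ a b, y * a = x * b → ∃ c, a = x * c := fun a b hab => by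
    have h0 : (Submodule.Quotient.mk a : QuotSMulTop x S) = 0 := by
      refine hy'.right_eq_zero_of_smul ((Submodule.Quotient.mk_smul _ _ _).symm.trans
        ((Submodule.Quotient.mk_eq_zero _).2 ?_))
      rw [smul_eq_mul, hab, ← smul_eq_mul x b]
      exact Submodule.smul_mem_pointwise_smul _ _ _ trivial
    rw [Submodule.Quotient.mk_eq_zero, Submodule.mem_smul_pointwise_iff_exists] at h0
    obtain ⟨c, -, hc⟩ := h0
    exact ⟨c, hc.symm⟩
  refine ⟨fun z hz => hr (show x • z = x • 0 by rw [smul_zero]; exact hz), fun z hz => ?_, hdiv⟩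
  have hall : ∀ n : ℕ, ∃ c, z = x ^ n * c ∧ y * c = 0 := by
    intro n
    induction n with
    | zero => exact ⟨z, by simp, hz⟩
    | succ n ih =>
      obtain ⟨c, rfl, hc⟩ := ih
      obtain ⟨c', rfl⟩ := hdiv c 0 (by rw [hc, mul_zero])
      refine ⟨c', by ring, hr (show x • (y * c') = x • 0 from ?_)⟩
      rw [smul_zero, smul_eq_mul, ← hc]; ring
  have hmem : z ∈ ⨅ n : ℕ, (maximalIdeal S) ^ n := by
    refine Submodule.mem_iInf _ |>.2 fun n => ?_
    obtain ⟨c, rfl, -⟩ := hall n
    exact Ideal.mul_mem_right _ _ (Ideal.pow_mem_pow hx n)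
  rwa [Ideal.iInf_pow_eq_bot_of_isLocalRing _ (maximalIdeal.isMaximal S).ne_top] at hmem

theorem map_injective_left (h : RegPair S x y) : Injective (algebraMap S (Localization.Away x)) := fun a b hab => by
  obtain ⟨⟨_, l, rfl⟩, hl⟩ := (IsLocalization.eq_iff_exists (Submonoid.powers x) _).1 hab
  exact sub_eq_zero.1 (h.left_pow l _ (by rw [mul_sub]; exact sub_eq_zero.2 hl))

/-- Gluing along a regular pair. -/
theorem exists_glue (h : RegPair S x y) (u : Localization.Away x) (v : Localization.Away y)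
    {T : Type u} [CommRing T] [Algebra S T] [IsLocalization.Away (x * y) T]
    (jx : Localization.Away x →+* T) (jy : Localization.Away y →+* T)
    (hjx : ∀ a, jx (algebraMap S _ a) = algebraMap S T a) (hjy : ∀ a, jy (algebraMap S _ a) = algebraMap S T a)
    (huv : jx u = jy v) :
    ∃ c, algebraMap S (Localization.Away x) c = u ∧ algebraMap S (Localization.Away y) c = v := by
  obtain ⟨k, a, ha⟩ := IsLocalization.Away.surj x u
  obtain ⟨m, b, hb⟩ := IsLocalization.Away.surj y v
  have e1 : algebraMap S T (y ^ m * a) = algebraMap S T (x ^ k * b) := by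
    rw [map_mul, map_mul, ← hjx a, ← hjy b, ← ha, ← hb, map_mul, map_mul, map_pow jx, map_pow jy, hjx, hjy,
      map_pow, map_pow, huv]
    ring
  obtain ⟨⟨_, l, rfl⟩, hl⟩ := (IsLocalization.eq_iff_exists (Submonoid.powers (x * y)) T).1 e1
  have e2 : y ^ m * a = x ^ k * b := by
    have hl' : (x * y) ^ l * (y ^ m * a) = (x * y) ^ l * (x ^ k * b) := hl
    refine sub_eq_zero.1 (h.right_pow l _ (h.left_pow l _ ?_))
    linear_combination hl'
  obtain ⟨c, hc⟩ := h.div_pow k m a b e2
  have hb' : b = y ^ m * c := by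
    refine (sub_eq_zero.1 (h.left_pow k _ ?_))
    rw [hc] at e2
    linear_combination -e2
  refine ⟨c, ?_, ?_⟩
  · refine ((IsLocalization.Away.algebraMap_isUnit x (S := Localization.Away x)).pow k).mul_left_injective ?_
    show algebraMap S _ c * algebraMap S _ x ^ k = u * algebraMap S _ x ^ k
    rw [ha, hc, map_mul, map_pow, mul_comm]
  · refine ((IsLocalization.Away.algebraMap_isUnit y (S := Localization.Away y)).pow m).mul_left_injective ?_
    show algebraMap S _ c * algebraMap S _ y ^ m = v * algebraMap S _ y ^ m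
    rw [hb, hb', map_mul, map_pow, mul_comm]

end RegPair

/-- A root close to one. -/
theorem exists_root {S : Type u} [CommRing S] (r : ℕ) (hr : IsUnit (r : S)) (v : S) (hv : IsNilpotent (v - 1)) :
    ∃ w : S, IsNilpotent (w - 1) ∧ w ^ r = v := by
  let P : Polynomial S := Polynomial.X ^ r - Polynomial.C v
  have h1 : IsNilpotent (Polynomial.aeval (1 : S) P) := by
    rw [show Polynomial.aeval (1 : S) P = -(v - 1) by simp [P]]
    exact hv.neg
  have h2 : IsUnit (Polynomial.aeval (1 : S) (Polynomial.derivative P)) := by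
    rw [show Polynomial.aeval (1 : S) (Polynomial.derivative P) = (r : S) by simp [P, Polynomial.derivative_X_pow]]
    exact hr
  obtain ⟨w, ⟨hw, hw'⟩, -⟩ := Polynomial.existsUnique_nilpotent_sub_and_aeval_eq_zero h1 h2
  exact ⟨w, by rw [← neg_sub]; exact hw.neg, sub_eq_zero.1 (by simpa [P] using hw')⟩

theorem root_unique {S : Type u} [CommRing S] (r : ℕ) (hr : IsUnit (r : S)) {w : S} (hw : IsNilpotent (w - 1))
    (h : w ^ r = 1) : w = 1 := by
  let P : Polynomial S := Polynomial.X ^ r - Polynomial.C 1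
  have h1 : IsNilpotent (Polynomial.aeval (1 : S) P) := by simp [P]
  have h2 : IsUnit (Polynomial.aeval (1 : S) (Polynomial.derivative P)) := by
    rw [show Polynomial.aeval (1 : S) (Polynomial.derivative P) = (r : S) by simp [P, Polynomial.derivative_X_pow]]
    exact hr
  exact (Polynomial.existsUnique_nilpotent_sub_and_aeval_eq_zero h1 h2).unique
    ⟨by rw [← neg_sub]; exact hw.neg, by simp [P, h]⟩ ⟨by simp, by simp [P]⟩

section Core

variable {C C' : Type u} [CommRing C] [CommRing C'] [Algebra C C'] [IsLocalRing C']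
  {W : Type u} [AddCommGroup W] [Module C W]

/-- **A line bundle with trivial reduction and trivial `r`-th power off a regular pair is trivial**, in the form
of its module of functionals. -/
theorem exists_generator_functionals (hs : Surjective (algebraMap C C')) (𝔑 : Ideal C) (n : ℕ)
    (hn : 𝔑 ^ n ≤ RingHom.ker (algebraMap C C')) (hK : RingHom.ker (algebraMap C C') ≤ 𝔑)
    (r : ℕ) (hr : IsUnit (r : C'))
    (x y : C) (hp : RegPair C' (algebraMap C C' x) (algebraMap C C' y))
    (hp₀ : RegPair (C' ⧸ 𝔑.map (algebraMap C C'))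
      (Ideal.Quotient.mk _ (algebraMap C C' x)) (Ideal.Quotient.mk _ (algebraMap C C' y)))
    (Q : W → C) (hQh : ∀ (c : C) w, Q (c • w) = c ^ r * Q w)
    (hQc : ∀ (K : Ideal C) w w', w - w' ∈ (K • ⊤ : Submodule C W) → Q w - Q w' ∈ K)
    (ψ : W → (W →ₗ[C] C)) (hψ : ∀ e, ψ e e = Q e)
    (hQgen : ∀ (z : C), (z = x ∨ z = y) → ∀ e : W,
      (∀ w, ∃ (l : ℕ) (c : C), z ^ l • w - c • e ∈ (RingHom.ker (algebraMap C C') • ⊤ : Submodule C W)) →
      ∃ (l : ℕ) (c : C), z ^ l - c * Q e ∈ RingHom.ker (algebraMap C C'))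
    (red : W →ₗ[C] C' ⧸ 𝔑.map (algebraMap C C'))
    (hker : ∀ z : C, (z = x ∨ z = y) → ∀ w, red w = 0 → ∃ l : ℕ, z ^ l • w ∈ (𝔑 • ⊤ : Submodule C W))
    (hcok : ∀ z : C, (z = x ∨ z = y) → ∃ (k : ℕ) (e : W), red e = Ideal.Quotient.mk _ (algebraMap C C' (z ^ k))) :
    ∃ φ : W →ₗ[C] C', Bijective fun c : C' => c • φ := by
  classical
  let q := algebraMap C C'
  let K := RingHom.ker q
  let mk := Ideal.Quotient.mk (𝔑.map q)
  have hnil : ∀ a ∈ 𝔑.map q, IsNilpotent a := fun a ha => ⟨n, by
    have h := Ideal.pow_mem_pow ha n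
    rw [← Ideal.map_pow, (Ideal.map_eq_bot_iff_le_ker q).2 hn] at h
    exact h⟩
  obtain ⟨k₁, e₁, he₁⟩ := hcok x (Or.inl rfl)
  obtain ⟨k₂, e₂, he₂⟩ := hcok y (Or.inr rfl)
  let k := k₁ + k₂
  have hredsmul : ∀ (c : C) (w : W), red (c • w) = mk (q c) * red w := fun c w => by
    rw [map_smul, Algebra.smul_def]; rfl
  obtain ⟨ex, hex⟩ : ∃ e, red e = mk (q x) ^ k := ⟨x ^ k₂ • e₁, by
    rw [hredsmul, he₁, map_pow, map_pow, map_pow, map_pow]
    exact (pow_add _ _ _).symm.trans (by rw [add_comm k₂])⟩
  obtain ⟨ey, hey⟩ : ∃ e, red e = mk (q y) ^ k := ⟨y ^ k₁ • e₂, by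
    rw [hredsmul, he₂, map_pow, map_pow, map_pow, map_pow]
    exact (pow_add _ _ _).symm⟩
  have gen : ∀ z : C, (z = x ∨ z = y) → ∀ e : W, red e = mk (q z) ^ k → ∀ w : W,
      ∃ (l : ℕ) (c : C), z ^ l • w - c • e ∈ (K • ⊤ : Submodule C W) := by
    intro z hz e he
    have base : ∀ w : W, ∃ (l : ℕ) (c : C), z ^ l • w - c • e ∈ (𝔑 • ⊤ : Submodule C W) := fun w => by
      obtain ⟨c', hc'⟩ := Ideal.Quotient.mk_surjective (red w)
      obtain ⟨c, rfl⟩ := hs c'
      obtain ⟨l, hl⟩ := hker z hz (z ^ k • w - c • e) (by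
        rw [map_sub, hredsmul, hredsmul, he, map_pow, map_pow, ← hc']; ring)
      exact ⟨l + k, z ^ l * c, by rw [pow_add, mul_smul, mul_smul, ← smul_sub]; exact hl⟩
    have step : ∀ (j : ℕ) (w : W), ∃ (l : ℕ) (c : C), z ^ l • w - c • e ∈ (𝔑 ^ j • ⊤ : Submodule C W) := by
      intro j
      induction j with
      | zero => exact fun w => ⟨0, 0, by simp⟩
      | succ j ih =>
        intro w
        obtain ⟨l, c, hlc⟩ := ih w
        have h' : ∀ v ∈ (𝔑 ^ j • ⊤ : Submodule C W), ∃ (l : ℕ) (c : C),
            z ^ l • v - c • e ∈ (𝔑 ^ (j + 1) • ⊤ : Submodule C W) := by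
          intro v hv
          refine Submodule.smul_induction_on hv (fun a ha v _ => ?_) ?_
          · obtain ⟨l, c, hc⟩ := base v
            refine ⟨l, a * c, ?_⟩
            rw [smul_comm (z ^ l) a v, mul_smul, ← smul_sub, pow_succ, mul_smul]
            exact Submodule.smul_mem_smul ha hc
          · rintro v v' ⟨l, c, hc⟩ ⟨l', c', hc'⟩
            refine ⟨l + l', z ^ l' * c + z ^ l * c', ?_⟩
            have := Submodule.add_mem _ (Submodule.smul_mem _ (z ^ l') hc) (Submodule.smul_mem _ (z ^ l) hc')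
            convert this using 1
            simp only [pow_add, smul_add, smul_sub, add_smul, mul_smul, smul_comm (z ^ l) (z ^ l')]
            abel
        obtain ⟨l', c', hc'⟩ := h' _ hlc
        refine ⟨l' + l, z ^ l' * c + c', ?_⟩
        convert hc' using 1
        simp only [pow_add, smul_sub, add_smul, mul_smul]
        abel
    intro w
    obtain ⟨l, c, hlc⟩ := step n w
    exact ⟨l, c, Submodule.smul_mono_left hn hlc⟩
  have genx := gen x (Or.inl rfl) ex hex
  have geny := gen y (Or.inr rfl) ey hey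
  obtain ⟨lx, dx, hdx⟩ := hQgen x (Or.inl rfl) ex genx
  obtain ⟨ly, dy, hdy⟩ := hQgen y (Or.inr rfl) ey geny
  replace hdx : q x ^ lx = q dx * q (Q ex) := by
    rw [← map_pow, ← map_mul]; exact (RingHom.sub_mem_ker_iff q).1 hdx
  replace hdy : q y ^ ly = q dy * q (Q ey) := by
    rw [← map_pow, ← map_mul]; exact (RingHom.sub_mem_ker_iff q).1 hdy
  -- the common reduction
  have hred : mk (q y) ^ (r * k) * mk (q (Q ex)) = mk (q x) ^ (r * k) * mk (q (Q ey)) := by
    obtain ⟨l, hl⟩ := hker x (Or.inl rfl) (y ^ k • ex - x ^ k • ey) (by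
      rw [map_sub, hredsmul, hredsmul, hex, hey, map_pow, map_pow, map_pow, map_pow]; ring)
    rw [smul_sub, smul_smul, smul_smul] at hl
    have h := hQc 𝔑 _ _ hl
    rw [hQh, hQh] at h
    have h0 := Ideal.Quotient.eq_zero_iff_mem.2 (Ideal.mem_map_of_mem q h)
    simp only [map_sub, map_mul, map_pow] at h0
    refine sub_eq_zero.1 (hp₀.left_pow (l * r) _ ?_)
    refine Eq.trans ?_ h0
    ring
  obtain ⟨cb, hcb⟩ := hp₀.div_pow (r * k) (r * k) _ _ hred
  have hcby : mk (q (Q ey)) = mk (q y) ^ (r * k) * cb := by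
    refine sub_eq_zero.1 (hp₀.left_pow (r * k) _ ?_)
    rw [mul_sub, ← hred, hcb]; ring
  have hdx' := congrArg mk hdx
  have hdy' := congrArg mk hdy
  simp only [map_mul, map_pow, hcb, hcby] at hdx' hdy'
  have hcbu : IsUnit cb := by
    have hcr : ∀ z, cb * z = 0 → z = 0 := fun z hz => hp₀.left_pow lx z (by
      rw [hdx']; linear_combination (mk (q dx) * mk (q x) ^ (r * k)) * hz)
    have h2 : mk (q y) ^ ly * (mk (q dx) * mk (q x) ^ (r * k)) = mk (q x) ^ lx * (mk (q dy) * mk (q y) ^ (r * k)) := by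
      refine sub_eq_zero.1 (hcr _ ?_)
      linear_combination -(mk (q y) ^ ly) * hdx' + (mk (q x) ^ lx) * hdy'
    obtain ⟨ζ, hζ⟩ := hp₀.div_pow lx ly _ _ h2
    refine IsUnit.of_mul_eq_one ζ (sub_eq_zero.1 (hp₀.left_pow lx _ ?_))
    linear_combination (-cb) * hζ - hdx'
  obtain ⟨c, rfl⟩ := Ideal.Quotient.mk_surjective cb
  have hc : IsUnit c := by
    obtain ⟨d, hd⟩ := hcbu.exists_right_inv
    obtain ⟨d, rfl⟩ := Ideal.Quotient.mk_surjective d
    rw [← map_mul] at hd
    have h := hnil _ (Ideal.Quotient.eq.1 (hd.trans (map_one mk).symm))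
    exact isUnit_of_mul_isUnit_left (by simpa using h.isUnit_add_one)
  -- the three localisations
  let Sx := Localization.Away (q x)
  let Sy := Localization.Away (q y)
  let T := Localization.Away (q x * q y)
  have hT : IsUnit (algebraMap C' T (q x) * algebraMap C' T (q y)) := by
    rw [← map_mul (algebraMap C' T)]; exact IsLocalization.Away.algebraMap_isUnit _
  have hTx := isUnit_of_mul_isUnit_left hT
  have hTy := isUnit_of_mul_isUnit_right hT
  let jx : Sx →+* T := IsLocalization.Away.lift (q x) hTx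
  let jy : Sy →+* T := IsLocalization.Away.lift (q y) hTy
  have hjx : ∀ a, jx (algebraMap C' Sx a) = algebraMap C' T a := fun a => IsLocalization.Away.lift_eq _ hTx a
  have hjy : ∀ a, jy (algebraMap C' Sy a) = algebraMap C' T a := fun a => IsLocalization.Away.lift_eq _ hTy a
  have hcomp : ∀ {S : Type u} [CommRing S] [Algebra C' S] [Algebra C S] [IsScalarTower C C' S] (a : C),
      algebraMap C S a = algebraMap C' S (q a) := fun {S} _ _ _ _ a => IsScalarTower.algebraMap_apply C C' S a
  -- the local functional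
  have mkfun : ∀ (z : C) (e : W) (l : ℕ) (d : C) (S : Type u) [CommRing S] [Algebra C' S] [Algebra C S]
      [IsScalarTower C C' S], IsUnit (algebraMap C' S (q z)) →
      mk (q (Q e)) = mk (q z) ^ (r * k) * mk c → q z ^ l = q d * q (Q e) →
      ∃ φ : W →ₗ[C] S, IsUnit (φ e) ∧ φ e ^ r * algebraMap C' S c = algebraMap C' S (q (Q e)) ∧
        IsNilpotent (φ e - algebraMap C' S (q z) ^ k) := by
    intro z e l d S _ _ _ _ hz hmk hl
    let α := algebraMap C' S
    have hQu : IsUnit (α (q (Q e))) :=
      isUnit_of_mul_isUnit_right (x := α (q d)) (by rw [← map_mul, ← hl, map_pow]; exact hz.pow l)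
    obtain ⟨s, hs'⟩ := ((hz.pow (r * k)).mul (hc.map α))
    let v := α (q (Q e)) * ↑s⁻¹
    have hv : IsNilpotent (v - 1) := by
      have h := hnil _ (Ideal.Quotient.eq.1 (hmk.trans (by rw [map_mul, map_pow] :
        mk (q z) ^ (r * k) * mk c = mk (q z ^ (r * k) * c))))
      rw [show v - 1 = α (q (Q e) - q z ^ (r * k) * c) * ↑s⁻¹ by
        rw [map_sub, map_mul, map_pow, ← hs', sub_mul, Units.mul_inv]]
      exact (Commute.all _ _).isNilpotent_mul_right (h.map α)
    have hrS : IsUnit (r : S) := by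
      have := hr.map α
      rwa [map_natCast] at this
    obtain ⟨w, hw, hwr⟩ := exists_root r hrS v hv
    let g := α (q z) ^ k * w
    let φ : W →ₗ[C] S := (g * ↑hQu.unit⁻¹) • ((Algebra.linearMap C S).comp (ψ e))
    have hφ : φ e = g := by
      show g * ↑hQu.unit⁻¹ * algebraMap C S (ψ e e) = g
      rw [hψ, hcomp (S := S) (Q e), mul_assoc, IsUnit.val_inv_mul, mul_one]
    have hwu : IsUnit w := by simpa using hw.isUnit_add_one
    refine ⟨φ, hφ.symm ▸ (hz.pow k).mul hwu, ?_, ?_⟩
    · rw [hφ, mul_pow, hwr, ← pow_mul, mul_comm k r]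
      show α (q z) ^ (r * k) * (α (q (Q e)) * ↑s⁻¹) * α c = α (q (Q e))
      rw [show α (q z) ^ (r * k) * (α (q (Q e)) * ↑s⁻¹) * α c = α (q (Q e)) * ↑s⁻¹ * (α (q z) ^ (r * k) * α c)
        by ring, ← hs', mul_assoc, Units.inv_mul, mul_one]
    · rw [hφ, show g - α (q z) ^ k = α (q z) ^ k * (w - 1) by ring]
      exact (Commute.all _ _).isNilpotent_mul_left hw
  obtain ⟨φx, hux, hpx, hnx⟩ := mkfun x ex lx dx Sx (IsLocalization.Away.algebraMap_isUnit _) hcb hdx
  obtain ⟨φy, huy, hpy, hny⟩ := mkfun y ey ly dy Sy (IsLocalization.Away.algebraMap_isUnit _) hcby hdy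
  -- functionals kill the kernel
  have kill : ∀ {S : Type u} [CommRing S] [Algebra C' S] [Algebra C S] [IsScalarTower C C' S] (F : W →ₗ[C] S),
      ∀ v ∈ (K • ⊤ : Submodule C W), F v = 0 := by
    intro S _ _ _ _ F v hv
    refine Submodule.smul_induction_on hv (fun a ha w _ => ?_) fun a b ha hb => by rw [map_add, ha, hb, add_zero]
    rw [map_smul, Algebra.smul_def, hcomp (S := S) a, RingHom.mem_ker.1 ha, map_zero, zero_mul]
  have relOf : ∀ {S : Type u} [CommRing S] [Algebra C' S] [Algebra C S] [IsScalarTower C C' S] (F : W →ₗ[C] S)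
      {z : C} {e w : W} {l : ℕ} {a : C}, z ^ l • w - a • e ∈ (K • ⊤ : Submodule C W) →
      algebraMap C' S (q z) ^ l * F w = algebraMap C' S (q a) * F e := by
    intro S _ _ _ _ F z e w l a h
    have := kill F _ h
    rw [map_sub, sub_eq_zero, map_smul, map_smul, Algebra.smul_def, Algebra.smul_def, hcomp (S := S) (z ^ l), hcomp (S := S) a,
      map_pow q, map_pow] at this
    exact this
  have ext1 : ∀ {S : Type u} [CommRing S] [Algebra C' S] [Algebra C S] [IsScalarTower C C' S] (F F' : W →ₗ[C] S),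
      IsUnit (algebraMap C' S (q x)) → F ex = F' ex → F = F' := by
    intro S _ _ _ _ F F' hu h
    refine LinearMap.ext fun w => ?_
    obtain ⟨l, a, hla⟩ := genx w
    exact (hu.pow l).mul_right_injective ((relOf F hla).trans ((congrArg _ h).trans (relOf F' hla).symm))
  have ext2 : ∀ {S : Type u} [CommRing S] [Algebra C' S] [Algebra C S] [IsScalarTower C C' S] (F F' : W →ₗ[C] S),
      IsUnit (algebraMap C' S (q y)) → F ey = F' ey → F = F' := by
    intro S _ _ _ _ F F' hu h
    refine LinearMap.ext fun w => ?_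
    obtain ⟨l, a, hla⟩ := geny w
    exact (hu.pow l).mul_right_injective ((relOf F hla).trans ((congrArg _ h).trans (relOf F' hla).symm))
  let jxl : Sx →ₗ[C] T :=
    { jx.toAddMonoidHom with
      map_smul' := fun a s => by
        show jx (a • s) = a • jx s
        rw [Algebra.smul_def, Algebra.smul_def, map_mul, hcomp (S := Sx) a, hjx, ← hcomp (S := T) a] }
  let jyl : Sy →ₗ[C] T :=
    { jy.toAddMonoidHom with
      map_smul' := fun a s => by
        show jy (a • s) = a • jy s
        rw [Algebra.smul_def, Algebra.smul_def, map_mul, hcomp (S := Sy) a, hjy, ← hcomp (S := T) a] }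
  obtain ⟨ly', a, ha⟩ := geny ex
  have hkey : jxl.comp φx = jyl.comp φy := by
    refine ext1 _ _ hTx ?_
    show jx (φx ex) = jy (φy ex)
    let p := jx (φx ex)
    let p' := jy (φy ex)
    have hrel := congrArg jy (relOf φy ha)
    simp only [map_mul, map_pow, hjy] at hrel
    obtain ⟨pu, hpu⟩ : IsUnit p := hux.map jx
    have h1 : p' ^ r = p ^ r := by
      have e1 : p ^ r * algebraMap C' T c = algebraMap C' T (q (Q ex)) := by
        have := congrArg jx hpx
        simp only [map_mul, map_pow, hjx] at this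
        exact this
      have e2 : jy (φy ey) ^ r * algebraMap C' T c = algebraMap C' T (q (Q ey)) := by
        have := congrArg jy hpy
        simp only [map_mul, map_pow, hjy] at this
        exact this
      have e3 : algebraMap C' T (q y) ^ (ly' * r) * algebraMap C' T (q (Q ex)) =
          algebraMap C' T (q a) ^ r * algebraMap C' T (q (Q ey)) := by
        have := congrArg (algebraMap C' T) ((RingHom.sub_mem_ker_iff q).1 (hQc K _ _ ha))
        rw [hQh, hQh] at this
        simp only [map_mul, map_pow, ← pow_mul] at this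
        exact this
      refine ((hTy.pow (ly' * r)).mul (hc.map (algebraMap C' T))).mul_left_injective ?_
      show p' ^ r * (algebraMap C' T (q y) ^ (ly' * r) * algebraMap C' T c) =
        p ^ r * (algebraMap C' T (q y) ^ (ly' * r) * algebraMap C' T c)
      rw [show p' ^ r * (algebraMap C' T (q y) ^ (ly' * r) * algebraMap C' T c) =
          (algebraMap C' T (q y) ^ ly' * p') ^ r * algebraMap C' T c by rw [mul_pow, ← pow_mul]; ring,
        hrel, mul_pow, mul_assoc, e2, ← e3, ← e1]
      ring
    have h2 : IsNilpotent (p' - p) := by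
      have hn0 : IsNilpotent (algebraMap C' T (q y ^ ly' * q x ^ k - q a * q y ^ k)) := by
        refine (hnil _ (Ideal.Quotient.eq.1 ?_)).map _
        have := congrArg red (sub_add_cancel (y ^ ly' • ex) (a • ey))
        have h0 : red (y ^ ly' • ex - a • ey) = 0 := by
          refine Submodule.smul_induction_on ha (fun b hb w _ => ?_) fun u v hu hv => by rw [map_add, hu, hv, add_zero]
          rw [hredsmul, RingHom.mem_ker.1 hb, map_zero, zero_mul]
        rw [map_sub, sub_eq_zero, hredsmul, hredsmul, hex, hey] at h0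
        simpa only [map_mul, map_pow] using h0
      have hny' := hny.map jy
      rw [map_sub, map_pow, hjy] at hny'
      have hnx' := hnx.map jx
      rw [map_sub, map_pow, hjx] at hnx'
      simp only [map_sub, map_mul, map_pow] at hn0
      have hsum : IsNilpotent (algebraMap C' T (q y) ^ ly' * (p' - p)) := by
        rw [show algebraMap C' T (q y) ^ ly' * (p' - p) =
          (algebraMap C' T (q a) * (jy (φy ey) - algebraMap C' T (q y) ^ k) -
            (algebraMap C' T (q y) ^ ly' * algebraMap C' T (q x) ^ k - algebraMap C' T (q a) * algebraMap C' T (q y) ^ k)) -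
            algebraMap C' T (q y) ^ ly' * (p - algebraMap C' T (q x) ^ k) by
          rw [mul_sub, hrel]; ring]
        exact (Commute.all _ _).isNilpotent_sub ((Commute.all _ _).isNilpotent_sub
          ((Commute.all _ _).isNilpotent_mul_left hny') hn0) ((Commute.all _ _).isNilpotent_mul_left hnx')
      obtain ⟨u, hu⟩ := hTy.pow ly'
      rw [show p' - p = ↑u⁻¹ * (algebraMap C' T (q y) ^ ly' * (p' - p)) by rw [← hu, Units.inv_mul_cancel_left]]
      exact (Commute.all _ _).isNilpotent_mul_left hsum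
    have hrT : IsUnit (r : T) := by
      have := hr.map (algebraMap C' T)
      rwa [map_natCast] at this
    have h3 := root_unique r hrT (w := p' * ↑pu⁻¹) (by
      rw [show p' * ↑pu⁻¹ - 1 = (p' - p) * ↑pu⁻¹ by rw [sub_mul, ← hpu, Units.mul_inv]]
      exact (Commute.all _ _).isNilpotent_mul_right h2) (by rw [mul_pow, h1, ← mul_pow, ← hpu, Units.mul_inv, one_pow])
    have := congrArg (· * (pu : T)) h3
    simp only [Units.inv_mul_cancel_right, one_mul] at this
    exact hpu.symm.trans this.symm
  -- glue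
  have glue : ∀ w : W, ∃ b : C', algebraMap C' Sx b = φx w ∧ algebraMap C' Sy b = φy w := fun w =>
    hp.exists_glue (φx w) (φy w) jx jy hjx hjy (LinearMap.congr_fun hkey w)
  choose φ₀ hφ₁ hφ₂ using glue
  let φ : W →ₗ[C] C' :=
    { toFun := φ₀
      map_add' := fun v w => hp.map_injective_left (by rw [map_add, hφ₁, hφ₁, hφ₁, map_add])
      map_smul' := fun b w => hp.map_injective_left (by
        rw [RingHom.id_apply, hφ₁, Algebra.smul_def, map_mul, hφ₁, ← hcomp, map_smul, Algebra.smul_def]) }
  refine ⟨φ, fun b b' hbb => ?_, fun F => ?_⟩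
  · refine hp.map_injective_left (hux.mul_left_injective ?_)
    show algebraMap C' Sx b * φx ex = algebraMap C' Sx b' * φx ex
    have h : b * φ₀ ex = b' * φ₀ ex := LinearMap.congr_fun hbb ex
    rw [← hφ₁, ← map_mul, ← map_mul, h]
  · let cx := algebraMap C' Sx (F ex) * ↑hux.unit⁻¹
    let cy := algebraMap C' Sy (F ey) * ↑huy.unit⁻¹
    have hcx : cx * φx ex = algebraMap C' Sx (F ex) := by rw [mul_assoc, IsUnit.val_inv_mul, mul_one]
    have hcy : cy * φy ey = algebraMap C' Sy (F ey) := by rw [mul_assoc, IsUnit.val_inv_mul, mul_one]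
    have hFy : cy • φy = (IsScalarTower.toAlgHom C C' Sy).toLinearMap.comp F := ext2 _ _
      (IsLocalization.Away.algebraMap_isUnit _) hcy
    have hFx : cx • φx = (IsScalarTower.toAlgHom C C' Sx).toLinearMap.comp F := ext1 _ _
      (IsLocalization.Away.algebraMap_isUnit _) hcx
    obtain ⟨b, hbx, hby⟩ := hp.exists_glue cx cy jx jy hjx hjy (by
      refine (hux.map jx).mul_left_injective ?_
      show jx cx * jx (φx ex) = jy cy * jx (φx ex)
      rw [← map_mul jx, hcx, hjx, show jx (φx ex) = jy (φy ex) from LinearMap.congr_fun hkey ex, ← map_mul jy]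
      have := LinearMap.congr_fun hFy ex
      rw [show cy * φy ex = algebraMap C' Sy (F ex) from this, hjy])
    refine ⟨b, LinearMap.ext fun w => hp.map_injective_left ?_⟩
    show algebraMap C' Sx (b * φ₀ w) = algebraMap C' Sx (F w)
    rw [map_mul, hφ₁, hbx]
    exact LinearMap.congr_fun hFx w

end Core

end GrothLib.ArtCrit20

end
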