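import Groth.Agent.Lib.ArtCrit20.S3Fibre
import Groth.Agent.Lib.ArtCrit20.Invert

/-!
# Rank one sheaves trivial on a fibre with `(S₃)`
-/

set_option autoImplicit false
set_option linter.all false
set_option backward.isDefEq.respectTransparency false
set_option maxHeartbeats 4000000

universe u

open CategoryTheory CategoryTheory.Limits AlgebraicGeometry TopologicalSpace IsLocalRing Function
open scoped TensorProduct

noncomputable section

namespace GrothLib.ArtCrit20

open GrothLib.OX GrothLib.RightAdj22 GrothLib.DualFree20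

variable {X S : Scheme.{u}}

/-- A reflexive rank one sheaf trivial on a fibre with `(S₃)` and small bad set is invertible. -/
theorem invertibleAt_of_S3 (f : X ⟶ S) [Flat f] [LocallyOfFinitePresentation f] [IsLocallyNoetherian X]
    [IsLocallyNoetherian S] (hS : RelCanon.IsSkMor f 2) (W₁ : X.Modules) (hGc : Coh.IsCoh W₁) (U : X.Opens)
    (hWU : PicF.IsInvertible (W₁.restrict U.ι)) (t : S) (z : f.fiber t)
    [hrefl : Module.IsReflexive (X.presheaf.stalk (f.fiberι t z)) (W₁.presheaf.stalk (f.fiberι t z))]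
    (hG1 : ∀ x : X, f x = t → x ∉ U → (3 : WithBot ℕ∞) ≤ ringKrullDim ((f.fiber (f x)).presheaf.stalk (f.asFiber x)))
    (h3 : RelCanon.SkAt 3 (Coh.structureModule (f.fiber t)) z)
    (hDi : RelCanon.InvertibleAt (RefHull.ddual ((Scheme.Modules.pullback (f.fiberι t)).obj W₁)) z) :
    RelCanon.InvertibleAt W₁ (f.fiberι t z) := by
  classical
  let ι := f.fiberι t
  let y := ι z
  let G := W₁
  have hinv : ∀ x, x ∈ U → RelCanon.InvertibleAt G x := fun x hx => invertibleAt_of_restrict U hWU x hx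
  by_cases hy : y ∈ U
  · exact hinv y hy
  have hfy : f y = t := (f.range_fiberι t ▸ Set.mem_range_self z : f.fiberι t z ∈ f ⁻¹' {t})
  let C := X.presheaf.stalk y
  let R := S.presheaf.stalk (f y)
  letI : Algebra R C := (f.stalkMap y).hom.toAlgebra
  haveI : IsLocalHom (algebraMap R C) := inferInstanceAs (IsLocalHom (f.stalkMap y).hom)
  haveI : Module.Flat R C := Flat.stalkMap f y
  let F := G.presheaf.stalk y
  haveI : Module.Finite C F := QuasiFlat.finite_stalk _ hGc y
  letI : Module R F := Module.compHom F (f.stalkMap y).hom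
  haveI : IsScalarTower R C F := IsScalarTower.of_algebraMap_smul fun _ _ => rfl
  let Z : Set (PrimeSpectrum C) := {q | pt y q ∉ U}
  have hZ : IsClosed Z := (U.isOpen.preimage (X.fromSpecStalk y).continuous).isClosed_compl
  let J : Ideal C := PrimeSpectrum.vanishingIdeal Z
  have hJq : ∀ q : PrimeSpectrum C, J ≤ q.asIdeal → pt y q ∉ U := fun q hq => by
    have h : q ∈ PrimeSpectrum.zeroLocus (J : Set C) := hq
    rw [PrimeSpectrum.zeroLocus_vanishingIdeal_eq_closure, hZ.closure_eq] at h
    exact h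
  have hJq' : ∀ q : PrimeSpectrum C, ¬ J ≤ q.asIdeal → pt y q ∈ U := fun q hq => by
    by_contra h
    exact hq fun c hc => (PrimeSpectrum.mem_vanishingIdeal _ _).1 hc q h
  have hFU : ∀ q : PrimeSpectrum C, ¬ J ≤ q.asIdeal →
      Module.Free (Localization.AtPrime q.asIdeal) (LocalizedModule q.asIdeal.primeCompl F) :=
    fun q hq => free_localized_stalk hGc y q (hinv _ (hJq' q hq))
  have hJtop : J ≠ ⊤ := fun h => by
    have hmem : (closedPoint C) ∈ Z := by
      show pt y (closedPoint C) ∉ U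
      rwa [show pt y (closedPoint C) = y from Scheme.fromSpecStalk_closedPoint]
    exact (maximalIdeal.isMaximal C).ne_top (top_le_iff.1 (h ▸ fun c hc =>
      (PrimeSpectrum.mem_vanishingIdeal _ _).1 hc _ hmem))
  let I : Ideal C := (maximalIdeal R).map (algebraMap R C)
  obtain ⟨θ, -, hθ, -, -⟩ := exists_closed_equiv (C := C) C
  let X₀ := Localization.AtPrime (maximalIdeal C)
  let θq : (C ⧸ I) ≃+* EGA4.FibLocRing R C (maximalIdeal C) := Ideal.quotientEquiv _ _ θ (by
      rw [Ideal.map_map, show (maximalIdeal C).comap (algebraMap R C) = maximalIdeal R from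
        IsLocalRing.maximalIdeal_comap _, show (θ : C →+* X₀).comp (algebraMap R C) = algebraMap R X₀ from
        RingHom.ext fun r => (hθ _).trans (IsScalarTower.algebraMap_apply R C X₀ r).symm])
  have hS2 := hasSk_closedFibre f hS y
  have hcodim : ∀ r : PrimeSpectrum C, J ≤ r.asIdeal →
      r.asIdeal.comap (algebraMap R C) = (maximalIdeal C).comap (algebraMap R C) →
      (2 : WithBot ℕ∞) ≤ ringKrullDim (EGA4.FibLocRing R C r.asIdeal) := fun r hr hrm => by
    have hfx : f (pt y r) = f y := by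
      show f (X.fromSpecStalk y r) = f y
      rw [← Scheme.Hom.comp_apply, ← Scheme.SpecMap_stalkMap_fromSpecStalk, Scheme.Hom.comp_apply,
        show Spec.map (f.stalkMap y) r = closedPoint R from
          PrimeSpectrum.ext (hrm.trans (IsLocalRing.maximalIdeal_comap _))]
      exact Scheme.fromSpecStalk_closedPoint
    exact ((show (2 : WithBot ℕ∞) ≤ 3 by decide).trans (hG1 _ (hfx.trans hfy) (hJq r hr))).trans (ringKrullDim_fibLoc_stalk f y r).ge
  have hD : 2 ≤ LocCoh.idealDepth (J.map (Ideal.Quotient.mk I)) (C ⧸ I) := by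
    have h := GrothLib.FlatOff.two_le_depth_fibLocRing (A := R) J (maximalIdeal C)
      (GrothLib.SnFibres.hasSk_congr θq hS2) hcodim
    rw [GrothLib.FiniteQuot.idealDepth_congr θq θq.toAddEquiv (fun a b => map_mul θq a b) (J.map (Ideal.Quotient.mk I)),
      Ideal.map_map, show (θq : (C ⧸ I) →+* EGA4.FibLocRing R C (maximalIdeal C)).comp (Ideal.Quotient.mk I) =
        algebraMap C (EGA4.FibLocRing R C (maximalIdeal C)) from RingHom.ext fun c => by
          show Ideal.Quotient.mk _ (θ c) = _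
          rw [hθ]; rfl]
    exact h
  have hC2 : 2 ≤ LocCoh.idealDepth J C := two_le_depth_self_of_fibre J hJtop hD
  let Xt := f.fiber t
  haveI : LocallyOfFiniteType (f.fiberToSpecResidueField t) :=
    MorphismProperty.pullback_snd _ _ (inferInstance : LocallyOfFiniteType f)
  haveI : IsLocallyNoetherian Xt := LocallyOfFiniteType.isLocallyNoetherian (f.fiberToSpecResidueField t)
  let P := (Scheme.Modules.pullback ι).obj G
  have hPc : Coh.IsCoh P := ModDesc.isCoh_pullback ι _ hGc
  let Q := Xt.presheaf.stalk z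
  let π : C →+* Q := (ι.stalkMap z).hom
  let J' : Ideal Q := J.map π
  have hmem : ∀ w : Xt, f (ι w) = t := fun w =>
    (f.range_fiberι t ▸ Set.mem_range_self w : f.fiberι t w ∈ f ⁻¹' {t})
  haveI : IsNoetherianRing Q := GrothLib.DimCut.isNoetherianRing_stalk_fiber f _ _
  have hN3' : ((3 : ℕ) : ℕ∞) ≤ LocCoh.idealDepth J' Q := by
    haveI : Module.Finite Q ((Coh.structureModule Xt).presheaf.stalk z) :=
      Module.Finite.equiv (GrothLib.HomSh.unitStalk (X := Xt) z)
    have h3' : LocCoh.HasSk 3 Q Q :=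
      GrothLib.SkExt.hasSk_congr (GrothLib.HomSh.unitStalk (X := Xt) z).symm h3
    refine GrothLib.DepthExt20.le_idealDepth_of_forall_depth J' fun q hq => ?_
    have hd3 : (3 : WithBot ℕ∞) ≤ ringKrullDim (Localization.AtPrime q.asIdeal) := by
      obtain ⟨σ, -, -⟩ := exists_pt_equiv (G := Coh.structureModule Xt) (HomSh.isCoh_structureModule Xt) z q
      rw [← ringKrullDim_eq_of_ringEquiv σ]
      refine (hG1 _ (hmem (pt z q)) ?_).trans (dim_fibre_point f t (pt z q)).ge
      intro h
      rw [map_pt] at h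
      exact hJq _ (Ideal.map_le_iff_le_comap.1 hq) h
    have h := h3' q.asIdeal
    let Qq := Localization.AtPrime q.asIdeal
    let eq₀ : LocalizedModule q.asIdeal.primeCompl Q ≃ₗ[Qq] Qq :=
      (LocalizedModule.equivTensorProduct q.asIdeal.primeCompl Q).trans (TensorProduct.AlgebraTensorModule.rid Q Qq Qq)
    rw [show Module.supportDim Qq (LocalizedModule q.asIdeal.primeCompl Q) = ringKrullDim Qq from
      (Module.supportDim_eq_of_equiv eq₀).trans (Module.supportDim_self_eq_ringKrullDim Qq)] at h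
    have h0 : ((3 : ℕ) : WithBot ℕ∞) ≤ ringKrullDim Qq := by exact_mod_cast hd3
    rw [min_eq_left h0] at h
    exact WithBot.coe_le_coe.1 h
  obtain ⟨θ', e', hθ', he'⟩ := exists_fibre_stalk_equiv_map f G t z
  obtain ⟨es⟩ := nonempty_ddual_stalk hPc z
  obtain ⟨ts⟩ := nonempty_stalk_equiv_of_invertibleAt hDi
  let Φ : Q ≃ₗ[Q] Module.Dual Q (Module.Dual Q (P.presheaf.stalk z)) := ts.trans es
  haveI : Module.Finite Q (P.presheaf.stalk z) := QuasiFlat.finite_stalk _ hPc z
  have hPU : ∀ q : PrimeSpectrum Q, ¬ J' ≤ q.asIdeal →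
      Module.Free (Localization.AtPrime q.asIdeal) (LocalizedModule q.asIdeal.primeCompl (P.presheaf.stalk z)) :=
    fun q hq => free_localized_stalk hPc z q (invertibleAt_pullback ι _ (hinv _ (by
      rw [map_pt]
      exact hJq' _ fun h => hq (Ideal.map_le_iff_le_comap.2 h))))
  letI : Algebra C Q := π.toAlgebra
  haveI : Module.Finite C Q := Module.Finite.of_surjective (Algebra.linearMap C Q) (FibreFlat.fiberι_stalkMap f t z).1
  have hN3 : ((3 : ℕ) : ℕ∞) ≤ LocCoh.idealDepth J (Q) := by
    rw [← GrothLib.Depth.idealDepth_map_eq (B := Q)]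
    exact hN3'
  let M := EGA4.FibMod R C F
  have he : ∀ (c : C) (x : M), e' (c • x) = π c • e' x := fun c x => by
    rw [← hθ' c]
    obtain ⟨w, rfl⟩ := Submodule.Quotient.mk_surjective _ x
    exact he' (Ideal.Quotient.mk _ c) (Submodule.Quotient.mk w)
  let a : M →ₗ[C] Q :=
    { toFun := fun x => Φ.symm (Module.Dual.eval Q _ (e' x))
      map_add' := fun x x' => by rw [map_add, map_add, map_add]
      map_smul' := fun c x => by
        rw [he, map_smul, map_smul, smul_eq_mul, RingHom.id_apply, Algebra.smul_def]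
        rfl }
  have hH2 : Subsingleton (LocCoh.H J 2 M) := by
    refine subsingleton_H_two J a (fun w hw x hx => ?_) (fun n x hx => ?_) hN3
    · obtain ⟨k, σ, hσ, -⟩ := GrothLib.FlatOff.exists_pseudoInverse_eval J' (P.presheaf.stalk z) hPU (π x)
        (Ideal.mem_map_of_mem π hx)
      have h0 : Module.Dual.eval Q _ (e' w) = 0 := Φ.symm.map_eq_zero_iff.1 hw
      refine ⟨k, e'.map_eq_zero_iff.1 ?_⟩
      rw [he, map_pow, ← hσ, h0, map_zero]
    · obtain ⟨k, σ, -, hσ⟩ := GrothLib.FlatOff.exists_pseudoInverse_eval J' (P.presheaf.stalk z) hPU (π x)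
        (Ideal.mem_map_of_mem π hx)
      refine ⟨k, e'.symm (σ (Φ n)), ?_⟩
      show Φ.symm (Module.Dual.eval Q _ (e' (e'.symm (σ (Φ n))))) = x ^ k • n
      rw [e'.apply_symm_apply, hσ, map_smul, Φ.symm_apply_apply, smul_eq_mul, Algebra.smul_def, ← map_pow]
      rfl
  obtain ⟨N₀, N₁, g, h, hg, hgh, hfree⟩ := GrothLib.FreeOff.exists_presentation (B := C) F
  let Gc := (Fin N₁ → C) ⧸ LinearMap.range h
  have hGU : ∀ q : PrimeSpectrum C, ¬ J ≤ q.asIdeal → FlatCA.FlatAt R q.asIdeal Gc := fun q hq => by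
    haveI := hfree q.asIdeal (hFU q hq)
    haveI : Module.Flat R (Localization.AtPrime q.asIdeal) :=
      haveI : Module.Flat C (Localization.AtPrime q.asIdeal) := IsLocalization.flat _ q.asIdeal.primeCompl
      Module.Flat.trans R C _
    haveI : IsScalarTower R (Localization.AtPrime q.asIdeal) (LocalizedModule q.asIdeal.primeCompl Gc) :=
      IsScalarTower.of_algebraMap_smul fun r w => by
        rw [IsScalarTower.algebraMap_apply R C (Localization.AtPrime q.asIdeal), algebraMap_smul, algebraMap_smul]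
    exact Module.Flat.trans R (Localization.AtPrime q.asIdeal) _
  have hDC : ((2 : ℕ) : ℕ∞) ≤ LocCoh.idealDepth J (C ⧸ I) := by
    rw [← GrothLib.Depth.idealDepth_map_eq (B := C ⧸ I)]
    exact_mod_cast hD
  have hfr : ∀ k : ℕ, ((2 : ℕ) : ℕ∞) ≤ LocCoh.idealDepth J (EGA4.FibMod R C (Fin k → C)) := fun k => by
    let e : EGA4.FibMod R C (Fin k → C) ≃ₗ[C] (Fin k → C ⧸ I) :=
      (TensorProduct.quotTensorEquivQuotSMul (Fin k → C) I).symm.trans (TensorProduct.piScalarRight C C (C ⧸ I) (Fin k))
    rw [GrothLib.Depth.idealDepth_eq_of_equiv _ e]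
    exact GrothLib.DepthKer.le_idealDepth_pi _ _ hDC k
  haveI : Module.Flat R (Fin N₀ → C) := Module.Flat.trans R C _
  haveI : Module.Flat R (Fin N₁ → C) := Module.Flat.trans R C _
  obtain ⟨hFflat, -, hfib⟩ := Groth.Agent.S18726.result R C J F (Fin N₀ → C) (Fin N₁ → C) Gc g h
    (LinearMap.range h).mkQ hg hgh (LinearMap.exact_map_mkQ_range h) (Submodule.mkQ_surjective _) hGU
    (by exact_mod_cast hfr N₀) ((one_le_two).trans (by exact_mod_cast hfr N₁)) hH2
  have hfib' : 2 ≤ LocCoh.idealDepth (J.map (Ideal.Quotient.mk I)) (F ⧸ (I • ⊤ : Submodule C F)) := by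
    haveI : Module.Finite (C ⧸ I) (F ⧸ (I • ⊤ : Submodule C F)) := Module.Finite.of_restrictScalars_finite C _ _
    show 2 ≤ LocCoh.idealDepth (J.map (algebraMap C (C ⧸ I))) _
    rw [GrothLib.Depth.idealDepth_map_eq (B := C ⧸ I)]
    exact hfib
  have hgood : Good 2 (algebraMap R C) F := ⟨hFflat,
    GrothLib.FlatOff.hasSk_two_of_depth _ J (fun Q' hQ hJQ => by
      haveI := hFU ⟨Q', hQ⟩ hJQ
      obtain ⟨k, α, β, s, hs⟩ := GrothLib.FreeOff.exists_factor_of_free (B := C) F Q'
      exact ⟨k, α, β, s, s.2, hs⟩) hS2 hfib'⟩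
  haveI : IsArtinianRing (R ⧸ maximalIdeal R) := by letI := Ideal.Quotient.field (maximalIdeal R); infer_instance
  haveI : IsLocalRing (R ⧸ maximalIdeal R) := IsLocalRing.of_surjective' (Ideal.Quotient.mk _) Ideal.Quotient.mk_surjective
  have hev := (good_ddual_quot F J hJtop hFU hD hgood (maximalIdeal R)).2
  let C₀ := C ⧸ I
  let ec : C₀ ⊗[C] F ≃+ P.presheaf.stalk z := (TensorProduct.quotTensorEquivQuotSMul F I).toAddEquiv.trans e'
  have hec : ∀ (b : C₀) v, ec (b • v) = θ' b • ec v := fun b v => by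
    obtain ⟨c, rfl⟩ := Ideal.Quotient.mk_surjective b
    show e' (TensorProduct.quotTensorEquivQuotSMul F I (c • v)) = _
    rw [map_smul, he, ← hθ' c]
    rfl
  haveI : Module.IsReflexive Q (P.presheaf.stalk z) :=
    haveI : Module.IsReflexive C₀ (C₀ ⊗[C] F) := ⟨hev⟩
    GrothLib.Ref1.isReflexive_of_semilinear θ'.toRingHom ec.toAddMonoidHom θ'.bijective ec.bijective hec
  have hgfl := ((relSkAt_iff_good f hGc 2 y).2 hgood).1
  exact invertibleAt_of_fibre f hGc t z hgfl (invertibleAt_of_stalk hPc z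
    ((Module.evalEquiv Q (P.presheaf.stalk z)).trans Φ.symm))

end GrothLib.ArtCrit20

end
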